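import Cfsg.Agent.Lib.SUFour.PauliFrame
import Cfsg.Agent.Lib.SpFourEven.Simple

/-! The symplectic type case for `SU_4(q)`. -/

set_option autoImplicit false
set_option linter.unusedSectionVars false

open scoped Matrix MatrixGroups

namespace Cfsg.Agent.Lib.SUFour

open Cfsg.Geo
open scoped commutatorElement

variable {F : Type*} [Field F] [Fintype F] {q : ℕ}

local notation "M4" => Matrix (Fin 4) (Fin 4) F
local notation "G4" => GL (Fin 4) F
local notation "hf" => Cfsg.hermForm 4 F q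

theorem herm_expand (hF : Fintype.card F = q ^ 2) (v : Fin 4 → Fin 4 → F) (a b : Fin 4 → F) :
    hf (∑ i, a i • v i) (∑ j, b j • v j) = ∑ i, ∑ j, a i * (b j) ^ q * hf (v i) (v j) := by
  show UnitPrimeDim.hermLeft 4 F q (∑ j, b j • v j) (∑ i, a i • v i) = _
  rw [map_sum]
  refine Finset.sum_congr rfl fun i _ => ?_
  rw [map_smul, smul_eq_mul]
  show a i * UnitPrimeDim.hermRight hF (v i) (∑ j, b j • v j) = _
  rw [map_sum, Finset.mul_sum]
  refine Finset.sum_congr rfl fun j _ => ?_
  show a i * hf (v i) (b j • v j) = _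
  rw [UnitPrimeDim.herm_smul_right]; ring

theorem mulVec_cols (P : M4) (a : Fin 4 → F) : P *ᵥ a = ∑ j, a j • P.col j := by
  ext i
  simp [Matrix.mulVec, dotProduct, Finset.sum_apply, mul_comm]

/-- a scalar matrix as a unit -/
noncomputable def scU {c : F} (hc : c ≠ 0) : G4 :=
  Units.map (Matrix.scalar (Fin 4) : F →+* M4).toMonoidHom (Units.mk0 c hc)

theorem scU_mem {c : F} (hc : c ≠ 0) : scU hc ∈ scalars (Fin 4) F := ⟨_, rfl⟩

theorem scU_val {c : F} (hc : c ≠ 0) : (scU hc : M4) = c • 1 := by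
  show Matrix.scalar (Fin 4) c = _
  rw [Matrix.scalar_apply, Matrix.smul_one_eq_diagonal]

theorem val_scalars {g : G4} : g ∈ scalars (Fin 4) F ↔ ∃ c : F, c ≠ 0 ∧ (g : M4) = c • 1 := by
  rw [mem_scalars_iff]
  refine ⟨fun ⟨c, hc⟩ => ⟨c, c.ne_zero, hc⟩, fun ⟨c, h0, hc⟩ => ⟨Units.mk0 c h0, hc⟩⟩

theorem comm_scalars {g : G4} (hg : g ∈ scalars (Fin 4) F) (h : G4) : g * h = h * g := by
  obtain ⟨c, -, hc⟩ := val_scalars.1 hg
  refine Units.ext ?_
  rw [Units.val_mul, Units.val_mul, hc, smul_mul_assoc, one_mul, mul_smul_comm, mul_one]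

theorem det_smul_four (c : F) (A : M4) : (c • A).det = c ^ 4 * A.det := by
  rw [Matrix.det_smul, Fintype.card_fin]

theorem exists_sqrt (hF : Fintype.card F = q ^ 2) (h2 : (2 : F) ≠ 0) {s : F} (hs : s ^ 4 = 1) :
    ∃ l : F, l * l = s := by
  have hchar : ringChar F ≠ 2 := fun e => h2 (by
    have := ringChar.Nat.cast_ringChar (R := F); rw [e] at this; exact_mod_cast this)
  have hodd : q % 2 = 1 := by
    have := FiniteField.odd_card_of_char_ne_two hchar
    rw [hF, Nat.pow_mod] at this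
    rcases Nat.mod_two_eq_zero_or_one q with h | h
    · rw [h] at this; simp at this
    · exact h
  obtain ⟨j, hj⟩ : ∃ j, q = 2 * j + 1 := ⟨q / 2, by omega⟩
  have h8 : 4 ∣ Fintype.card F / 2 := by
    obtain ⟨i, hi⟩ := (Nat.even_mul_succ_self j).two_dvd
    refine ⟨i, ?_⟩
    rw [hF, hj, show (2 * j + 1) ^ 2 = 2 * (2 * (j * (j + 1))) + 1 by ring, hi]
    omega
  obtain ⟨k, hk⟩ := h8
  have hs0 : s ≠ 0 := fun e => by simp [e] at hs
  obtain ⟨l, hl⟩ := (FiniteField.isSquare_iff hchar hs0).2 (by rw [hk, pow_mul, hs, one_pow])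
  exact ⟨l, hl.symm⟩

theorem exists_norm_eq (hF : Fintype.card F = q ^ 2) {a : F} (ha0 : a ≠ 0) (ha : a ^ q = a) :
    ∃ l : F, l ≠ 0 ∧ l * l ^ q = a := by
  let σ : F →+* F := Classical.conjHom hF
  have hσ : ∀ x, σ x = x ^ q := fun x => Classical.conjHom_apply hF x
  let e : F ≃+* F := RingEquiv.ofBijective σ ⟨σ.injective, Finite.surjective_of_injective σ.injective⟩
  have he : ∀ x, e x = x ^ q := hσ
  have hne : e ≠ RingEquiv.refl F := by
    intro h
    obtain ⟨c, hc, hc0⟩ : ∃ c : F, c ^ q ≠ c ∧ True := by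
      by_contra hall
      push Not at hall
      have hall' : ∀ c : F, c ^ q = c := fun c => by_contra fun hcq => hall c hcq
      have hq2 : 2 ≤ q := Classical.two_le_q hF
      obtain ⟨g, hg⟩ := IsCyclic.exists_generator (α := Fˣ)
      have h1 : g ^ (q - 1) = 1 := by
        have e1 : g ^ q = g := Units.ext (by rw [Units.val_pow_eq_pow_val]; exact hall' _)
        rw [← mul_right_inj g, ← pow_succ', show q - 1 + 1 = q by omega, e1, mul_one]
      have h2 := Nat.le_of_dvd (by omega) (orderOf_dvd_of_pow_eq_one h1)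
      rw [orderOf_eq_card_of_forall_mem_zpowers hg, Nat.card_units, Nat.card_eq_fintype_card, hF, pow_two] at h2
      have : 2 * q ≤ q * q := Nat.mul_le_mul_right q hq2
      omega
    exact hc (by rw [← he, h]; rfl)
  obtain ⟨l, hl0, hl⟩ := PrimeDim.FormDescent.exists_norm e hne
    (fun x => by rw [show e (e x) = σ (σ x) from rfl]; exact Classical.conjHom_conjHom hF x) ha0
    (by rw [he, ha])
  exact ⟨l, hl0, by rw [← he]; exact hl⟩

theorem exists_subfield_card (k : ℕ) (hk : 2 ≤ k) {p : ℕ} [hp : Fact p.Prime] [CharP F p] {d : ℕ}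
    (hkd : k = p ^ d) (hdvd : k - 1 ∣ Nat.card F - 1) :
    ∃ F₀ : Subfield F, Nat.card F₀ = k ∧ ∀ x, x ∈ F₀ ↔ x ^ k = x := by
  let σ : F →+* F := iterateFrobenius F p d
  have hσ : ∀ x, σ x = x ^ k := fun x => by rw [hkd]; exact iterateFrobenius_def (R := F) p d x
  let F₀ : Subfield F := RingHom.eqLocusField σ (RingHom.id F)
  have hmem : ∀ x, x ∈ F₀ ↔ x ^ k = x := fun x => by rw [← hσ]; rfl
  refine ⟨F₀, ?_, hmem⟩
  rw [← SpFourEven.card_fix (C := F) hk hdvd]
  exact Nat.card_congr (Equiv.subtypeEquivRight hmem)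

/-- The group `R` attached to `N`. -/
theorem exists_grp (hF : Fintype.card F = q ^ 2) {H N : Subgroup G4}
    (hH : Cfsg.Geo.IsMaximalIn (UnitPrimeDim.omegaU 4 F q) H) (hn : NormalIn H N)
    (hNZ : ¬ N ≤ scalars (Fin 4) F) (habs : ActsAbsolutelyIrreducibly (matrixSet N))
    (hcomm : ⁅N, N⁆ ≤ scalars (Fin 4) F)
    (hmin : ∀ M, NormalIn H M → M ≤ N → M ≤ scalars (Fin 4) F ∨ M = N) :
    ∃ (R : Subgroup G4) (I : F), PauliFrame.Grp R I ∧ (∀ h ∈ H, ∀ g ∈ R, h * g * h⁻¹ ∈ R) ∧
      (∀ g ∈ R, ∃ n ∈ N, ∃ c : F, c ≠ 0 ∧ (g : M4) = c • (n : M4)) ∧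
      (∀ n ∈ N, ∃ g ∈ R, ∃ c : F, c ≠ 0 ∧ (g : M4) = c • (n : M4)) := by
  classical
  have hNU : N ≤ UnitPrimeDim.omegaU 4 F q := hn.le.trans hH.1.le
  have hdet : ∀ n ∈ N, (n : M4).det = 1 := fun n hn' => by
    have h1 : Matrix.GeneralLinearGroup.det n = 1 := (hNU hn').2
    exact congrArg Units.val h1
  have sc_of : ∀ x : G4, (∀ b ∈ N, (x : M4) * b = (b : M4) * x) → x ∈ scalars (Fin 4) F := fun x hx => by
    obtain ⟨c, hc⟩ := habs.2 (x : M4) (by rintro _ ⟨b, hb, rfl⟩; exact hx b hb)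
    exact val_scalars.2 ⟨c, fun e => x.ne_zero (by rw [hc, e, zero_smul]), hc⟩
  have hc4 : ∀ a ∈ N, ∀ b ∈ N, ∃ c : F, c ^ 4 = 1 ∧ (a : M4) * b = c • ((b : M4) * a) := by
    intro a ha b hb
    obtain ⟨c, -, hc⟩ := val_scalars.1 (hcomm (Subgroup.commutator_mem_commutator ha hb))
    have h1 : (a : M4) * b = c • ((b : M4) * a) := by
      have e : a * b = ⁅a, b⁆ * (b * a) := by rw [commutatorElement_def]; group
      have e' := congrArg Units.val e
      rwa [Units.val_mul, Units.val_mul, hc, smul_mul_assoc, one_mul, Units.val_mul] at e'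
    refine ⟨c, ?_, h1⟩
    have h2 := congrArg Matrix.det h1
    rw [det_smul_four, Matrix.det_mul, Matrix.det_mul, hdet a ha, hdet b hb] at h2
    simpa using h2.symm
  -- commutators are signs
  let K : G4 → Subgroup G4 := fun b =>
    { carrier := {x | (x : M4) * b = (b : M4) * x ∨ (x : M4) * b = -((b : M4) * x)}
      one_mem' := Or.inl (by simp)
      mul_mem' := fun {x y} hx hy => by
        show (_ : M4) = _ ∨ (_ : M4) = _
        rw [Units.val_mul]
        rcases hy with hy | hy <;> rcases hx with hx | hx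
        · left; rw [mul_assoc, hy, ← mul_assoc, hx, mul_assoc]
        · right; rw [mul_assoc, hy, ← mul_assoc, hx, neg_mul, mul_assoc]
        · right; rw [mul_assoc, hy, mul_neg, ← mul_assoc, hx, mul_assoc]
        · left; rw [mul_assoc, hy, mul_neg, ← mul_assoc, hx, neg_mul, neg_neg, mul_assoc]
      inv_mem' := fun {x} hx => by
        rcases hx with hx | hx
        · left
          have e := congrArg (fun A => ((x⁻¹ : G4) : M4) * A * ((x⁻¹ : G4) : M4)) hx
          simp only [← mul_assoc, Units.inv_mul, one_mul] at e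
          rw [mul_assoc, mul_assoc, Units.mul_inv, mul_one] at e
          exact e.symm
        · right
          have e := congrArg (fun A => ((x⁻¹ : G4) : M4) * A * ((x⁻¹ : G4) : M4)) hx
          simp only [← mul_assoc, Units.inv_mul, one_mul, mul_neg, neg_mul] at e
          rw [mul_assoc ((x⁻¹ : G4) : M4) (b : M4), mul_assoc, mul_assoc, Units.mul_inv, mul_one] at e
          rw [e, neg_neg] }
  have hsqK : ∀ a ∈ N, ∀ b ∈ N, a * a ∈ K b := fun a ha b hb => by
    obtain ⟨c, hc, e⟩ := hc4 a ha b hb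
    have e2 : ((a * a : G4) : M4) * b = (c * c) • ((b : M4) * ((a * a : G4) : M4)) := by
      rw [Units.val_mul, mul_assoc, e, mul_smul_comm, ← mul_assoc, e, smul_mul_assoc, smul_smul, mul_assoc]
    have hcc : c * c = 1 ∨ c * c = -1 :=
      mul_self_eq_one_iff.1 (by linear_combination hc)
    rcases hcc with h | h
    · exact Or.inl (by rw [e2, h, one_smul])
    · exact Or.inr (by rw [e2, h, neg_one_smul])
  let Sq : Subgroup G4 := Subgroup.closure ((fun x : G4 => x * x) '' (N : Set G4))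
  have hSqN : Sq ≤ N := (Subgroup.closure_le N).2 (by rintro _ ⟨x, hx, rfl⟩; exact mul_mem hx hx)
  have hSqn : NormalIn H Sq := ⟨hSqN.trans hn.le, fun g hg m hm => by
    have hle : Sq ≤ Sq.comap (MulAut.conj g).toMonoidHom := (Subgroup.closure_le _).2 (by
      rintro _ ⟨x, hx, rfl⟩
      refine Subgroup.subset_closure ⟨g * x * g⁻¹, hn.conj g hg x hx, ?_⟩
      show g * x * g⁻¹ * (g * x * g⁻¹) = g * (x * x) * g⁻¹
      group)
    exact hle hm⟩
  have hsq : ∀ x ∈ N, x * x ∈ scalars (Fin 4) F := by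
    rcases hmin Sq hSqn hSqN with h | h
    · exact fun x hx => h (Subgroup.subset_closure ⟨x, hx, rfl⟩)
    · intro x hx
      refine sc_of _ fun b hb => ?_
      have hxb : x ∈ K b := by
        have hle : Sq ≤ K b := (Subgroup.closure_le _).2 (by rintro _ ⟨y, hy, rfl⟩; exact hsqK y hy b hb)
        exact hle (h.ge hx)
      rcases hxb with e | e
      · rw [Units.val_mul, mul_assoc, e, ← mul_assoc, e, mul_assoc]
      · rw [Units.val_mul, mul_assoc, e, mul_neg, ← mul_assoc, e, neg_mul, neg_neg, mul_assoc]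
  have hpm : ∀ a ∈ N, ∀ b ∈ N, (a : M4) * b = (b : M4) * a ∨ (a : M4) * b = -((b : M4) * a) := by
    intro a ha b hb
    obtain ⟨c, hc, e⟩ := hc4 a ha b hb
    obtain ⟨s, hs0, hs⟩ := val_scalars.1 (hsq a ha)
    have e2 : ((a * a : G4) : M4) * b = (c * c) • ((b : M4) * ((a * a : G4) : M4)) := by
      rw [Units.val_mul, mul_assoc, e, mul_smul_comm, ← mul_assoc, e, smul_mul_assoc, smul_smul, mul_assoc]
    rw [hs, smul_mul_assoc, one_mul, mul_smul_comm, mul_one, smul_smul] at e2
    have h1 : (s - c * c * s) • (b : M4) = 0 := by rw [sub_smul, sub_eq_zero]; exact e2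
    have h2 : c * c = 1 := by
      have := (smul_eq_zero.1 h1).resolve_right b.ne_zero
      exact mul_right_cancel₀ hs0 (by linear_combination -this)
    rcases mul_self_eq_one_iff.1 h2 with h | h
    · exact Or.inl (by rw [e, h, one_smul])
    · exact Or.inr (by rw [e, h, neg_one_smul])
  have h2 : (2 : F) ≠ 0 := by
    intro h2
    apply hNZ
    intro a ha
    refine sc_of a fun b hb => ?_
    rcases hpm a ha b hb with e | e
    · exact e
    · rw [e]
      refine neg_eq_iff_add_eq_zero.2 ?_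
      rw [← two_smul F ((b : M4) * a), h2, zero_smul]
  obtain ⟨I, hI⟩ := exists_sqrt hF h2 (s := -1) (by ring)
  have hI0 : I ≠ 0 := fun e => by simp [e] at hI
  have hsgn : ∀ a ∈ N ⊔ scalars (Fin 4) F, ∃ n ∈ N, ∃ c : F, c ≠ 0 ∧ (a : M4) = c • (n : M4) := fun a ha => by
    obtain ⟨n, hn', z, hz, rfl⟩ := Subgroup.mem_sup_of_normal_right.1 ha
    obtain ⟨c, hc, hzv⟩ := val_scalars.1 hz
    exact ⟨n, hn', c, hc, by rw [Units.val_mul, hzv, mul_smul_comm, mul_one]⟩
  have hcomm2 : ∀ a ∈ N ⊔ scalars (Fin 4) F, ∀ b ∈ N ⊔ scalars (Fin 4) F,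
      (a : M4) * b = (b : M4) * a ∨ (a : M4) * b = -((b : M4) * a) := by
    intro a ha b hb
    obtain ⟨n, hn1, c, -, hcn⟩ := hsgn a ha
    obtain ⟨m, hm, d, -, hdm⟩ := hsgn b hb
    rw [hcn, hdm, smul_mul_smul_comm, smul_mul_smul_comm, mul_comm d c]
    rcases hpm n hn1 m hm with e | e
    · exact Or.inl (by rw [e])
    · exact Or.inr (by rw [e, smul_neg])
  have hsq2 : ∀ a ∈ N ⊔ scalars (Fin 4) F, ∃ s : F, (a : M4) * a = s • 1 := by
    intro a ha
    obtain ⟨n, hn1, c, -, hcn⟩ := hsgn a ha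
    obtain ⟨s, -, hs⟩ := val_scalars.1 (hsq n hn1)
    rw [Units.val_mul] at hs
    exact ⟨c * c * s, by rw [hcn, smul_mul_smul_comm, hs, smul_smul]⟩
  have pm_of : ∀ {A : M4}, (∃ s : F, A = s • 1) → A * A = 1 → A = 1 ∨ A = -1 := by
    rintro _ ⟨s, rfl⟩ h
    rw [smul_mul_smul_comm, one_mul] at h
    have h1 : s * s = 1 := by simpa using congrFun (congrFun h 0) 0
    rcases mul_self_eq_one_iff.1 h1 with e | e
    · exact Or.inl (by rw [e, one_smul])
    · exact Or.inr (by rw [e, neg_one_smul])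
  let R : Subgroup G4 :=
    { carrier := {g | g ∈ N ⊔ scalars (Fin 4) F ∧ ((g : M4) * g = 1 ∨ (g : M4) * g = -1)}
      one_mem' := ⟨one_mem _, Or.inl (by simp)⟩
      mul_mem' := fun {x y} hx hy => by
        refine ⟨mul_mem hx.1 hy.1, ?_⟩
        have e : ((x * y : G4) : M4) * ((x * y : G4) : M4) = ((x : M4) * x) * ((y : M4) * y) ∨
            ((x * y : G4) : M4) * ((x * y : G4) : M4) = -(((x : M4) * x) * ((y : M4) * y)) := by
          rcases hcomm2 y hy.1 x hx.1 with e | e
          · left; rw [Units.val_mul, mul_assoc, ← mul_assoc (y : M4), e]; simp [mul_assoc]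
          · right; rw [Units.val_mul, mul_assoc, ← mul_assoc (y : M4), e]; simp [mul_assoc]
        rcases e with e | e <;> rw [e] <;> rcases hx.2 with a | a <;> rcases hy.2 with b | b <;> rw [a, b] <;> simp
      inv_mem' := fun {x} hx => by
        refine ⟨inv_mem hx.1, ?_⟩
        rcases hx.2 with e | e
        · have : x⁻¹ = x := inv_eq_of_mul_eq_one_right (Units.ext e)
          rw [this]; exact Or.inl e
        · have : x⁻¹ = -x := inv_eq_of_mul_eq_one_right (Units.ext (by simp [e]))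
          rw [this]; exact Or.inr (by simp [e]) }
  have hup : ∀ n ∈ N, ∃ g ∈ R, ∃ c : F, c ≠ 0 ∧ (g : M4) = c • (n : M4) := by
    intro n hn'
    obtain ⟨s, hs0, hs⟩ := val_scalars.1 (hsq n hn')
    have hs4 : s ^ 4 = 1 := by
      have := congrArg Matrix.det hs
      rw [Units.val_mul, Matrix.det_mul, hdet n hn', det_smul_four, Matrix.det_one] at this
      simpa using this.symm
    obtain ⟨l, hl⟩ := exists_sqrt hF h2 (s := s⁻¹) (by rw [inv_pow, hs4, inv_one])
    have hl0 : l ≠ 0 := fun e => hs0 (by simpa [e] using hl.symm)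
    refine ⟨scU hl0 * n, ⟨mul_mem (Subgroup.mem_sup_right (scU_mem hl0)) (Subgroup.mem_sup_left hn'), Or.inl ?_⟩,
      l, hl0, by rw [Units.val_mul, scU_val, smul_mul_assoc, one_mul]⟩
    rw [Units.val_mul] at hs
    rw [Units.val_mul, scU_val, smul_mul_assoc, one_mul, smul_mul_smul_comm, hs, smul_smul, hl,
      inv_mul_cancel₀ hs0, one_smul]
  refine ⟨R, I, ⟨h2, hI, ⟨scU hI0, ⟨Subgroup.mem_sup_right (scU_mem hI0), Or.inr ?_⟩, scU_val hI0⟩,
    fun s hs => hs.2, fun s hs t ht => hcomm2 s hs.1 t ht.1, ?_⟩, ?_, fun g hg => hsgn g hg.1, hup⟩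
  · rw [scU_val, smul_mul_smul_comm, hI, one_mul, neg_one_smul]
  · refine ⟨fun W hW => habs.1 W ?_, fun X hX => habs.2 X ?_⟩
    · rintro _ ⟨n, hn', rfl⟩
      obtain ⟨g, hg, c, hc, hgn⟩ := hup n hn'
      rintro _ ⟨w, hw, rfl⟩
      have h1 := hW _ ⟨g, hg, rfl⟩ ⟨w, hw, rfl⟩
      rw [Matrix.toLin'_apply] at h1 ⊢
      have h3 : (g : M4) *ᵥ w ∈ W := h1
      rw [hgn, Matrix.smul_mulVec] at h3
      exact (Submodule.smul_mem_iff W hc).1 h3
    · rintro _ ⟨n, hn', rfl⟩
      obtain ⟨g, hg, c, hc, hgn⟩ := hup n hn'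
      have h1 : X * (g : M4) = (g : M4) * X := hX _ ⟨g, hg, rfl⟩
      rw [hgn, mul_smul_comm, smul_mul_assoc] at h1
      exact smul_right_injective M4 hc h1
  · intro h hh g hg
    refine ⟨?_, ?_⟩
    · have hle : N ⊔ scalars (Fin 4) F ≤ (N ⊔ scalars (Fin 4) F).comap (MulAut.conj h).toMonoidHom :=
        sup_le (fun x hx => Subgroup.mem_sup_left (hn.conj h hh x hx))
          (fun x hx => Subgroup.mem_sup_right ((Cfsg.Geo.scalars_normal).conj_mem x hx h))
      exact hle hg.1
    · have e : ((h * g * h⁻¹ : G4) : M4) * ((h * g * h⁻¹ : G4) : M4) =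
          (h : M4) * ((g : M4) * g) * ((h⁻¹ : G4) : M4) := by
        rw [← Units.val_mul, ← Units.val_mul, ← Units.val_mul, ← Units.val_mul]
        congr 1; group
      rcases hg.2 with e' | e'
      · exact Or.inl (by rw [e, e', mul_one, Units.mul_inv])
      · exact Or.inr (by rw [e, e', mul_neg_one, neg_mul, Units.mul_inv])

theorem card_bound (hq : 3 ≤ q) (hF : Fintype.card F = q ^ 2) :
    4200000 < Nat.card (UnitPrimeDim.omegaU 4 F q) := by
  have hcard : Nat.card (UnitPrimeDim.omegaU 4 F q) = Nat.card (Cfsg.SU 4 F q) := by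
    rw [← UnitPrimeDim.range_toGU]
    exact (Nat.card_congr (MonoidHom.ofInjective (f := UnitPrimeDim.toGU 4 F q)
      (Matrix.SpecialLinearGroup.toGL_injective.comp Subtype.val_injective)).toEquiv).symm
  have h := Classical.card_SU hF (n := 4) (by norm_num)
  rw [Classical.card_GU hF] at h
  simp only [Finset.prod_range_succ, Finset.prod_range_zero, one_mul] at h
  norm_num [show Even 0 from ⟨0, rfl⟩, show ¬ Even 1 from by decide, show Even 2 from by decide,
    show ¬ Even 3 from by decide] at h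
  have e1 : 8 ≤ q ^ 2 - 1 := by have := Nat.pow_le_pow_left hq 2; omega
  have e2 : 80 ≤ q ^ 4 - 1 := by have := Nat.pow_le_pow_left hq 4; omega
  have e3 : 28 ≤ q ^ 3 + 1 := by have := Nat.pow_le_pow_left hq 3; omega
  have e6 : 729 ≤ q ^ 6 := by have := Nat.pow_le_pow_left hq 6; omega
  rw [hcard]
  have hb : 729 * ((q + 1) * 8 * 28 * 80) ≤ q ^ 6 * ((q + 1) * (q ^ 2 - 1) * (q ^ 3 + 1) * (q ^ 4 - 1)) :=
    Nat.mul_le_mul e6 (Nat.mul_le_mul (Nat.mul_le_mul (Nat.mul_le_mul le_rfl e1) e3) e2)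
  rw [← h] at hb
  by_contra hlt
  have : (q + 1) * Nat.card (Cfsg.SU 4 F q) ≤ (q + 1) * 4200000 := Nat.mul_le_mul le_rfl (not_lt.1 hlt)
  nlinarith

theorem not_le_normalizer (hF : Fintype.card F = q ^ 2) (hq : 3 ≤ q) {R : Subgroup G4} {I : F}
    (hR : PauliFrame.Grp R I) (h64 : Nat.card R = 64) :
    ¬ UnitPrimeDim.omegaU 4 F q ≤ subgroupNormalizer R := by
  classical
  intro hle
  obtain ⟨P, -, hP⟩ := hR.exists_frame
  have gen : ∀ t s : Fin 4, PauliFrame.W F t s * PauliFrame.W F t s = 1 →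
      ∃ g ∈ R, (g : M4) * g = 1 ∧ ((P⁻¹ * g * P : G4) : M4) = PauliFrame.W F t s := by
    intro t s hts
    obtain ⟨g, hg, e⟩ := hP 0 t s
    rw [show ((0 : Fin 4) : ℕ) = 0 from rfl, pow_zero, one_smul] at e
    refine ⟨g, hg, ?_, e⟩
    rw [← Units.val_mul, show g * g = P * ((P⁻¹ * g * P) * (P⁻¹ * g * P)) * P⁻¹ by group, Units.val_mul,
      Units.val_mul, Units.val_mul, e, hts, mul_one, Units.mul_inv]
  have wsq : ∀ t s : Fin 4, (t = 0 ∨ s = 0) → PauliFrame.W F t s * PauliFrame.W F t s = 1 := by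
    intro t s hts
    ext i j
    rcases hts with rfl | rfl
    · rcases eq_or_ne i j with rfl | hij
      · simp [Matrix.mul_apply, PauliFrame.W, PauliFrame.zero_tr, PauliFrame.chi_sq]
      · simp [Matrix.mul_apply, PauliFrame.W, PauliFrame.zero_tr, hij]
    · have chi0 : ∀ j, PauliFrame.chi F 0 j = 1 := fun j => by fin_cases j <;> simp [PauliFrame.chi, PauliFrame.sg]
      rw [Matrix.mul_apply, Finset.sum_eq_single (PauliFrame.tr t j)
        (fun k _ hk => by simp [PauliFrame.W, hk]) (by simp)]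
      simp [PauliFrame.W, PauliFrame.tr_tr, chi0, Matrix.one_apply]
  obtain ⟨u₁, hu1, su1, k1⟩ := gen 0 1 (wsq _ _ (Or.inl rfl))
  obtain ⟨u₂, hu2, su2, k2⟩ := gen 0 2 (wsq _ _ (Or.inl rfl))
  obtain ⟨v₁, hv1, sv1, k3⟩ := gen 1 0 (wsq _ _ (Or.inr rfl))
  obtain ⟨v₂, hv2, sv2, k4⟩ := gen 2 0 (wsq _ _ (Or.inr rfl))
  let S := {x : R // ((x : G4) : M4) * (x : G4) = 1}
  have hS : 2 * Nat.card S ≤ 64 := by
    obtain ⟨z, hz, hzv⟩ := hR.scal
    have hinj : Function.Injective (fun s : S ⊕ S => match s with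
        | Sum.inl x => x.1
        | Sum.inr x => (⟨z, hz⟩ : R) * x.1) := by
      rintro (a | a) (b | b) e
      · exact congrArg Sum.inl (Subtype.ext e)
      · exfalso
        have h1 := congrArg (fun x : R => ((x : G4) : M4) * (x : G4)) (e : a.1 = _)
        simp only [Subgroup.coe_mul, Units.val_mul, hzv, smul_mul_assoc, one_mul, mul_smul_comm, smul_smul, a.2, b.2,
          hR.I_sq, neg_one_smul] at h1
        have := congrFun (congrFun h1 0) 0
        simp at this
        exact hR.two (by linear_combination this)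
      · exfalso
        have h1 := congrArg (fun x : R => ((x : G4) : M4) * (x : G4)) (e : _ = b.1)
        simp only [Subgroup.coe_mul, Units.val_mul, hzv, smul_mul_assoc, one_mul, mul_smul_comm, smul_smul, a.2, b.2,
          hR.I_sq, neg_one_smul] at h1
        have := congrFun (congrFun h1 0) 0
        simp at this
        exact hR.two (by linear_combination -this)
      · exact congrArg Sum.inr (Subtype.ext (mul_left_cancel (e : _ * a.1 = _ * b.1)))
    have := Nat.card_le_card_of_injective _ hinj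
    rw [Nat.card_sum, h64] at this
    omega
  have hcj : ∀ (g : UnitPrimeDim.omegaU 4 F q) {x : G4}, x ∈ R → (x : M4) * x = 1 →
      ∃ s : S, ((s.1 : G4)) = (g : G4) * x * (g : G4)⁻¹ := fun g {x} hx hxx =>
    ⟨⟨⟨_, (Subgroup.mem_normalizer_iff.1 (hle g.2) x).1 hx⟩, by
      show (((g : G4) * x * (g : G4)⁻¹ : G4) : M4) * (((g : G4) * x * (g : G4)⁻¹ : G4) : M4) = 1
      rw [← Units.val_mul, show (g : G4) * x * (g : G4)⁻¹ * ((g : G4) * x * (g : G4)⁻¹) = g * (x * x) * (g : G4)⁻¹ by group,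
        show x * x = 1 from Units.ext hxx]
      simp⟩, rfl⟩
  choose f1 hf1 using fun g => hcj g hu1 su1
  choose f2 hf2 using fun g => hcj g hv1 sv1
  choose f3 hf3 using fun g => hcj g hu2 su2
  choose f4 hf4 using fun g => hcj g hv2 sv2
  let f : UnitPrimeDim.omegaU 4 F q → (S × S) × (S × S) := fun g => ((f1 g, f2 g), (f3 g, f4 g))
  have hfib : ∀ g g', f g = f g' → ∃ a : {a : F // a ^ 4 = 1}, ((g' : G4) : M4) = a.1 • ((g : G4) : M4) := by
    intro g g' e
    simp only [f, Prod.mk.injEq] at e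
    obtain ⟨⟨e1, e2⟩, e3, e4⟩ := e
    set d : G4 := (g : G4)⁻¹ * g' with hd
    have hc : ∀ {x : G4}, (g : G4) * x * (g : G4)⁻¹ = (g' : G4) * x * (g' : G4)⁻¹ → d * x = x * d := fun {x} h => by
      calc d * x = (g : G4)⁻¹ * ((g' : G4) * x * (g' : G4)⁻¹) * g' := by rw [hd]; group
        _ = x * d := by rw [← h, hd]; group
    have hW : ∀ (x : G4) (N : M4), ((P⁻¹ * x * P : G4) : M4) = N → d * x = x * d →
        N * ((P⁻¹ * d * P : G4) : M4) = ((P⁻¹ * d * P : G4) : M4) * N := by
      intro x N hN hx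
      rw [← hN, ← Units.val_mul, ← Units.val_mul]
      congr 1
      calc P⁻¹ * x * P * (P⁻¹ * d * P) = P⁻¹ * (x * d) * P := by group
        _ = P⁻¹ * d * P * (P⁻¹ * x * P) := by rw [← hx]; group
    have hsc := PauliFrame.W_commutant hR.two (hW _ _ k1 (hc (by rw [← hf1, ← hf1, e1])))
      (hW _ _ k2 (hc (by rw [← hf3, ← hf3, e3]))) (hW _ _ k3 (hc (by rw [← hf2, ← hf2, e2])))
      (hW _ _ k4 (hc (by rw [← hf4, ← hf4, e4])))
    set c := ((P⁻¹ * d * P : G4) : M4) 0 0
    have hc' : (d : M4) = c • 1 := by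
      rw [show d = P * (P⁻¹ * d * P) * P⁻¹ by group, Units.val_mul, Units.val_mul, hsc, mul_smul_comm, mul_one,
        smul_mul_assoc, Units.mul_inv]
    have hdd : (d : M4).det = 1 := by
      have h1 : Matrix.GeneralLinearGroup.det d = 1 := (mul_mem (inv_mem g.2) g'.2 : d ∈ UnitPrimeDim.omegaU 4 F q).2
      exact congrArg Units.val h1
    refine ⟨⟨c, ?_⟩, ?_⟩
    · rw [hc', det_smul_four, Matrix.det_one, mul_one] at hdd; exact hdd
    · show ((g' : G4) : M4) = c • ((g : G4) : M4)
      rw [show (g' : G4) = g * d by rw [hd]; group, Units.val_mul, hc', mul_smul_comm, mul_one]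
  let rep : (S × S) × (S × S) → UnitPrimeDim.omegaU 4 F q := fun y => if h : ∃ g, f g = y then h.choose else 1
  have hrep : ∀ g, f (rep (f g)) = f g := fun g => by
    have h : ∃ g', f g' = f g := ⟨g, rfl⟩
    simp only [rep, dif_pos h]; exact h.choose_spec
  choose a ha using fun g => hfib (rep (f g)) g (hrep g)
  have hinj : Function.Injective fun g => (f g, a g) := fun g g' e => by
    simp only [Prod.mk.injEq] at e
    refine Subtype.ext (Units.ext ?_)
    rw [ha g, ha g', e.1, e.2]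
  have h1 := Nat.card_le_card_of_injective _ hinj
  rw [Nat.card_prod, Nat.card_prod, Nat.card_prod] at h1
  have h4 : Nat.card {a : F // a ^ 4 = 1} ≤ 4 := by
    rw [Nat.card_eq_fintype_card, Fintype.card_subtype]
    refine le_trans (Finset.card_le_card (t := (Polynomial.nthRoots 4 (1 : F)).toFinset) fun x hx => ?_)
      ((Multiset.toFinset_card_le _).trans (Polynomial.card_nthRoots 4 (1 : F)))
    simpa [Polynomial.mem_nthRoots] using hx
  have hS2 : Nat.card S ≤ 32 := by omega
  have := card_bound hq hF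
  have h5 : Nat.card S * Nat.card S * (Nat.card S * Nat.card S) * Nat.card {a : F // a ^ 4 = 1} ≤
      32 * 32 * (32 * 32) * 4 :=
    Nat.mul_le_mul (Nat.mul_le_mul (Nat.mul_le_mul hS2 hS2) (Nat.mul_le_mul hS2 hS2)) h4
  omega

theorem pow_I_inj {I : F} (h2 : (2 : F) ≠ 0) (hI : I * I = -1) {k k' : Fin 4}
    (e : I ^ (k : ℕ) = I ^ (k' : ℕ)) : k = k' := by
  have hI0 : I ≠ 0 := fun e0 => by simp [e0] at hI
  have key : ∀ n, 0 < n → n < 4 → I ^ n ≠ 1 := by
    intro n h0 h4 e1
    interval_cases n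
    · rw [pow_one] at e1; rw [e1] at hI; exact h2 (by linear_combination hI)
    · exact h2 (by linear_combination hI - e1)
    · have h3 : I = -1 := by linear_combination I * hI - e1
      rw [h3] at hI; exact h2 (by linear_combination hI)
  have gen : ∀ a b : Fin 4, a < b → I ^ (a : ℕ) ≠ I ^ (b : ℕ) := by
    intro a b hab h
    have hab' : (a : ℕ) < b := hab
    refine key ((b : ℕ) - a) (by omega) (by omega) (mul_left_cancel₀ (pow_ne_zero a hI0) ?_)
    rw [← pow_add, Nat.add_sub_cancel' hab'.le, mul_one, h]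
  rcases lt_trichotomy k k' with h | h | h
  · exact absurd e (gen _ _ h)
  · exact h
  · exact absurd e.symm (gen _ _ h)

set_option maxHeartbeats 1000000 in
theorem class_six (hF : Fintype.card F = q ^ 2) {H N : Subgroup G4}
    (hH : Cfsg.Geo.IsMaximalIn (UnitPrimeDim.omegaU 4 F q) H) (hn : NormalIn H N)
    (hNZ : ¬ N ≤ scalars (Fin 4) F) (habs : ActsAbsolutelyIrreducibly (matrixSet N))
    (hcomm : ⁅N, N⁆ ≤ scalars (Fin 4) F)
    (hmin : ∀ M, NormalIn H M → M ≤ N → M ≤ scalars (Fin 4) F ∨ M = N) : Cases q H := by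
  classical
  obtain ⟨R, I, hR, hRn, hRN, -⟩ := exists_grp hF hH hn hNZ habs hcomm hmin
  obtain ⟨P, hP1, hP2⟩ := hR.exists_frame
  have hNU : N ≤ UnitPrimeDim.omegaU 4 F q := hn.le.trans hH.1.le
  have hq2 : 2 ≤ q := Classical.two_le_q hF
  let σ : F →+* F := Classical.conjHom hF
  have hσ : ∀ x, σ x = x ^ q := fun x => Classical.conjHom_apply hF x
  have hchar : ringChar F ≠ 2 := fun e => hR.two (by
    have := ringChar.Nat.cast_ringChar (R := F); rw [e] at this; exact_mod_cast this)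
  have hodd : q % 2 = 1 := by
    have := FiniteField.odd_card_of_char_ne_two hchar
    rw [hF, Nat.pow_mod] at this
    rcases Nat.mod_two_eq_zero_or_one q with h | h
    · rw [h] at this; simp at this
    · exact h
  have hI4 : I ^ 4 = 1 := by linear_combination (I * I - 1) * hR.I_sq
  have hIn : I ≠ -I := fun e => (mul_ne_zero hR.two hR.I_ne) (by linear_combination e)
  -- elements of `R` are similarities with multiplier a sign
  have hsim : ∀ g ∈ R, ∃ m : F, (m = 1 ∨ m = -1) ∧
      ∀ x y, hf ((g : M4) *ᵥ x) ((g : M4) *ᵥ y) = m * hf x y := by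
    intro g hg
    obtain ⟨n, hn', c, hc, hgn⟩ := hRN g hg
    have hm : ∀ x y, hf ((g : M4) *ᵥ x) ((g : M4) *ᵥ y) = c * c ^ q * hf x y := by
      intro x y
      rw [hgn, Matrix.smul_mulVec, Matrix.smul_mulVec, UnitPrimeDim.herm_smul_left, UnitPrimeDim.herm_smul_right,
        ← mul_assoc, show hf ((n : M4) *ᵥ x) ((n : M4) *ᵥ y) = hf x y from (hNU hn').1 x y]
    refine ⟨c * c ^ q, mul_self_eq_one_iff.1 ?_, hm⟩
    obtain ⟨y, hy⟩ : ∃ y, hf y (Pi.single 0 1) ≠ 0 := by
      by_contra hall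
      push Not at hall
      simpa using congrFun (UnitPrimeDim.herm_nondeg hF hall) 0
    have h1 := hm ((g : M4) *ᵥ y) ((g : M4) *ᵥ Pi.single 0 1)
    rw [hm y (Pi.single 0 1), Matrix.mulVec_mulVec, Matrix.mulVec_mulVec] at h1
    apply mul_right_cancel₀ hy
    rw [one_mul, mul_assoc, ← h1]
    rcases hR.sq g hg with e | e
    · rw [e, Matrix.one_mulVec, Matrix.one_mulVec]
    · rw [e, Matrix.neg_mulVec, Matrix.one_mulVec, Matrix.neg_mulVec, Matrix.one_mulVec,
        ← neg_one_smul F y, ← neg_one_smul F (Pi.single 0 1 : Fin 4 → F), UnitPrimeDim.herm_smul_left,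
        UnitPrimeDim.herm_smul_right, ← mul_assoc, (Nat.odd_iff.2 hodd).neg_one_pow]
      ring
  by_cases hclass : q % 4 = 3 ∧ q.Prime
  · obtain ⟨h43, hqp⟩ := hclass
    have hq3 : 3 ≤ q := by omega
    have hwinj : ∀ k t s k' t' s' : Fin 4,
        I ^ (k : ℕ) • PauliFrame.W F t s = I ^ (k' : ℕ) • PauliFrame.W F t' s' → k = k' ∧ t = t' ∧ s = s' := by
      intro k t s k' t' s' e
      have hpow : ∀ n : ℕ, I ^ n ≠ 0 := fun n => pow_ne_zero _ hR.I_ne
      have hcol := fun j => congrFun (congrFun e (PauliFrame.tr t j)) j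
      have ht : t = t' := by
        by_contra hne
        have h0 := hcol 0
        simp only [Matrix.smul_apply, smul_eq_mul, PauliFrame.W_apply_chi] at h0
        rw [PauliFrame.tr_zero] at h0
        simp [PauliFrame.W, PauliFrame.tr_zero, hne, PauliFrame.chi, PauliFrame.sg_zero, hR.I_ne] at h0
      subst ht
      simp only [Matrix.smul_apply, smul_eq_mul, PauliFrame.W_apply_chi] at hcol
      have h0 := hcol 0
      simp only [PauliFrame.chi, PauliFrame.sg_zero, if_true, mul_one] at h0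
      have hk : k = k' := pow_I_inj hR.two hR.I_sq (h0 : I ^ (k : ℕ) = I ^ (k' : ℕ))
      refine ⟨hk, rfl, PauliFrame.sg_inj s s' fun j => PauliFrame.chi_inj hR.two ?_⟩
      have hj := hcol j
      rw [← hk] at hj
      exact mul_left_cancel₀ (hpow _) hj
    let κ : G4 → M4 := fun g => ((P⁻¹ * g * P : G4) : M4)
    have κinj : Function.Injective κ := fun a b e => by
      have e' : P⁻¹ * a * P = P⁻¹ * b * P := Units.ext e
      simpa using e'
    choose el hel hev using hP2
    have h64 : Nat.card R = 64 := by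
      have hb : Function.Bijective (fun x : Fin 4 × Fin 4 × Fin 4 => (⟨el x.1 x.2.1 x.2.2, hel _ _ _⟩ : R)) := by
        constructor
        · rintro ⟨k, t, s⟩ ⟨k', t', s'⟩ e
          have e' := congrArg (fun g : R => κ g) e
          simp only [κ, hev] at e'
          obtain ⟨rfl, rfl, rfl⟩ := hwinj _ _ _ _ _ _ e'
          rfl
        · rintro ⟨g, hg⟩
          obtain ⟨k, t, s, e⟩ := hP1 g hg
          exact ⟨(k, t, s), Subtype.ext (κinj ((hev k t s).trans e.symm))⟩
      rw [← Nat.card_congr (Equiv.ofBijective _ hb)]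
      simp
    have hone : (1 : M4) = I ^ ((0 : Fin 4) : ℕ) • PauliFrame.W F 0 0 := by simp [PauliFrame.W_zero]
    have hzc : Nat.card (Subgroup.center R) = 4 := by
      have hk : ∀ k : Fin 4, (⟨el k 0 0, hel k 0 0⟩ : R) ∈ Subgroup.center R := fun k => by
        rw [Subgroup.mem_center_iff]
        intro g
        refine Subtype.ext (κinj ?_)
        have hm : ∀ a b : G4, κ (a * b) = κ a * κ b := fun a b => by
          simp only [κ]; rw [← Units.val_mul]; congr 1; group
        show κ ((g : G4) * el k 0 0) = κ (el k 0 0 * g)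
        rw [hm, hm, show κ (el k 0 0) = I ^ (k : ℕ) • (1 : M4) by rw [← PauliFrame.W_zero]; exact hev k 0 0]
        rw [mul_smul_comm, mul_one, smul_mul_assoc, one_mul]
      have hb : Function.Bijective (fun k : Fin 4 => (⟨_, hk k⟩ : Subgroup.center R)) := by
        constructor
        · intro k k' e
          have e' := congrArg (fun z : Subgroup.center R => κ z.1.1) e
          simp only [κ, hev] at e'
          exact (hwinj _ _ _ _ _ _ e').1
        · rintro ⟨⟨z, hz⟩, hzc⟩
          obtain ⟨c, hc⟩ := hR.scalar_of (z : M4) fun s hs => by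
            have := congrArg (fun x : R => ((x : G4) : M4)) (Subgroup.mem_center_iff.1 hzc ⟨s, hs⟩)
            simpa using this.symm
          obtain ⟨k, t, s, e⟩ := hP1 z hz
          have e2 : κ z = c • 1 := by
            simp only [κ, Units.val_mul, hc, mul_smul_comm, mul_one, smul_mul_assoc, Units.inv_mul]
          have ht : t = 0 := by
            by_contra hne
            have h0 := congrFun (congrFun (e.symm.trans e2) t) 0
            simp [PauliFrame.W, PauliFrame.tr_zero, PauliFrame.chi, PauliFrame.sg_zero, hne, hR.I_ne] at h0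
          subst ht
          have hs0 : s = 0 := by
            refine PauliFrame.sg_inj s 0 fun j => PauliFrame.chi_inj hR.two ?_
            have hd := fun j => congrFun (congrFun (e.symm.trans e2) j) j
            simp [PauliFrame.W, PauliFrame.zero_tr] at hd
            have h0 := hd 0
            simp [PauliFrame.chi, PauliFrame.sg_zero] at h0
            have hj := hd j
            rw [← h0] at hj
            have hz0 : PauliFrame.chi F 0 j = 1 := by fin_cases j <;> simp [PauliFrame.chi, PauliFrame.sg]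
            rw [hz0]
            exact mul_left_cancel₀ (pow_ne_zero _ hR.I_ne) (hj.trans (mul_one _).symm)
          subst hs0
          exact ⟨k, Subtype.ext (Subtype.ext (κinj ((hev k 0 0).trans e.symm)))⟩
      rw [← Nat.card_congr (Equiv.ofBijective _ hb)]
      simp
    have hfour : ∀ g : R, g ^ 4 = 1 := fun g => by
      refine Subtype.ext (Units.ext ?_)
      rw [show g ^ 4 = (g * g) * (g * g) by simp only [pow_succ, pow_zero, one_mul, mul_assoc]]
      simp only [Subgroup.coe_mul, Units.val_mul]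
      rcases hR.sq g g.2 with e | e <;> simp [e]
    have hsymp : IsSymplecticTypeGroup 2 R := by
      refine ⟨Nat.prime_two, IsPGroup.of_card (n := 6) (by rw [h64]; rfl), fun A hA hAc => ?_, ?_⟩
      · let AG : Subgroup G4 := A.map R.subtype
        have hAGn : ∀ h ∈ H, ∀ x ∈ AG, h * x * h⁻¹ ∈ AG := by
          rintro h hh _ ⟨x, hx, rfl⟩
          let φ : R ≃* R :=
            { toFun := fun y => ⟨h * y * h⁻¹, hRn h hh y y.2⟩
              invFun := fun y => ⟨h⁻¹ * y * h, by simpa using hRn h⁻¹ (inv_mem hh) y y.2⟩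
              left_inv := fun y => Subtype.ext (by simp [mul_assoc])
              right_inv := fun y => Subtype.ext (by simp [mul_assoc])
              map_mul' := fun y z => Subtype.ext (by simp [mul_assoc]) }
          refine ⟨φ x, ?_, rfl⟩
          have := hA.fixed φ
          rw [← this] at hx
          exact hx
        let M : Subgroup G4 := N ⊓ (AG ⊔ scalars (Fin 4) F)
        have hMn : NormalIn H M := ⟨inf_le_left.trans hn.le, fun g hg m hm => ⟨hn.conj g hg m hm.1, by
          have hle : AG ⊔ scalars (Fin 4) F ≤ (AG ⊔ scalars (Fin 4) F).comap (MulAut.conj g).toMonoidHom :=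
            sup_le (fun x hx => Subgroup.mem_sup_left (hAGn g hg x hx))
              (fun x hx => Subgroup.mem_sup_right ((Cfsg.Geo.scalars_normal).conj_mem x hx g))
          exact hle hm.2⟩⟩
        have hM : M ≤ scalars (Fin 4) F := by
          rcases hmin M hMn inf_le_left with h | h
          · exact h
          · exfalso
            apply hNZ
            intro a ha
            obtain ⟨c, hc⟩ := habs.2 (a : M4) (by
              rintro _ ⟨b, hb, rfl⟩
              obtain ⟨x, hx, z, hz, rfl⟩ := Subgroup.mem_sup_of_normal_right.1 (h.ge ha).2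
              obtain ⟨y, hy, w, hw, rfl⟩ := Subgroup.mem_sup_of_normal_right.1 (h.ge hb).2
              obtain ⟨x', hx', rfl⟩ := hx
              obtain ⟨y', hy', rfl⟩ := hy
              have hxy : Commute (x' : G4) (y' : G4) :=
                congrArg Subtype.val (congrArg Subtype.val (hAc.is_comm.comm (⟨x', hx'⟩ : A) ⟨y', hy'⟩))
              have h1 : Commute (z : G4) ((y' : G4) * w) := comm_scalars hz _
              have h2 : Commute (x' : G4) w := (comm_scalars hw _).symm
              have h3 : Commute ((x' : G4) * z) ((y' : G4) * w) := (hxy.mul_right h2).mul_left h1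
              exact congrArg Units.val h3.eq)
            exact val_scalars.2 ⟨c, fun e => a.ne_zero (by rw [hc, e, zero_smul]), hc⟩
        have hAs : ∀ x ∈ A, ((x : R) : G4) ∈ scalars (Fin 4) F := by
          intro x hx
          obtain ⟨n, hn', c, hc, hxn⟩ := hRN x x.2
          have hn2 : n = scU (inv_ne_zero hc) * (x : G4) := Units.ext (by
            rw [Units.val_mul, scU_val, smul_mul_assoc, one_mul, hxn, smul_smul, inv_mul_cancel₀ hc, one_smul])
          have hnM : n ∈ M := ⟨hn', by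
            rw [hn2]; exact mul_mem (Subgroup.mem_sup_right (scU_mem _)) (Subgroup.mem_sup_left ⟨x, hx, rfl⟩)⟩
          have : (x : G4) = scU hc * n := Units.ext (by rw [Units.val_mul, scU_val, smul_mul_assoc, one_mul, hxn])
          rw [this]
          exact mul_mem (scU_mem hc) (hM hnM)
        have hcen : ∀ x ∈ A, x ∈ Subgroup.center R := fun x hx => Subgroup.mem_center_iff.2 fun g =>
          Subtype.ext (comm_scalars (hAs x hx) g).symm
        let ψ : A →* F :=
          { toFun := fun x => (((x : R) : G4) : M4) 0 0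
            map_one' := by simp
            map_mul' := fun x y => by
              obtain ⟨c, -, hc⟩ := val_scalars.1 (hAs x x.2)
              simp [hc] }
        refine isCyclic_of_subgroup_isDomain ψ fun x y e => ?_
        obtain ⟨c, -, hc⟩ := val_scalars.1 (hAs x x.2)
        obtain ⟨d, -, hd⟩ := val_scalars.1 (hAs y y.2)
        have e' : c = d := by simpa [ψ, hc, hd] using (e : ψ x = ψ y)
        exact Subtype.ext (Subtype.ext (Units.ext (by rw [hc, hd, e'])))
      · refine Nat.dvd_antisymm (Monoid.exponent_dvd_of_forall_pow_eq_one hfour) ?_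
        obtain ⟨z, hz, hzv⟩ := hR.scal
        have ho : orderOf (⟨z, hz⟩ : R) = 2 ^ (1 + 1) := by
          refine orderOf_eq_prime_pow ?_ (hfour _)
          intro e
          have e' := congrArg (fun x : R => ((x : G4) : M4)) e
          simp [hzv, pow_two, smul_mul_smul_comm, hR.I_sq] at e'
          have := congrFun (congrFun e' 0) 0
          simp at this
          exact hR.two (by linear_combination hR.I_sq - this)
        have hd := Monoid.order_dvd_exponent (⟨z, hz⟩ : R)
        rw [ho] at hd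
        exact hd
    have hHN : H ≤ subgroupNormalizer R := fun h hh => by
      refine Subgroup.mem_normalizer_iff.2 fun x => ⟨hRn h hh x, fun hx => ?_⟩
      have := hRn h⁻¹ (inv_mem hh) _ hx
      simpa [mul_assoc] using this
    refine Or.inr (Or.inr (Or.inr (Or.inr (Or.inr (Or.inr (Or.inr (Or.inr (Or.inl
      ⟨q, R, hqp, rfl, h43, hsymp, hR.irr, ?_, h64, hzc, eq_inf hH hHN (not_le_normalizer hF hq3 hR h64)⟩))))))))
    intro g hg
    obtain ⟨m, hm, hm'⟩ := hsim g hg
    have hm0 : m ≠ 0 := by rcases hm with rfl | rfl <;> simp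
    exact ⟨Units.mk0 m hm0, hm'⟩
  -- realisable cases: the Gram matrix in the monomial basis
  set col : Fin 4 → Fin 4 → F := fun j => (P : M4).col j with hcol
  set G : Fin 4 → Fin 4 → F := fun i j => hf (col i) (col j) with hG
  have hmove : ∀ t s : Fin 4, ∃ m : F, (m = 1 ∨ m = -1) ∧ ∀ a b,
      PauliFrame.chi F s a * PauliFrame.chi F s b * G (PauliFrame.tr t a) (PauliFrame.tr t b) = m * G a b := by
    intro t s
    obtain ⟨g, hg, e⟩ := hP2 0 t s
    rw [show ((0 : Fin 4) : ℕ) = 0 from rfl, pow_zero, one_smul] at e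
    obtain ⟨m, hm, hm'⟩ := hsim g hg
    refine ⟨m, hm, fun a b => ?_⟩
    have hga : ∀ a, (g : M4) *ᵥ col a = PauliFrame.chi F s a • col (PauliFrame.tr t a) := by
      intro a
      have h1 : (g : M4) * (P : M4) = (P : M4) * PauliFrame.W F t s := by
        rw [← e, ← Units.val_mul, ← Units.val_mul]; congr 1; group
      ext i
      have h2 := congrFun (congrFun h1 i) a
      rw [Matrix.mul_apply, Matrix.mul_apply] at h2
      simp only [hcol, Matrix.mulVec, dotProduct, Pi.smul_apply, smul_eq_mul, Matrix.col_apply]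
      rw [h2, Finset.sum_eq_single (PauliFrame.tr t a)
        (fun k _ hk => by simp [PauliFrame.W, hk]) (by simp), PauliFrame.W_apply_chi, mul_comm]
    have h3 := hm' (col a) (col b)
    rw [hga, hga, UnitPrimeDim.herm_smul_left, UnitPrimeDim.herm_smul_right] at h3
    rw [hG]
    simp only
    rw [← h3, ← mul_assoc]
    congr 2
    unfold PauliFrame.chi
    split_ifs <;> simp [(Nat.odd_iff.2 hodd).neg_one_pow]
  have hexp : ∀ u v : Fin 4 → F, hf ((P : M4) *ᵥ u) ((P : M4) *ᵥ v) = ∑ i, ∑ j, u i * (v j) ^ q * G i j := by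
    intro u v; rw [mulVec_cols, mulVec_cols]; exact herm_expand hF _ u v
  obtain ⟨k, hk⟩ : ∃ k, G 0 k ≠ 0 := by
    by_contra hall
    push Not at hall
    have h1 : col 0 = 0 := by
      apply UnitPrimeDim.herm_nondeg hF
      intro x
      apply UnitPrimeDim.herm_eq_zero_symm hF
      have h2 := hexp (Pi.single 0 1) (((P⁻¹ : G4) : M4) *ᵥ x)
      rw [Matrix.mulVec_mulVec, Units.mul_inv, Matrix.one_mulVec, Matrix.mulVec_single_one] at h2
      rw [show col 0 = (P : M4).col 0 from rfl, h2]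
      simp [Fin.sum_univ_four, hall]
    have h2 := congrArg (fun w => ((P⁻¹ : G4) : M4) *ᵥ w) h1
    simp only [hcol, ← Matrix.mulVec_single_one, Matrix.mulVec_mulVec, Units.inv_mul, Matrix.one_mulVec,
      Matrix.mulVec_zero] at h2
    simpa using congrFun h2 0
  set c := G 0 k with hc
  have chi0 : ∀ j, PauliFrame.chi F 0 j = 1 := fun j => by fin_cases j <;> simp [PauliFrame.chi, PauliFrame.sg]
  have hchi1 : ∀ s, PauliFrame.chi F s 0 = 1 := fun s => by simp [PauliFrame.chi, PauliFrame.sg_zero]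
  have hzero : ∀ b, b ≠ k → G 0 b = 0 := by
    intro b hb
    by_contra hne
    refine hb (PauliFrame.sg_ext b k ?_ ?_) <;> refine PauliFrame.chi_inj hR.two ?_
    all_goals
      first
      | (obtain ⟨m, -, hm⟩ := hmove 0 1
         have a1 := hm 0 b
         have a2 := hm 0 k
         rw [hchi1, one_mul, PauliFrame.zero_tr, PauliFrame.zero_tr] at a1 a2
         exact (mul_right_cancel₀ hne a1).trans (mul_right_cancel₀ hk a2).symm)
      | (obtain ⟨m, -, hm⟩ := hmove 0 2
         have a1 := hm 0 b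
         have a2 := hm 0 k
         rw [hchi1, one_mul, PauliFrame.zero_tr, PauliFrame.zero_tr] at a1 a2
         exact (mul_right_cancel₀ hne a1).trans (mul_right_cancel₀ hk a2).symm)
  have hGij : ∀ i j, G i j = 0 ∨ G i j = c ∨ G i j = -c := by
    intro i j
    obtain ⟨m, hm, hm'⟩ := hmove i 0
    have h1 := hm' 0 (PauliFrame.tr i j)
    rw [chi0, chi0, one_mul, one_mul, PauliFrame.tr_zero, PauliFrame.tr_tr] at h1
    by_cases hb : PauliFrame.tr i j = k
    · rw [hb] at h1
      rcases hm with rfl | rfl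
      · exact Or.inr (Or.inl (by rw [h1, one_mul]))
      · exact Or.inr (Or.inr (by rw [h1, neg_one_mul]))
    · exact Or.inl (by rw [h1, hzero _ hb, mul_zero])
  have hcq : c ^ q = c ∨ c ^ q = -c := by
    obtain ⟨m, hm, hm'⟩ := hmove k 0
    have h1 := hm' 0 k
    rw [chi0, chi0, one_mul, one_mul, PauliFrame.tr_zero, PauliFrame.tr_self] at h1
    have h2 : G k 0 = c ^ q := (UnitPrimeDim.herm_symm hF _ _).symm
    rw [h2] at h1
    rcases hm with rfl | rfl
    · exact Or.inl (by rw [h1, one_mul])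
    · exact Or.inr (by rw [h1, neg_one_mul])
  -- the scaled basis
  have hrat : ∀ (F₀ : Subfield F) (ζ l : F) (hl : l ≠ 0), (∀ x ∈ F₀, x ^ q ∈ F₀) → ζ * (l * l ^ q) * c ∈ F₀ →
      IsFormRationalStructure hf F₀ ζ (P * scU hl) := by
    intro F₀ ζ l hl hst hz u v hu hv
    have hPu : ∀ w, ((P * scU hl : G4) : M4) *ᵥ w = l • ((P : M4) *ᵥ w) := fun w => by
      rw [Units.val_mul, scU_val, mul_smul_comm, mul_one, Matrix.smul_mulVec]
    rw [hPu, hPu, UnitPrimeDim.herm_smul_left, UnitPrimeDim.herm_smul_right, hexp, Finset.mul_sum, Finset.mul_sum,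
      Finset.mul_sum]
    refine sum_mem fun i _ => ?_
    rw [Finset.mul_sum, Finset.mul_sum, Finset.mul_sum]
    refine sum_mem fun j _ => ?_
    rcases hGij i j with e | e | e <;> rw [e]
    · simp
    · rw [show ζ * (l * (l ^ q * (u i * v j ^ q * c))) = u i * v j ^ q * (ζ * (l * l ^ q) * c) by ring]
      exact mul_mem (mul_mem (hu i) (hst _ (hv j))) hz
    · rw [show ζ * (l * (l ^ q * (u i * v j ^ q * -c))) = -(u i * v j ^ q * (ζ * (l * l ^ q) * c)) by ring]
      exact neg_mem (mul_mem (mul_mem (hu i) (hst _ (hv j))) hz)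
  have hle : ∀ (F₀ : Subfield F) (l : F) (hl : l ≠ 0), I ∈ F₀ → H ≤ subfieldSubgroup F₀ (P * scU hl) := by
    intro F₀ l hl hI h hh
    have hkey : h ∈ subfieldSubgroup F₀ ((P * scU hl)⁻¹)⁻¹ := by
      refine PrimeDim.FormDescent.mem_subfieldSubgroup_of_normalises R hR.irr (fun g hg i j => ?_) (hRn h hh)
      obtain ⟨k', t, s, e⟩ := hP1 g hg
      have e2 : (P * scU hl)⁻¹ * g * ((P * scU hl)⁻¹)⁻¹ = P⁻¹ * g * P := by
        rw [inv_inv, mul_inv_rev, mul_assoc, mul_assoc, ← mul_assoc g P, ← mul_assoc P⁻¹ (g * P),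
          ← comm_scalars (scU_mem hl) (P⁻¹ * (g * P)), inv_mul_cancel_left, mul_assoc]
      have e3 : ((((P * scU hl)⁻¹ : G4)) : M4) * (g : M4) * ((((P * scU hl)⁻¹)⁻¹ : G4) : M4) =
          I ^ (k' : ℕ) • PauliFrame.W F t s := by
        rw [← Units.val_mul, ← Units.val_mul, e2, e]
      rw [e3, Matrix.smul_apply, smul_eq_mul]
      refine mul_mem (pow_mem hI _) ?_
      show (if _ then PauliFrame.chi F s j else 0) ∈ F₀
      unfold PauliFrame.chi
      split_ifs <;> simp [one_mem, zero_mem, neg_mem]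
    rwa [inv_inv] at hkey
  obtain ⟨p, hpc⟩ := CharP.exists F
  obtain ⟨n, hp, hcard⟩ := FiniteField.card F p
  haveI := Fact.mk hp
  have hdvd : q ∣ p ^ (n : ℕ) := hcard ▸ hF ▸ dvd_pow_self q two_ne_zero
  obtain ⟨e, -, he⟩ := (Nat.dvd_prime_pow hp).1 hdvd
  have hne_top : ∀ F₀ : Subfield F, Nat.card F₀ < q ^ 2 → F₀ ≠ ⊤ := fun F₀ h1 h => by
    rw [h, Nat.card_congr (Subfield.topEquiv (K := F)).toEquiv, Nat.card_eq_fintype_card, hF] at h1
    omega
  have hcase : q % 4 = 1 ∨ q % 4 = 3 := by omega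
  rcases hcase with h41 | h43
  · obtain ⟨F₀, hF0, hmem⟩ := exists_subfield_card (F := F) q hq2 (p := p) he
      (by rw [Nat.card_eq_fintype_card, hF]; simpa using Nat.sub_dvd_pow_sub_pow q 1 2)
    have hI : I ∈ F₀ := (hmem I).2 (by
      obtain ⟨a, ha⟩ : ∃ a, q = 4 * a + 1 := ⟨q / 4, by omega⟩
      rw [ha, pow_succ, pow_mul, hI4, one_pow, one_mul])
    have hst : ∀ x ∈ F₀, x ^ q ∈ F₀ := fun x hx => by rwa [(hmem x).1 hx]
    have hcardF : Fintype.card F = Nat.card F₀ ^ 2 := by rw [hF0, hF]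
    have htop := hne_top F₀ (by rw [hF0, pow_two]; exact lt_mul_of_one_lt_left (by omega) (by omega))
    rcases hcq with hc1 | hc1
    · obtain ⟨l, hl0, hl⟩ := exists_norm_eq hF (inv_ne_zero hk) (by rw [inv_pow, hc1])
      refine Or.inr (Or.inr (Or.inr (Or.inr (Or.inr (Or.inr (Or.inr (Or.inl
        ⟨Nat.odd_iff.2 hodd, F₀, P * scU hl0, hcardF, hrat F₀ 1 l hl0 hst ?_,
          eq_inf hH (hle F₀ l hl0 hI) (UnitPrimeDim.not_le_subfieldSubgroup hF le_rfl F₀ htop _)⟩)))))))
      rw [one_mul, hl, inv_mul_cancel₀ hk]; exact one_mem _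
    · have hz1 : c⁻¹ ^ q = -c⁻¹ := by rw [inv_pow, hc1, inv_neg]
      have hr := hrat F₀ c⁻¹ 1 one_ne_zero hst (by rw [one_pow, mul_one, mul_one, inv_mul_cancel₀ hk]; exact one_mem _)
      refine Or.inr (Or.inr (Or.inr (Or.inr (Or.inr (Or.inr (Or.inl
        ⟨F₀, P * scU one_ne_zero, c⁻¹, hcardF, inv_ne_zero hk, by rw [hz1, add_neg_cancel], hr, ?_,
          eq_inf hH (hle F₀ 1 one_ne_zero hI) (UnitPrimeDim.not_le_subfieldSubgroup hF le_rfl F₀ htop _)⟩))))))
      intro u hu
      set x := hf (((P * scU one_ne_zero : G4) : M4) *ᵥ u) (((P * scU one_ne_zero : G4) : M4) *ᵥ u)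
      have h1 : (c⁻¹ * x) ^ q = c⁻¹ * x := (hmem _).1 (hr u u hu hu)
      rw [mul_pow, hz1, show x ^ q = x from UnitPrimeDim.herm_symm hF _ _, neg_mul] at h1
      have h2 : (2 * c⁻¹) * x = 0 := by linear_combination -h1
      exact (mul_eq_zero.1 h2).resolve_left (mul_ne_zero hR.two (inv_ne_zero hk))
  · have hnp : ¬ q.Prime := fun h => hclass ⟨h43, h⟩
    have hp2 : p % 2 = 1 := by
      rcases hp.eq_two_or_odd with h | h
      · exfalso
        rw [he, h] at hodd
        rcases e with - | e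
        · simp at he; omega
        · rw [pow_succ, Nat.mul_mod_left] at hodd; omega
      · exact h
    have he_odd : Odd e := by
      rcases Nat.even_or_odd e with ⟨a, ha⟩ | h
      · exfalso
        rw [he, ha, ← two_mul, pow_mul, Nat.pow_mod] at h43
        obtain ⟨b, hb⟩ : ∃ b, p = 2 * b + 1 := ⟨p / 2, by omega⟩
        have : p ^ 2 % 4 = 1 := by
          rw [hb, show (2 * b + 1) ^ 2 = 4 * (b * b + b) + 1 by ring]; omega
        rw [this, one_pow] at h43
        simp at h43
      · exact h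
    have he1 : e ≠ 1 := fun h => hnp (by rw [he, h, pow_one]; exact hp)
    obtain ⟨r, hr, e', rfl⟩ : ∃ r, r.Prime ∧ ∃ e', e = r * e' := by
      obtain ⟨r, hr, hd⟩ := Nat.exists_prime_and_dvd he1
      exact ⟨r, hr, hd⟩
    have hrodd : Odd r := Nat.Odd.of_mul_left he_odd
    have he'odd : Odd e' := Nat.Odd.of_mul_right he_odd
    set k := p ^ (2 * e') with hk'
    have hkq : k ^ r = q ^ 2 := by rw [hk', he, ← pow_mul, ← pow_mul]; ring_nf
    have hk4 : k % 4 = 1 := by
      rw [hk', pow_mul, Nat.pow_mod]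
      obtain ⟨b, hb⟩ : ∃ b, p = 2 * b + 1 := ⟨p / 2, by omega⟩
      have : p ^ 2 % 4 = 1 := by rw [hb, show (2 * b + 1) ^ 2 = 4 * (b * b + b) + 1 by ring]; omega
      rw [this, one_pow]
      rfl
    have hk2 : 2 ≤ k := by
      rw [hk']
      exact le_trans hp.two_le (Nat.le_self_pow (by obtain ⟨a, ha⟩ := he'odd; omega) p)
    obtain ⟨F₀, hF0, hmem⟩ := exists_subfield_card (F := F) k hk2 (p := p) hk'
      (by rw [Nat.card_eq_fintype_card, hF, ← hkq]; simpa using Nat.sub_dvd_pow_sub_pow k 1 r)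
    have hI : I ∈ F₀ := (hmem I).2 (by
      obtain ⟨a, ha⟩ : ∃ a, k = 4 * a + 1 := ⟨k / 4, by omega⟩
      rw [ha, pow_succ, pow_mul, hI4, one_pow, one_mul])
    have hst : ∀ x ∈ F₀, x ^ q ∈ F₀ := fun x hx => pow_mem hx q
    have hcardF : Fintype.card F = Nat.card F₀ ^ r := by rw [hF0, hkq, hF]
    have htop := hne_top F₀ (by
      rw [hF0, ← hkq]
      exact lt_self_pow₀ (by omega) hr.one_lt)
    have hIq : I ^ q = -I := by
      obtain ⟨a, ha⟩ : ∃ a, q = 4 * a + 3 := ⟨q / 4, by omega⟩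
      rw [ha, pow_add, pow_mul, hI4, one_pow, one_mul]
      linear_combination I * hR.I_sq
    obtain ⟨a, ha0, haq, haF⟩ : ∃ a : F, a ≠ 0 ∧ a ^ q = a ∧ a * c ∈ F₀ := by
      rcases hcq with hc1 | hc1
      · exact ⟨c⁻¹, inv_ne_zero hk, by rw [inv_pow, hc1], by rw [inv_mul_cancel₀ hk]; exact one_mem _⟩
      · refine ⟨c⁻¹ * I, mul_ne_zero (inv_ne_zero hk) hR.I_ne, ?_, ?_⟩
        · rw [mul_pow, inv_pow, hc1, hIq, inv_neg, neg_mul_neg]
        · rw [mul_comm c⁻¹, inv_mul_cancel_right₀ hk]; exact hI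
    obtain ⟨l, hl0, hl⟩ := exists_norm_eq hF ha0 haq
    exact Or.inr (Or.inr (Or.inr (Or.inr (Or.inr (Or.inl
      ⟨F₀, r, P * scU hl0, hr, hrodd, hcardF, hrat F₀ 1 l hl0 hst (by rw [one_mul, hl]; exact haF),
        eq_inf hH (hle F₀ l hl0 hI) (UnitPrimeDim.not_le_subfieldSubgroup hF le_rfl F₀ htop _)⟩)))))

end Cfsg.Agent.Lib.SUFour
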