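import Cfsg.Agent.Lib.SUFour.Real

/-! An absolutely irreducible normal subgroup: invariant bilinear forms, subfields, the residual class. -/

set_option autoImplicit false
set_option linter.unusedSectionVars false

open scoped Matrix MatrixGroups commutatorElement

namespace Cfsg.Agent.Lib.SUFour

variable {F : Type*} [Field F] [Fintype F] {q : ℕ}

local notation "h₄" => Cfsg.hermForm 4 F q

theorem comm_central {G : Type*} [Group G] {z w a b : G} (hz : ∀ x, z * x = x * z) (hw : ∀ x, w * x = x * w) :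
    ⁅z * a, w * b⁆ = ⁅a, b⁆ := by
  have e : ∀ x y : G, ⁅x, y⁆ = x * y * (y * x)⁻¹ := fun x y => by rw [commutatorElement_def, mul_inv_rev]; group
  have h1 : z * a * (w * b) = z * w * (a * b) := by
    rw [mul_assoc z a, ← mul_assoc a w, ← hw a, mul_assoc w a, ← mul_assoc z w]
  have h2 : w * b * (z * a) = z * w * (b * a) := by
    rw [mul_assoc w b, ← mul_assoc b z, ← hz b, mul_assoc z b, ← mul_assoc w z, ← hz w]
  have h3 : ∀ x, z * w * x = x * (z * w) := fun x => by rw [mul_assoc, hw, ← mul_assoc, hz, mul_assoc]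
  rw [e, e, h1, h2, mul_inv_rev]
  calc z * w * (a * b) * ((b * a)⁻¹ * (z * w)⁻¹) = z * w * (a * b * (b * a)⁻¹) * (z * w)⁻¹ := by group
    _ = _ := by rw [h3]; group

theorem herm_add_right (hF : Fintype.card F = q ^ 2) (x y v : Fin 4 → F) : h₄ v (x + y) = h₄ v x + h₄ v y := by
  simp only [Cfsg.hermForm, Pi.add_apply, ← Classical.conjHom_apply hF, map_add, mul_add, Finset.sum_add_distrib]

theorem exists_partner_right (hF : Fintype.card F = q ^ 2) {v : Fin 4 → F} (hv : v ≠ 0) : ∃ u, h₄ v u ≠ 0 := by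
  by_contra hcon
  push Not at hcon
  exact hv (UnitPrimeDim.herm_nondeg hF fun x => UnitPrimeDim.herm_eq_zero_symm hF (hcon x))

theorem eq_of_herm_right (hF : Fintype.card F = q ^ 2) {x y : Fin 4 → F} (hxy : ∀ u, h₄ u x = h₄ u y) : x = y := by
  refine sub_eq_zero.1 (UnitPrimeDim.herm_nondeg hF fun u => ?_)
  have h1 := herm_add_right hF (x - y) y u
  rw [sub_add_cancel, hxy] at h1
  exact right_eq_add.1 h1

/-- the conjugate-linear map of a bilinear form -/
noncomputable def semilinOf (hF : Fintype.card F = q ^ 2) (B : (Fin 4 → F) → (Fin 4 → F) → F) (v : Fin 4 → F) : Fin 4 → F :=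
  fun i => Classical.conjHom hF (B (Pi.single i 1) v)

theorem herm_semilinOf (hF : Fintype.card F = q ^ 2) {B : (Fin 4 → F) → (Fin 4 → F) → F}
    (hB : Cfsg.Geo.IsBilinearForm B) (u v : Fin 4 → F) : h₄ u (semilinOf hF B v) = B u v := by
  let L : (Fin 4 → F) →ₗ[F] F :=
    { toFun := fun x => B x v, map_add' := fun x y => hB.add_left x y v, map_smul' := fun c x => hB.smul_left c x v }
  have h1 : ∀ i, Classical.conjHom hF (B (Pi.single i 1) v) ^ q = B (Pi.single i 1) v := fun i => by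
    rw [← Classical.conjHom_apply hF, Classical.conjHom_conjHom]
  simp only [Cfsg.hermForm, semilinOf, h1]
  show _ = L u
  conv_rhs => rw [pi_eq_sum_univ u]
  rw [map_sum]
  refine Finset.sum_congr rfl fun i _ => ?_
  rw [map_smul, smul_eq_mul]
  show _ = u i * B _ v
  congr 2
  funext j
  simp [Pi.single_apply, eq_comm]

theorem semilinOf_spec (hF : Fintype.card F = q ^ 2) {B : (Fin 4 → F) → (Fin 4 → F) → F}
    (hB : Cfsg.Geo.IsBilinearForm B) :
    (∀ x y, semilinOf hF B (x + y) = semilinOf hF B x + semilinOf hF B y) ∧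
      ∀ (c : F) x, semilinOf hF B (c • x) = c ^ q • semilinOf hF B x := by
  refine ⟨fun x y => funext fun i => ?_, fun c x => funext fun i => ?_⟩
  · simp only [semilinOf, Pi.add_apply, hB.add_right, map_add]
  · simp only [semilinOf, Pi.smul_apply, smul_eq_mul, hB.smul_right, map_mul, ← Classical.conjHom_apply hF]

/-- two conjugate-linear maps commuting with an absolutely irreducible group compose to a scalar -/
theorem comp_scalar (hF : Fintype.card F = q ^ 2) {N : Subgroup (GL (Fin 4) F)}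
    (habs : Cfsg.Geo.ActsAbsolutelyIrreducibly (Cfsg.Geo.matrixSet N)) {J K : (Fin 4 → F) → (Fin 4 → F)}
    (hJa : ∀ x y, J (x + y) = J x + J y) (hJs : ∀ (c : F) x, J (c • x) = c ^ q • J x)
    (hKa : ∀ x y, K (x + y) = K x + K y) (hKs : ∀ (c : F) x, K (c • x) = c ^ q • K x)
    (hJN : ∀ g ∈ N, ∀ v, J (ac g v) = ac g (J v)) (hKN : ∀ g ∈ N, ∀ v, K (ac g v) = ac g (K v)) :
    ∃ c : F, ∀ v, K (J v) = c • v := by
  let L : (Fin 4 → F) →ₗ[F] (Fin 4 → F) :=
    { toFun := fun v => K (J v)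
      map_add' := fun x y => by rw [hJa, hKa]
      map_smul' := fun c x => by
        rw [hJs, hKs, RingHom.id_apply, ← Classical.conjHom_apply hF, ← Classical.conjHom_apply hF,
          Classical.conjHom_conjHom] }
  obtain ⟨c, hc⟩ := habs.2 (LinearMap.toMatrix' L) (by
    rintro _ ⟨m, hm, rfl⟩
    refine Matrix.toLin'.injective (LinearMap.ext fun v => ?_)
    rw [Matrix.toLin'_apply, Matrix.toLin'_apply, ← Matrix.mulVec_mulVec, ← Matrix.mulVec_mulVec,
      LinearMap.toMatrix'_mulVec, LinearMap.toMatrix'_mulVec]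
    show K (J (ac m v)) = ac m (K (J v))
    rw [hJN m hm, hKN m hm])
  refine ⟨c, fun v => ?_⟩
  show L v = c • v
  rw [← LinearMap.toMatrix'_mulVec L v, hc, Matrix.smul_mulVec, Matrix.one_mulVec]

theorem injective_of_commutes (hF : Fintype.card F = q ^ 2) {N : Subgroup (GL (Fin 4) F)}
    (habs : Cfsg.Geo.ActsAbsolutelyIrreducibly (Cfsg.Geo.matrixSet N)) {J : (Fin 4 → F) → (Fin 4 → F)}
    (hJa : ∀ x y, J (x + y) = J x + J y) (hJs : ∀ (c : F) x, J (c • x) = c ^ q • J x)
    (hJN : ∀ g ∈ N, ∀ v, J (ac g v) = ac g (J v)) (hne : ∃ v, J v ≠ 0) {v : Fin 4 → F} (hv : J v = 0) : v = 0 := by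
  have hJ0 : J 0 = 0 := by rw [← zero_smul F (0 : Fin 4 → F), hJs, Classical.zero_pow_q hF, zero_smul, zero_smul]
  let W : Submodule F (Fin 4 → F) :=
    { carrier := {x | J x = 0}
      add_mem' := fun {a b} ha hb => by show J (a + b) = 0; rw [hJa, ha, hb, add_zero]
      zero_mem' := hJ0
      smul_mem' := fun c a ha => by show J (c • a) = 0; rw [hJs, ha, smul_zero] }
  rcases habs.1 W (by
    rintro _ ⟨m, hm, rfl⟩ _ ⟨w, hw, rfl⟩
    show J (Matrix.toLin' _ w) = 0
    rw [Matrix.toLin'_apply]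
    show J (ac m w) = 0
    rw [hJN m hm, show J w = 0 from hw]; exact Matrix.mulVec_zero _) with h | h
  · exact (Submodule.mem_bot F).1 (h ▸ (hv : v ∈ W))
  · obtain ⟨x, hx⟩ := hne
    exact absurd (h ▸ Submodule.mem_top : x ∈ W) hx

/-- a conjugate-linear map commuting with an absolutely irreducible normal subgroup -/
theorem semilinear_out (hF : Fintype.card F = q ^ 2) {H N : Subgroup (GL (Fin 4) F)}
    (hH : Cfsg.Geo.IsMaximalIn (UnitPrimeDim.omegaU 4 F q) H) (hn : NormalIn H N)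
    (habs : Cfsg.Geo.ActsAbsolutelyIrreducibly (Cfsg.Geo.matrixSet N)) {J : (Fin 4 → F) → (Fin 4 → F)}
    (hJa : ∀ x y, J (x + y) = J x + J y) (hJs : ∀ (c : F) x, J (c • x) = c ^ q • J x)
    (hJN : ∀ g ∈ N, ∀ v, J (ac g v) = ac g (J v)) (hne : ∃ v, J v ≠ 0) : Cases q H := by
  classical
  let σ : F →+* F := Classical.conjHom hF
  have hσ : ∀ x, σ x = x ^ q := fun x => Classical.conjHom_apply hF x
  have hσσ : ∀ x, σ (σ x) = x := fun x => Classical.conjHom_conjHom hF x
  have hσne : σ ≠ RingHom.id F := Classical.conjHom_ne_id hF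
  let σe : F ≃+* F := RingEquiv.ofBijective σ ⟨σ.injective, Finite.surjective_of_injective σ.injective⟩
  have hinj := fun {v} hv => injective_of_commutes hF habs hJa hJs hJN hne (v := v) hv
  obtain ⟨c, hc⟩ := comp_scalar hF habs hJa hJs hJa hJs hJN hJN
  obtain ⟨v0, hv0⟩ := exists_ne (0 : Fin 4 → F)
  have hc0 : c ≠ 0 := fun e => hv0 (hinj (hinj (by rw [hc, e, zero_smul])))
  have hσc : σ c = c := by
    refine smul_left_injective F (fun e => hv0 (hinj e) : J v0 ≠ 0) ?_
    show σ c • J v0 = c • J v0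
    rw [hσ, ← hJs, ← hc, hc (J v0)]
  obtain ⟨a, ha0, ha⟩ := Cfsg.Agent.Lib.PrimeDim.FormDescent.exists_norm σe
    (fun e => hσne (RingHom.ext fun x => congrFun (congrArg DFunLike.coe e) x))
    (fun x => hσσ x) (inv_ne_zero hc0) (show σ c⁻¹ = c⁻¹ by rw [map_inv₀, hσc])
  let K : (Fin 4 → F) → (Fin 4 → F) := fun v => a • J v
  have hKa : ∀ x y, K (x + y) = K x + K y := fun x y => by
    show a • J (x + y) = _; rw [hJa, smul_add]
  have hKs : ∀ (c : F) x, K (c • x) = c ^ q • K x := fun c x => by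
    show a • J (c • x) = c ^ q • a • J x; rw [hJs, smul_comm]
  have hKN : ∀ g ∈ N, ∀ v, K (ac g v) = ac g (K v) := fun g hg v => by
    show a • J (ac g v) = (g : Matrix (Fin 4) (Fin 4) F) *ᵥ (a • J v)
    rw [Matrix.mulVec_smul, hJN g hg]
  have hKK : ∀ x, K (K x) = x := fun x => by
    show a • J (a • J x) = x
    rw [hJs, hc, smul_smul, smul_smul, ← hσ, show a * σ a = c⁻¹ from ha, inv_mul_cancel₀ hc0, one_smul]
  let B : (Fin 4 → F) → (Fin 4 → F) → F := fun u v => h₄ v (K u)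
  have hB : Cfsg.Geo.IsBilinearForm B :=
    ⟨fun x y v => by show h₄ v (K (x + y)) = _; rw [hKa, herm_add_right hF],
      fun c x v => by
        show h₄ v (K (c • x)) = _
        rw [hKs, UnitPrimeDim.herm_smul_right, ← hσ, ← hσ, hσσ],
      fun v x y => UnitPrimeDim.herm_add_left _ _ _, fun c v x => UnitPrimeDim.herm_smul_left _ _ _⟩
  have hiN : ∀ g ∈ N, ∀ u v, h₄ (ac g u) (ac g v) = h₄ u v := fun g hg u v => (hH.1.le (hn.le hg)).1 u v
  obtain ⟨hTa, hTs⟩ := semilinOf_spec hF hB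
  obtain ⟨d, hd⟩ := comp_scalar hF habs hKa hKs hTa hTs hKN (fun g hg v => eq_of_herm_right hF fun u => by
    rw [herm_semilinOf hF hB]
    conv_rhs => rw [← ac_ac_inv g u, hiN g hg, herm_semilinOf hF hB]
    show h₄ (ac g v) (K u) = h₄ v (K (ac g⁻¹ u))
    rw [hKN g⁻¹ (inv_mem hg), ← hiN g hg v, ac_ac_inv])
  set e := σ d with he
  have hsym : ∀ u v, h₄ v (K u) = e * h₄ u (K v) := fun u v => by
    have h1 := herm_semilinOf hF hB u v
    rw [← hKK v, hd, UnitPrimeDim.herm_smul_right, ← hσ] at h1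
    exact (h1.trans (by rw [hKK v])).symm
  have hee : e * e = 1 := by
    obtain ⟨u, hu⟩ := exists_partner_right hF hv0
    have h1 := hsym (K u) v0
    rw [hKK] at h1
    have h2 := hsym v0 (K u)
    rw [hKK] at h2
    have h3 : (e * e - 1) * h₄ v0 u = 0 := by
      linear_combination -h1 - e * h2
    exact sub_eq_zero.1 ((mul_eq_zero.1 h3).resolve_right hu)
  have hh : ∀ v w, h₄ (K v) (K w) = e * (h₄ v w) ^ q := fun v w => by
    rw [hsym w (K v), hKK, UnitPrimeDim.herm_symm hF]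
  have hcomm : ∀ g ∈ H, ∃ μ : F, ∀ v, K (ac g v) = μ • ac g (K v) := fun g hg => by
    let L : (Fin 4 → F) → (Fin 4 → F) := fun v => ac g⁻¹ (K (ac g v))
    have hLa : ∀ x y, L (x + y) = L x + L y := fun x y => by
      show ac g⁻¹ (K (ac g (x + y))) = _
      rw [show ac g (x + y) = ac g x + ac g y from Matrix.mulVec_add _ _ _, hKa]
      exact Matrix.mulVec_add _ _ _
    have hLs : ∀ (c : F) x, L (c • x) = c ^ q • L x := fun c x => by
      show ac g⁻¹ (K (ac g (c • x))) = _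
      rw [show ac g (c • x) = c • ac g x from Matrix.mulVec_smul _ _ _, hKs]
      exact Matrix.mulVec_smul _ _ _
    obtain ⟨μ, hμ⟩ := comp_scalar hF habs hKa hKs hLa hLs hKN (fun n hn' v => by
      show ac g⁻¹ (K (ac g (ac n v))) = ac n (ac g⁻¹ (K (ac g v)))
      rw [← ac_mul g n, show g * n = (g * n * g⁻¹) * g by group, ac_mul, hKN _ (hn.conj g hg n hn'), ← ac_mul,
        ← ac_mul]
      congr 1
      group)
    refine ⟨μ, fun v => ?_⟩
    have h1 := congrArg (ac g) (hμ (K v))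
    rw [hKK, show L v = ac g⁻¹ (K (ac g v)) from rfl, ac_ac_inv] at h1
    exact h1.trans (Matrix.mulVec_smul _ _ _)
  by_cases hodd : Odd q
  · refine real_structure hF hH e K hKa hKs hKK hh hcomm ?_
    rcases mul_self_eq_one_iff.1 hee with rfl' | rfl'
    · exact Or.inl ⟨rfl', hodd⟩
    · refine Or.inr ⟨rfl', fun u hu => ?_⟩
      have h1 := hsym u u
      rw [hu, rfl'] at h1
      have h2 : (2 : F) ≠ 0 := by
        intro h2
        obtain ⟨p, hp⟩ := CharP.exists F
        obtain ⟨n, hpp, hn'⟩ := FiniteField.card F p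
        haveI := hp
        have hp2 : p = 2 := ((Nat.prime_dvd_prime_iff_eq hpp Nat.prime_two).1 ((CharP.cast_eq_zero_iff F p 2).1 (by exact_mod_cast h2)))
        have : Odd (Fintype.card F) := hF ▸ hodd.pow
        rw [hn', hp2, Nat.odd_pow_iff n.ne_zero] at this
        exact absurd this (by decide)
      exact (mul_eq_zero.1 (show (2 : F) * h₄ u u = 0 by linear_combination h1)).resolve_left h2
  · have h2 : (2 : F) = 0 := by
      obtain ⟨p, hp⟩ := CharP.exists F
      obtain ⟨n, hpp, hn'⟩ := FiniteField.card F p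
      haveI := hp
      have hp2 : p = 2 := by
        rcases hpp.eq_two_or_odd' with h | h
        · exact h
        · exfalso
          apply hodd
          have : Odd (q ^ 2) := by rw [← hF, hn']; exact h.pow
          exact (Nat.odd_pow_iff two_ne_zero).1 this
      subst hp2
      exact_mod_cast CharP.cast_eq_zero F 2
    have he1 : e = -1 := by
      rcases mul_self_eq_one_iff.1 hee with h | h
      · rw [h]; linear_combination h2
      · exact h
    refine real_structure hF hH e K hKa hKs hKK hh hcomm (Or.inr ⟨he1, fun u hu => ?_⟩)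
    let W : Submodule F (Fin 4 → F) :=
      { carrier := {x | h₄ x (K x) = 0}
        add_mem' := fun {a b} ha hb => by
          show h₄ (a + b) (K (a + b)) = 0
          rw [hKa, UnitPrimeDim.herm_add_left, herm_add_right hF, herm_add_right hF, hsym b a, he1,
            show h₄ a (K a) = 0 from ha, show h₄ b (K b) = 0 from hb]
          ring
        zero_mem' := by
          show h₄ 0 (K 0) = 0
          rw [← zero_smul F (0 : Fin 4 → F), UnitPrimeDim.herm_smul_left, zero_mul]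
        smul_mem' := fun c a ha => by
          show h₄ (c • a) (K (c • a)) = 0
          rw [hKs, UnitPrimeDim.herm_smul_left, UnitPrimeDim.herm_smul_right, show h₄ a (K a) = 0 from ha]
          ring }
    rcases habs.1 W (by
      rintro _ ⟨m, hm, rfl⟩ _ ⟨w, hw, rfl⟩
      show h₄ (Matrix.toLin' _ w) (K (Matrix.toLin' _ w)) = 0
      rw [Matrix.toLin'_apply]
      show h₄ (ac m w) (K (ac m w)) = 0
      rw [hKN m hm, hiN m hm]; exact hw) with hW | hW
    · exfalso
      let g : (Fin 4 → F) →+ F := AddMonoidHom.mk' (fun x => h₄ x (K x)) fun a b => by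
        show h₄ (a + b) (K (a + b)) = _
        rw [hKa, UnitPrimeDim.herm_add_left, herm_add_right hF, herm_add_right hF, hsym b a, he1]
        ring
      have hg : Function.Injective g := (injective_iff_map_eq_zero g).2 fun x hx =>
        (Submodule.mem_bot F).1 (hW ▸ (hx : x ∈ W))
      have h5 := Fintype.card_le_of_injective g hg
      rw [Fintype.card_fun, Fintype.card_fin] at h5
      have h6 : 1 < Fintype.card F := Fintype.one_lt_card
      exact absurd h5 (not_le.2 (by simpa using Nat.pow_lt_pow_right h6 (show 1 < 4 by norm_num)))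
    · have h3 : u ∈ W := hW ▸ Submodule.mem_top
      have h4 : h₄ u (K u) = 0 := h3
      rwa [hu] at h4

/-- a fixed bilinear form -/
theorem bilinear_out (hF : Fintype.card F = q ^ 2) {H N : Subgroup (GL (Fin 4) F)}
    (hH : Cfsg.Geo.IsMaximalIn (UnitPrimeDim.omegaU 4 F q) H) (hn : NormalIn H N)
    (habs : Cfsg.Geo.ActsAbsolutelyIrreducibly (Cfsg.Geo.matrixSet N)) {B : (Fin 4 → F) → (Fin 4 → F) → F}
    (hB : Cfsg.Geo.IsBilinearForm B) (hne : ∃ u v, B u v ≠ 0)
    (hBN : ∀ g ∈ N, ∀ u v, B (ac g u) (ac g v) = B u v) : Cases q H := by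
  obtain ⟨ha, hs⟩ := semilinOf_spec hF hB
  refine semilinear_out hF hH hn habs ha hs (fun g hg v => eq_of_herm_right hF fun u => ?_) ?_
  · have hi : ∀ u v, h₄ (ac g u) (ac g v) = h₄ u v := fun u v => (hH.1.le (hn.le hg)).1 u v
    rw [herm_semilinOf hF hB, ← ac_ac_inv g u, hBN g hg, hi, herm_semilinOf hF hB]
  · obtain ⟨u, v, huv⟩ := hne
    exact ⟨v, fun e => huv (by rw [← herm_semilinOf hF hB, e, ← zero_smul F (0 : Fin 4 → F),
      UnitPrimeDim.herm_smul_right, Classical.zero_pow_q hF, zero_mul])⟩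

/-- realisability over a proper subfield -/
theorem realisable_out (hF : Fintype.card F = q ^ 2) {H N : Subgroup (GL (Fin 4) F)}
    (hH : Cfsg.Geo.IsMaximalIn (UnitPrimeDim.omegaU 4 F q) H) (hn : NormalIn H N)
    (habs : Cfsg.Geo.ActsAbsolutelyIrreducibly (Cfsg.Geo.matrixSet N)) {F₀ : Subfield F} (hF₀ : F₀ ≠ ⊤)
    (hR : Cfsg.Geo.RealisableOver F₀ (Cfsg.Geo.matrixSet N)) : Cases q H := by
  classical
  let σ : F →+* F := Classical.conjHom hF
  have hσ : ∀ x, σ x = x ^ q := fun x => Classical.conjHom_apply hF x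
  have hσσ : ∀ x, σ (σ x) = x := fun x => Classical.conjHom_conjHom hF x
  obtain ⟨F₁, r, hF₁, hr, hcard, ⟨B, hB⟩⟩ := PrimeDim.FormDescent.exists_prime_index_realisable hF₀ hR
  have hB' : ∀ p ∈ N, PrimeDim.FormDescent.Rat0 F₁ ((B : Matrix (Fin 4) (Fin 4) F) * (p : Matrix (Fin 4) (Fin 4) F) *
      ((B⁻¹ : GL (Fin 4) F) : Matrix (Fin 4) (Fin 4) F)) := fun p hp i j => hB _ ⟨p, hp, rfl⟩ i j
  rw [Nat.card_eq_fintype_card, hF] at hcard
  rcases hr.eq_two_or_odd' with rfl | hrodd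
  · have hq : Nat.card F₁ = q := (Nat.pow_left_injective two_ne_zero hcard).symm
    have hfix : ∀ x ∈ F₁, σ x = x := fun x hx => by
      rw [hσ, ← hq]; exact (PrimeDim.FormDescent.mem_iff_pow F₁ x).1 hx
    refine semilinear_out hF hH hn habs (J := fun v => ac B⁻¹ (σ ∘ ac B v)) (fun x y => ?_) (fun c x => ?_)
      (fun g hg v => ?_) ?_
    · rw [show ac B (x + y) = ac B x + ac B y from Matrix.mulVec_add _ _ _,
        show σ ∘ (ac B x + ac B y) = σ ∘ ac B x + σ ∘ ac B y from funext fun i => map_add σ _ _]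
      exact Matrix.mulVec_add _ _ _
    · rw [show ac B (c • x) = c • ac B x from Matrix.mulVec_smul _ _ _,
        show σ ∘ (c • ac B x) = σ c • (σ ∘ ac B x) from funext fun i => map_mul σ _ _, ← hσ]
      exact Matrix.mulVec_smul _ _ _
    · set A : GL (Fin 4) F := B * g * B⁻¹ with hA
      have h1 : ac B (ac g v) = ac A (ac B v) := by rw [← ac_mul, ← ac_mul, hA]; congr 1; group
      have hAf : (A : Matrix (Fin 4) (Fin 4) F).map σ = (A : Matrix (Fin 4) (Fin 4) F) := by
        ext i j; exact hfix _ (hB' g hg i j)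
      have h2 : σ ∘ ac A (ac B v) = ac A (σ ∘ ac B v) := by
        rw [show σ ∘ ac A (ac B v) = (A : Matrix (Fin 4) (Fin 4) F).map σ *ᵥ (σ ∘ ac B v) from
          SpFourEven.map_mulVec σ _ _, hAf]
      show ac B⁻¹ (σ ∘ ac B (ac g v)) = ac g (ac B⁻¹ (σ ∘ ac B v))
      rw [h1, h2, ← ac_mul, ← ac_mul, hA]; congr 1; group
    · obtain ⟨v, hv⟩ := exists_ne (0 : Fin 4 → F)
      refine ⟨ac B⁻¹ v, fun e => hv ?_⟩
      have e' := congrArg (ac B) e
      simp only [ac_ac_inv] at e'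
      rw [show ac B 0 = 0 from Matrix.mulVec_zero _] at e'
      funext i
      exact σ.injective (by rw [Pi.zero_apply, map_zero]; exact congrFun e' i)
  -- odd index
  have hσF : ∀ a ∈ F₁, σ a ∈ F₁ := fun a ha => PrimeDim.FormDescent.map_mem F₁ σ ha
  obtain ⟨l, hl1, hl⟩ : ∃ l ∈ F₁, σ l ≠ l := by
    by_contra hcon
    push Not at hcon
    let Fx : Subfield F := RingHom.eqLocusField σ (RingHom.id F)
    have hle : F₁ ≤ Fx := fun x hx => hcon x hx
    have hdvd : q - 1 ∣ Nat.card F - 1 := by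
      rw [Nat.card_eq_fintype_card, hF]; simpa using Nat.sub_dvd_pow_sub_pow q 1 2
    have hFx : Nat.card Fx = q := by
      rw [← SpFourEven.card_fix (C := F) (Classical.two_le_q hF) hdvd]
      exact Nat.card_congr (Equiv.subtypeEquivRight fun x => by
        show σ x = x ↔ _
        rw [hσ])
    letI : Algebra F₁ Fx := (Subfield.inclusion hle).toAlgebra
    have h1 : q = Nat.card F₁ ^ Module.finrank F₁ Fx := by rw [← hFx]; exact Module.natCard_eq_pow_finrank
    rw [h1, ← pow_mul] at hcard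
    have h2 : 2 ≤ Nat.card F₁ := by
      haveI : Fintype F₁ := Fintype.ofFinite _
      rw [Nat.card_eq_fintype_card]; exact Fintype.one_lt_card
    have h3 := Nat.pow_right_injective h2 hcard
    exact Nat.not_even_iff_odd.2 hrodd ⟨_, by rw [← h3, mul_two]⟩
  have hform : ∀ u v, h₄ u v = ∑ i, ∑ j, u i * Cfsg.Geo.gramMatrix h₄ i j * σ (v j) :=
    PrimeDim.FormDescent.form_eq σ _ (fun x y v => UnitPrimeDim.herm_add_left x y v)
      (fun c x v => UnitPrimeDim.herm_smul_left c x v) (fun v x y => herm_add_right hF x y v)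
      (fun c v x => by rw [UnitPrimeDim.herm_smul_right, hσ])
  have hnd : Cfsg.Geo.IsNondegenerateForm h₄ := fun v hv => by
    obtain ⟨u, hu⟩ := exists_partner_right hF hv
    exact ⟨⟨u, fun e => hu (UnitPrimeDim.herm_eq_zero_symm hF e)⟩, u, hu⟩
  obtain ⟨H₀, hH₀⟩ := PrimeDim.FormDescent.gram_isUnit σ _ hform hnd
  obtain ⟨c, hc0, hc⟩ := PrimeDim.FormDescent.exists_smul_gram N σ hσF habs hB' (G := Cfsg.Geo.gramMatrix h₄)
    ⟨H₀, hH₀⟩ (PrimeDim.FormDescent.fixes_gram σ _ hform (by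
      rintro _ ⟨p, hp, rfl⟩ u v; exact (hH.1.le (hn.le hp)).1 u v))
  set M : Matrix (Fin 4) (Fin 4) F := ((B⁻¹ : GL (Fin 4) F) : Matrix (Fin 4) (Fin 4) F) with hM
  have hval : ∀ u v : Fin 4 → F, (∀ i, u i ∈ F₁) → (∀ i, v i ∈ F₁) → c * h₄ (M *ᵥ u) (M *ᵥ v) ∈ F₁ := by
    intro u v hu hv
    have hg : Cfsg.Geo.gramMatrix (fun x y => c * h₄ x y) = c • Cfsg.Geo.gramMatrix h₄ := rfl
    refine PrimeDim.FormDescent.rat_value σ hσF (fun x y => c * h₄ x y) (fun x y => ?_) M ?_ hu hv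
    · show c * h₄ x y = _
      rw [hg, hform, Finset.mul_sum]
      refine Finset.sum_congr rfl fun i _ => ?_
      rw [Finset.mul_sum]
      refine Finset.sum_congr rfl fun j _ => ?_
      rw [Matrix.smul_apply, smul_eq_mul]; ring
    · rw [hg, Matrix.mul_smul, Matrix.smul_mul]
      exact hc
  -- the scalar can be taken symmetric
  obtain ⟨i, j, hij⟩ : ∃ i j, h₄ (M *ᵥ Pi.single i 1) (M *ᵥ Pi.single j 1) ≠ 0 := by
    by_contra hcon
    push Not at hcon
    have h0 : Mᵀ * Cfsg.Geo.gramMatrix h₄ * M.map σ = 0 := by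
      ext a b
      have h := hcon a b
      rw [PrimeDim.FormDescent.gram_congr σ _ hform M,
        show σ ∘ (Pi.single b (1 : F) : Fin 4 → F) = Pi.single b 1 from funext fun k => by
          by_cases hk : k = b <;> simp [hk]] at h
      simpa using h
    have hu : IsUnit (Mᵀ * Cfsg.Geo.gramMatrix h₄ * M.map σ) :=
      (((Matrix.isUnit_transpose _).2 (B⁻¹).isUnit).mul ⟨H₀, hH₀⟩).mul
        ((RingHom.mapMatrix σ).isUnit_map (B⁻¹).isUnit)
    rw [h0] at hu
    exact not_isUnit_zero hu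
  have hsingle : ∀ (i : Fin 4) k, (Pi.single i (1 : F) : Fin 4 → F) k ∈ F₁ := fun i k => by
    by_cases hk : k = i
    · subst hk; rw [Pi.single_eq_same]; exact one_mem _
    · rw [Pi.single_eq_of_ne hk]; exact zero_mem _
  set ρ := σ c / c with hρ
  set g0 := h₄ (M *ᵥ Pi.single i 1) (M *ᵥ Pi.single j 1) with hg0
  have hρ1 : ρ ∈ F₁ := by
    have h1 := hσF _ (hval _ _ (hsingle j) (hsingle i))
    rw [map_mul, hσ (h₄ _ _), UnitPrimeDim.herm_symm hF, ← hg0] at h1
    have h2 := div_mem h1 (hval _ _ (hsingle i) (hsingle j))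
    rwa [← hg0, mul_div_mul_right _ _ hij, ← hρ] at h2
  have hσc0 : σ c ≠ 0 := fun e => hc0 (σ.injective (by rw [e, map_zero]))
  have hρσ : ρ * σ ρ = 1 := by rw [hρ, map_div₀, hσσ]; field_simp
  obtain ⟨t, ht1, ht0, htσ⟩ : ∃ t ∈ F₁, t ≠ 0 ∧ σ t = σ ρ * t := by
    have key : ∀ x ∈ F₁, x + ρ * σ x ∈ F₁ ∧ σ (x + ρ * σ x) = σ ρ * (x + ρ * σ x) := fun x hx =>
      ⟨add_mem hx (mul_mem hρ1 (hσF x hx)), by
        rw [map_add, map_mul, hσσ, mul_add, ← mul_assoc, mul_comm (σ ρ) ρ, hρσ, one_mul]; ring⟩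
    by_cases h1 : 1 + ρ * σ 1 = 0
    · refine ⟨l + ρ * σ l, (key l hl1).1, fun e => ?_, (key l hl1).2⟩
      rw [map_one, mul_one] at h1
      exact hl (by linear_combination σ l * h1 - e)
    · exact ⟨_, (key 1 (one_mem _)).1, h1, (key 1 (one_mem _)).2⟩
  have hct : σ (c * t) = c * t := by
    rw [map_mul, htσ, hρ, map_div₀, hσσ]; field_simp
  let σe : F ≃+* F := RingEquiv.ofBijective σ ⟨σ.injective, Finite.surjective_of_injective σ.injective⟩
  obtain ⟨s, hs0, hs⟩ := PrimeDim.FormDescent.exists_norm σe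
    (fun e => Classical.conjHom_ne_id hF (RingHom.ext fun x => congrFun (congrArg DFunLike.coe e) x))
    (fun x => hσσ x) (mul_ne_zero hc0 ht0) hct
  let z : GL (Fin 4) F := Units.map (Matrix.scalar (Fin 4) : F →+* _).toMonoidHom (Units.mk0 s hs0)
  have hz : ∀ x : GL (Fin 4) F, z * x = x * z := fun x => Units.ext (by
    show Matrix.scalar (Fin 4) s * (x : Matrix (Fin 4) (Fin 4) F) = (x : Matrix (Fin 4) (Fin 4) F) * Matrix.scalar (Fin 4) s
    exact Matrix.scalar_comm s (Commute.all _) _)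
  have hle : H ≤ Cfsg.Geo.subfieldSubgroup F₁ (z * B⁻¹) := fun g hg => by
    have hcj : MulAut.conj (z * B⁻¹) = MulAut.conj B⁻¹ := MulEquiv.ext fun x => by
      show z * B⁻¹ * x * (z * B⁻¹)⁻¹ = B⁻¹ * x * (B⁻¹)⁻¹
      calc z * B⁻¹ * x * (z * B⁻¹)⁻¹ = z * (B⁻¹ * x * B) * z⁻¹ := by group
        _ = _ := by rw [hz (B⁻¹ * x * B)]; group
    have h1 := PrimeDim.FormDescent.mem_subfieldSubgroup_of_normalises N habs hB' (h := g) (hn.conj g hg)
    unfold Cfsg.Geo.subfieldSubgroup at h1 ⊢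
    rwa [hcj]
  refine Or.inr (Or.inr (Or.inr (Or.inr (Or.inr (Or.inl
    ⟨F₁, r, z * B⁻¹, hr, hrodd, ?_, fun u v hu hv => ?_, eq_inf hH hle
      (UnitPrimeDim.not_le_subfieldSubgroup hF le_rfl F₁ hF₁ _)⟩)))))
  · rw [hF]; exact hcard
  · have hzv : ∀ w : Fin 4 → F, ((z * B⁻¹ : GL (Fin 4) F) : Matrix (Fin 4) (Fin 4) F) *ᵥ w = s • (M *ᵥ w) := fun w => by
      show (Matrix.scalar (Fin 4) s * M) *ᵥ w = _
      rw [Matrix.scalar_apply, ← Matrix.smul_one_eq_diagonal, Matrix.smul_mul, Matrix.one_mul, Matrix.smul_mulVec]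
    rw [one_mul, hzv, hzv, UnitPrimeDim.herm_smul_left, UnitPrimeDim.herm_smul_right, ← hσ, ← mul_assoc,
      show s * σ s = c * t from hs, mul_comm c t, mul_assoc]
    exact mul_mem ht1 (hval u v hu hv)

/-- the residual case -/
theorem residual_out (hF : Fintype.card F = q ^ 2) {H N : Subgroup (GL (Fin 4) F)}
    (hH : Cfsg.Geo.IsMaximalIn (UnitPrimeDim.omegaU 4 F q) H) (hn : NormalIn H N)
    (hNZ : ¬ N ≤ Cfsg.Geo.scalars (Fin 4) F) (habs : Cfsg.Geo.ActsAbsolutelyIrreducibly (Cfsg.Geo.matrixSet N))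
    (hperf : ⁅N, N⁆ = N) (hsimp : ∀ M, NormalIn N M → M ≤ Cfsg.Geo.scalars (Fin 4) F ∨ M = N) : Cases q H := by
  classical
  by_cases hQ : ∃ Q : (Fin 4 → F) → F, Cfsg.Geo.IsNondegenerateQuadraticForm Q ∧
      Cfsg.Geo.FixesQuadForm (Cfsg.Geo.matrixSet N) Q
  · obtain ⟨Q, hQ, hQN⟩ := hQ
    obtain ⟨v, hv⟩ := exists_ne (0 : Fin 4 → F)
    obtain ⟨u, hu⟩ := (hQ.nondegenerate v hv).1
    refine bilinear_out hF hH hn habs hQ.polar_bilinear ⟨u, v, hu⟩ fun g hg x y => ?_
    simp only [QuadraticMap.polar]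
    have hfix : ∀ v, Q (ac g v) = Q v := hQN _ ⟨g, hg, rfl⟩
    rw [show ac g x + ac g y = ac g (x + y) from (Matrix.mulVec_add _ _ _).symm, hfix, hfix, hfix]
  by_cases hS : ∃ b : (Fin 4 → F) → (Fin 4 → F) → F, Cfsg.Geo.IsSymplecticForm b ∧
      Cfsg.Geo.FixesForm (Cfsg.Geo.matrixSet N) b
  · obtain ⟨b, hb, hbN⟩ := hS
    obtain ⟨v, hv⟩ := exists_ne (0 : Fin 4 → F)
    obtain ⟨u, hu⟩ := (hb.nondegenerate v hv).1
    exact bilinear_out hF hH hn habs hb.bilinear ⟨u, v, hu⟩ fun g hg => hbN _ ⟨g, hg, rfl⟩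
  by_cases hR : ∃ F₀ : Subfield F, F₀ ≠ ⊤ ∧ Cfsg.Geo.RealisableOver F₀ (Cfsg.Geo.matrixSet N)
  · obtain ⟨F₀, h1, h2⟩ := hR
    exact realisable_out hF hH hn habs h1 h2
  refine Or.inr (Or.inr (Or.inr (Or.inr (Or.inr (Or.inr (Or.inr (Or.inr (Or.inr ⟨N, ?_, hQ, hS⟩))))))))
  set Z := Cfsg.Geo.scalars (Fin 4) F with hZ
  set π := QuotientGroup.mk' (Z.subgroupOf N) with hπ
  exact
    { le := hn.le
      normal := hn.conj
      perfect := hperf
      simple := by
        haveI : Nontrivial (N ⧸ Z.subgroupOf N) := by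
          obtain ⟨x, hx, hxZ⟩ := SetLike.not_le_iff_exists.1 hNZ
          exact ⟨⟨π ⟨x, hx⟩, 1, fun e => hxZ (Subgroup.mem_subgroupOf.1 ((QuotientGroup.eq_one_iff (N := Z.subgroupOf N) (⟨x, hx⟩ : N)).1 e))⟩⟩
        refine ⟨fun K hK => ?_⟩
        have hKs : ∀ y, π y ∈ K → (y : GL (Fin 4) F) ∈ ((K.comap π).map N.subtype) := fun y hy => ⟨y, hy, rfl⟩
        rcases hsimp ((K.comap π).map N.subtype) ⟨Subgroup.map_subtype_le _, by
            rintro x hx _ ⟨y, hy, rfl⟩
            exact ⟨_, (hK.comap π).conj_mem y hy ⟨x, hx⟩, rfl⟩⟩ with e | e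
        · refine Or.inl (eq_bot_iff.2 fun k hk => ?_)
          obtain ⟨y, rfl⟩ := QuotientGroup.mk'_surjective _ k
          exact Subgroup.mem_bot.2 ((QuotientGroup.eq_one_iff _).2 (e (hKs y hk)))
        · refine Or.inr (eq_top_iff.2 fun k _ => ?_)
          obtain ⟨y, rfl⟩ := QuotientGroup.mk'_surjective _ k
          obtain ⟨y', hy', hyy⟩ := (show (y : GL (Fin 4) F) ∈ (K.comap π).map N.subtype by rw [e]; exact y.2)
          exact (Subtype.ext hyy : y' = y) ▸ hy'
      nonabelian := fun hc => hNZ (hperf ▸ (Subgroup.commutator_le.2 fun a ha b hb => by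
        have h1 : π ⁅(⟨a, ha⟩ : N), ⟨b, hb⟩⁆ = 1 := by
          rw [map_commutatorElement, commutatorElement_eq_one_iff_mul_comm]; exact hc.is_comm.comm _ _
        exact Subgroup.mem_subgroupOf.1 ((QuotientGroup.eq_one_iff (N := Z.subgroupOf N) ⁅(⟨a, ha⟩ : N), ⟨b, hb⟩⁆).1 h1)))
      centralizer_scalar := fun g hg hgc => by
        have hcent : ∀ z ∈ Z, ∀ x : GL (Fin 4) F, z * x = x * z := fun z hz x => by
          obtain ⟨c, hc⟩ := (Cfsg.Geo.mem_scalars_iff z).1 hz
          refine Units.ext ?_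
          rw [Units.val_mul, Units.val_mul, hc, Matrix.smul_mul, Matrix.mul_smul, Matrix.one_mul, Matrix.mul_one]
        let χ : GL (Fin 4) F → GL (Fin 4) F := fun x => g * x * g⁻¹ * x⁻¹
        have hcomm : ∀ x ∈ N, g * x = x * g := by
          intro x hx
          rw [← hperf, Subgroup.commutator_def] at hx
          induction hx using Subgroup.closure_induction with
          | mem x hx =>
            obtain ⟨a, ha, b, hb, rfl⟩ := hx
            have ea : g * a * g⁻¹ = χ a * a := by simp [χ]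
            have eb : g * b * g⁻¹ = χ b * b := by simp [χ]
            have h1 : g * ⁅a, b⁆ * g⁻¹ = ⁅a, b⁆ := by
              calc g * ⁅a, b⁆ * g⁻¹ = ⁅g * a * g⁻¹, g * b * g⁻¹⁆ := by simp only [commutatorElement_def]; group
                _ = _ := by rw [ea, eb]; exact comm_central (hcent _ (hgc a ha)) (hcent _ (hgc b hb))
            calc g * ⁅a, b⁆ = (g * ⁅a, b⁆ * g⁻¹) * g := by group
              _ = _ := by rw [h1]
          | one => simp
          | mul x y _ _ hx hy => rw [← mul_assoc, hx, mul_assoc, hy, mul_assoc]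
          | inv x _ hx =>
            calc g * x⁻¹ = x⁻¹ * (x * g) * x⁻¹ := by group
              _ = x⁻¹ * (g * x) * x⁻¹ := by rw [hx]
              _ = _ := by group
        obtain ⟨c, hc⟩ := habs.2 (g : Matrix (Fin 4) (Fin 4) F) (by
          rintro _ ⟨x, hx, rfl⟩
          exact congrArg Units.val (hcomm x hx))
        exact (Cfsg.Geo.mem_scalars_iff g).2 ⟨Units.mk0 c (fun e => g.ne_zero (by rw [hc, e, zero_smul])), hc⟩
      absIrred := habs
      no_subfield := fun F₀ h1 h2 => hR ⟨F₀, h1, h2⟩ }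

end Cfsg.Agent.Lib.SUFour
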