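import Cfsg.Agent.Lib.SUFour.Dec
import Cfsg.Agent.Lib.SUFour.Forms
import Cfsg.Agent.Lib.UnitTwoPrime.Tensor
import Cfsg.Agent.Lib.TwoPrimeDim.Homogeneous

/-! A normal subgroup that is not absolutely irreducible: decompositions or a tensor product. -/

set_option autoImplicit false
set_option linter.unusedSectionVars false

open scoped Matrix MatrixGroups Kronecker commutatorElement

namespace Cfsg.Agent.Lib.SUFour

variable {F : Type*} [Field F] [Fintype F] {q : ℕ}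

theorem irreducible_iff {G : Subgroup (GL (Fin 4) F)} :
    Cfsg.Geo.ActsIrreducibly (Cfsg.Geo.matrixSet G) ↔ ∀ W, Inv G W → W = ⊥ ∨ W = ⊤ :=
  TwoPrimeDim.actsIrreducibly_iff G

/-- what a normal subgroup without absolute irreducibility gives -/
theorem clifford (hF : Fintype.card F = q ^ 2) {G T : Subgroup (GL (Fin 4) F)} (hG : G ≤ Cfsg.GU 4 F q)
    (hirr : Cfsg.Geo.ActsIrreducibly (Cfsg.Geo.matrixSet G)) (hn : NormalIn G T)
    (hT : ¬ T ≤ Cfsg.Geo.scalars (Fin 4) F)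
    (habs : ¬ Cfsg.Geo.ActsAbsolutelyIrreducibly (Cfsg.Geo.matrixSet T)) :
    (∃ (t m : ℕ) (D : Fin t → Submodule F (Fin 4 → F)),
      Cfsg.Geo.IsNondegenerateMDecomposition (Cfsg.hermForm 4 F q) m D ∧ t * m = 4 ∧
        G ≤ Cfsg.Geo.decompositionStabilizer D) ∨
    (∃ D : Fin 2 → Submodule F (Fin 4 → F), Cfsg.Geo.IsMDecomposition 2 D ∧
      (∀ i, Cfsg.Geo.IsTotallySingularFor (Cfsg.hermForm 4 F q) (D i)) ∧
        G ≤ Cfsg.Geo.decompositionStabilizer D) ∨
    ∃ (e : Fin 4 ≃ Fin 2 × Fin 2) (P : GL (Fin 4) F) (f₁ f₂ : (Fin 2 → F) → (Fin 2 → F) → F),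
      Cfsg.Geo.IsUnitaryFormPow q f₁ ∧ Cfsg.Geo.IsUnitaryFormPow q f₂ ∧
      Cfsg.Geo.IsTensorFormStructure (fun x : F => x ^ q) (Cfsg.hermForm 4 F q) f₁ f₂ e P ∧
      G ≤ Cfsg.Geo.tensorProductSubgroup 2 2 e P := by
  classical
  have hcard4 : Fintype.card (Fin 4) = 4 := Fintype.card_fin 4
  rcases TwoPrimeDim.centre_cases hirr hn.conj with ⟨r, hr, hK⟩ | ⟨t, w, e, hB⟩
  swap
  · rcases UnitMax.blocks_cases hF hG hn.le hB with ⟨s, m, D, h1, h2, h3⟩ | ⟨m, D, h1, h2, h3, h4⟩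
    · exact Or.inl ⟨s, m, D, h1, h2, h3⟩
    · obtain rfl : m = 2 := by omega
      exact Or.inr (Or.inl ⟨D, h2, h3, h4⟩)
  obtain ⟨hodd, -⟩ := UnitMax.field_odd hF (hn.le.trans hG) hK (by norm_num)
  have hr1 : r = 1 := by
    rw [hcard4] at hr
    obtain ⟨j, hj⟩ := hodd
    have h1 := Nat.le_of_dvd (by norm_num) hr
    interval_cases r
    all_goals omega
  subst hr1
  have hc : ∀ M ∈ TwoPrimeDim.centre T, ∃ c : F, M = c • (1 : Matrix (Fin 4) (Fin 4) F) := by
    intro M hM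
    rw [Subalgebra.eq_bot_of_finrank_one hK.finrank_eq, Algebra.mem_bot] at hM
    obtain ⟨c, rfl⟩ := hM
    exact ⟨c, Algebra.algebraMap_eq_smul_one c⟩
  obtain ⟨d, k, A, φ, hdk, hd, hk, hAirr, hAsc, hequiv, hbij⟩ := TwoPrimeDim.homogeneous hirr hn.conj hc
  rw [hcard4] at hdk
  have hass : ∀ v, ∃ x : Fin k → Fin d → F, ∑ j, φ j (x j) = v := by
    intro v
    obtain ⟨x, hx⟩ := hbij.surjective v
    exact ⟨_, hx⟩
  rcases (show (d = 2 ∧ k = 2) ∨ d = 1 ∨ k = 1 by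
      have h1 : d ≤ 4 := by nlinarith
      interval_cases d <;> omega) with ⟨rfl, rfl⟩ | rfl | rfl
  · exact Or.inr (Or.inr (UnitTwoPrime.tensor hF hG hn.le hn.conj hd hk A hAirr hAsc φ hequiv hbij))
  · exfalso
    apply hT
    intro x hx
    set c := A ⟨x, hx⟩ 0 0 with hcdef
    have h1 : ∀ v, ac x v = c • v := by
      intro v
      obtain ⟨y, rfl⟩ := hass v
      rw [Finset.smul_sum]
      show (x : Matrix (Fin 4) (Fin 4) F) *ᵥ _ = _
      rw [Matrix.mulVec_sum]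
      refine Finset.sum_congr rfl fun j _ => ?_
      rw [hequiv j ⟨x, hx⟩, ← map_smul]
      congr 1
      funext i
      fin_cases i
      simp [Matrix.mulVec, dotProduct, hcdef]
    have hxc : (x : Matrix (Fin 4) (Fin 4) F) = c • 1 := TwoPrimeDim.eq_of_mulVec fun v => by
      rw [Matrix.smul_mulVec, Matrix.one_mulVec]; exact h1 v
    exact (Cfsg.Geo.mem_scalars_iff x).2 ⟨Units.mk0 c fun e => x.ne_zero (by rw [hxc, e, zero_smul]), hxc⟩
  · exfalso
    obtain rfl : d = 4 := by omega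
    apply habs
    have hsurj : Function.Surjective (φ 0) := fun v => by
      obtain ⟨x, hx⟩ := hass v
      exact ⟨x 0, by rw [← hx, Fin.sum_univ_one]⟩
    have hinjφ : Function.Injective (φ 0) := LinearMap.injective_iff_surjective.2 hsurj
    refine ⟨irreducible_iff.2 fun W hW => ?_, fun M hM => ?_⟩
    · rcases hAirr (W.comap (φ 0)) (fun n u hu => by
        show φ 0 (A n *ᵥ u) ∈ W
        rw [← hequiv]; exact hW n n.2 _ hu) with h | h
      · refine Or.inl ((Submodule.eq_bot_iff _).2 fun v hv => ?_)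
        obtain ⟨u, rfl⟩ := hsurj v
        rw [(Submodule.eq_bot_iff _).1 h u hv, map_zero]
      · refine Or.inr (eq_top_iff.2 fun v _ => ?_)
        obtain ⟨u, rfl⟩ := hsurj v
        exact (eq_top_iff.1 h (Submodule.mem_top (x := u)) : φ 0 u ∈ W)
    · let Φ : (Fin 4 → F) ≃ₗ[F] (Fin 4 → F) := LinearEquiv.ofBijective (φ 0) ⟨hinjφ, hsurj⟩
      let X : Matrix (Fin 4) (Fin 4) F :=
        LinearMap.toMatrix' (Φ.symm.toLinearMap ∘ₗ Matrix.toLin' M ∘ₗ Φ.toLinearMap)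
      have hX : ∀ u, φ 0 (X *ᵥ u) = M *ᵥ φ 0 u := fun u => by
        rw [LinearMap.toMatrix'_mulVec]
        exact Φ.apply_symm_apply _
      obtain ⟨c, hc'⟩ := hAsc X fun n => TwoPrimeDim.eq_of_mulVec fun u => hinjφ (by
        rw [← Matrix.mulVec_mulVec, ← Matrix.mulVec_mulVec, hX, ← hequiv, ← hequiv, hX, Matrix.mulVec_mulVec,
          Matrix.mulVec_mulVec, hM _ ⟨n, n.2, rfl⟩])
      refine ⟨c, TwoPrimeDim.eq_of_mulVec fun v => ?_⟩
      obtain ⟨u, rfl⟩ := hsurj v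
      rw [← hX, hc', Matrix.smul_mulVec, Matrix.one_mulVec, Matrix.smul_mulVec, Matrix.one_mulVec, map_smul]

/-- minimal normal subgroup outside the scalars -/
theorem exists_minimal {G : Subgroup (GL (Fin 4) F)} (hG : ¬ G ≤ Cfsg.Geo.scalars (Fin 4) F) :
    ∃ N, NormalIn G N ∧ ¬ N ≤ Cfsg.Geo.scalars (Fin 4) F ∧
      ∀ M, NormalIn G M → M ≤ N → M ≤ Cfsg.Geo.scalars (Fin 4) F ∨ M = N := by
  obtain ⟨N, ⟨hN, hne⟩, hmin⟩ := exists_minimal_of_wellFoundedLT
    (fun N : Subgroup (GL (Fin 4) F) => NormalIn G N ∧ ¬ N ≤ Cfsg.Geo.scalars (Fin 4) F)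
    ⟨G, ⟨le_rfl, fun g hg m hm => mul_mem (mul_mem hg hm) (inv_mem hg)⟩, hG⟩
  refine ⟨N, hN, hne, fun M hM hle => ?_⟩
  by_cases h0 : M ≤ Cfsg.Geo.scalars (Fin 4) F
  · exact Or.inl h0
  · exact Or.inr (le_antisymm hle (hmin ⟨hM, h0⟩ hle))

theorem normalIn_commutator {G N : Subgroup (GL (Fin 4) F)} (hn : NormalIn G N) : NormalIn G ⁅N, N⁆ := by
  have hle : ⁅N, N⁆ ≤ N := Subgroup.commutator_le.2 fun a ha b hb =>
    mul_mem (mul_mem (mul_mem ha hb) (inv_mem ha)) (inv_mem hb)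
  refine ⟨hle.trans hn.le, fun g hg m hm => ?_⟩
  have h1 : ⁅N, N⁆.map (MulAut.conj g).toMonoidHom ≤ ⁅N, N⁆ := by
    rw [Subgroup.map_commutator]
    refine Subgroup.commutator_mono ?_ ?_ <;>
      (rintro _ ⟨x, hx, rfl⟩; exact hn.conj g hg x hx)
  exact h1 ⟨m, hm, rfl⟩

theorem normalIn_trans {H N T : Subgroup (GL (Fin 4) F)} (hn : NormalIn H N) (hT : NormalIn N T) {g : GL (Fin 4) F}
    (hg : g ∈ H) : NormalIn N (T.map (MulAut.conj g).toMonoidHom) := by
  refine ⟨?_, ?_⟩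
  · rintro _ ⟨t, ht, rfl⟩
    exact hn.conj g hg t (hT.le ht)
  · rintro x hx _ ⟨t, ht, rfl⟩
    have hx' : g⁻¹ * x * g ∈ N := by
      have := hn.conj g⁻¹ (inv_mem hg) x hx
      rwa [inv_inv] at this
    refine ⟨g⁻¹ * x * g * t * (g⁻¹ * x * g)⁻¹, hT.conj _ hx' t ht, ?_⟩
    show g * _ * g⁻¹ = x * (g * t * g⁻¹) * x⁻¹
    group

theorem scalars_central {z : GL (Fin 4) F} (hz : z ∈ Cfsg.Geo.scalars (Fin 4) F) (x : GL (Fin 4) F) :
    z * x = x * z := by
  obtain ⟨c, hc⟩ := (Cfsg.Geo.mem_scalars_iff z).1 hz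
  exact Units.ext (by simp [hc])

/-- commutators into the scalars: two closures -/
theorem commutator_closure_le {S : Set (GL (Fin 4) F)}
    (h : ∀ a ∈ S, ∀ b ∈ S, ⁅a, b⁆ ∈ Cfsg.Geo.scalars (Fin 4) F) :
    ⁅Subgroup.closure S, Subgroup.closure S⁆ ≤ Cfsg.Geo.scalars (Fin 4) F := by
  haveI : (Cfsg.Geo.scalars (Fin 4) F).Normal := ⟨fun z hz g => by
    rw [← scalars_central hz g, mul_inv_cancel_right]; exact hz⟩
  set π := QuotientGroup.mk' (Cfsg.Geo.scalars (Fin 4) F)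
  have hπ : ∀ a b, π ⁅a, b⁆ = 1 ↔ Commute (π a) (π b) := fun a b => by
    rw [map_commutatorElement, commutatorElement_eq_one_iff_commute]
  have h1 : ∀ a ∈ Subgroup.closure S, ∀ b ∈ S, Commute (π a) (π b) := by
    intro a ha b hb
    induction ha using Subgroup.closure_induction with
    | mem x hx => exact (hπ x b).1 ((QuotientGroup.eq_one_iff _).2 (h x hx b hb))
    | one => rw [map_one]; exact Commute.one_left _
    | mul x y _ _ hx hy => rw [map_mul]; exact hx.mul_left hy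
    | inv x _ hx => rw [map_inv]; exact hx.inv_left
  refine Subgroup.commutator_le.2 fun a ha b hb => (QuotientGroup.eq_one_iff _).1 ((hπ a b).2 ?_)
  induction hb using Subgroup.closure_induction with
  | mem x hx => exact h1 a ha x hx
  | one => rw [map_one]; exact Commute.one_right _
  | mul x y _ _ hx hy => rw [map_mul]; exact hx.mul_right hy
  | inv x _ hx => rw [map_inv]; exact hx.inv_right

/-- a perfect minimal `N` that is not quasi-simple has a normal subgroup that is not absolutely irreducible -/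
theorem exists_inner {H N : Subgroup (GL (Fin 4) F)} (hn : NormalIn H N)
    (hmin : ∀ M, NormalIn H M → M ≤ N → M ≤ Cfsg.Geo.scalars (Fin 4) F ∨ M = N)
    (hNZ : ¬ N ≤ Cfsg.Geo.scalars (Fin 4) F) (hperf : ⁅N, N⁆ = N)
    (hex : ∃ M, NormalIn N M ∧ ¬ M ≤ Cfsg.Geo.scalars (Fin 4) F ∧ M ≠ N) :
    ∃ T, NormalIn N T ∧ ¬ T ≤ Cfsg.Geo.scalars (Fin 4) F ∧
      ¬ Cfsg.Geo.ActsAbsolutelyIrreducibly (Cfsg.Geo.matrixSet T) := by
  classical
  obtain ⟨M₀, hM₀, hM₀Z, hM₀N⟩ := hex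
  obtain ⟨T, ⟨hT, hTZ, hTM⟩, hTmin⟩ := exists_minimal_of_wellFoundedLT
    (fun T : Subgroup (GL (Fin 4) F) => NormalIn N T ∧ ¬ T ≤ Cfsg.Geo.scalars (Fin 4) F ∧ T ≤ M₀)
    ⟨M₀, hM₀, hM₀Z, le_rfl⟩
  have hTN : T ≠ N := fun e => hM₀N (le_antisymm hM₀.le (e ▸ hTM))
  have hdich : ∀ M, NormalIn N M → M ≤ T → M ≤ Cfsg.Geo.scalars (Fin 4) F ∨ M = T := fun M hM hle => by
    by_cases h0 : M ≤ Cfsg.Geo.scalars (Fin 4) F
    · exact Or.inl h0
    · exact Or.inr (le_antisymm hle (hTmin ⟨hM, h0, hle.trans hTM⟩ hle))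
  -- some conjugate differs from `T`
  obtain ⟨g, hg, hgT⟩ : ∃ g ∈ H, ¬ T.map (MulAut.conj g).toMonoidHom ≤ T := by
    by_contra hcon
    push Not at hcon
    rcases hmin T ⟨hT.le.trans hn.le, fun g hg t ht => hcon g hg ⟨t, ht, rfl⟩⟩ hT.le with h | h
    · exact hTZ h
    · exact hTN h
  refine ⟨T, hT, hTZ, fun habs => ?_⟩
  have hinter : ∀ h ∈ H, ¬ T ≤ T.map (MulAut.conj h).toMonoidHom →
      ∀ a ∈ T, ∀ b ∈ T.map (MulAut.conj h).toMonoidHom, ⁅a, b⁆ ∈ Cfsg.Geo.scalars (Fin 4) F := by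
    intro h hh hne a ha b hb
    have hT' := normalIn_trans hn hT hh
    have hI : NormalIn N (T ⊓ T.map (MulAut.conj h).toMonoidHom) :=
      ⟨inf_le_left.trans hT.le, fun x hx m hm => ⟨hT.conj x hx m hm.1, hT'.conj x hx m hm.2⟩⟩
    rcases hdich _ hI inf_le_left with h1 | h1
    · refine h1 ⟨?_, ?_⟩
      · rw [commutatorElement_def, mul_assoc (a * b), mul_assoc a]
        refine mul_mem ha ?_
        rw [← mul_assoc]
        exact hT.conj b (hT'.le hb) _ (inv_mem ha)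
      · rw [commutatorElement_def]
        exact (T.map (MulAut.conj h).toMonoidHom).mul_mem (hT'.conj a (hT.le ha) b hb) (Subgroup.inv_mem _ hb)
    · exact absurd (inf_eq_left.1 h1) hne
  have hcard : ∀ h, Nat.card (T.map (MulAut.conj h).toMonoidHom) = Nat.card T := fun h =>
    Nat.card_congr (T.equivMapOfInjective _ (MulEquiv.injective _)).symm.toEquiv
  have hgne : ¬ T ≤ T.map (MulAut.conj g).toMonoidHom := fun hle => by
    haveI : Finite (T.map (MulAut.conj g).toMonoidHom) := inferInstance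
    exact hgT (Subgroup.eq_of_le_of_card_ge hle (hcard g).le).ge
  -- `T` is perfect
  have hTperf : ⁅T, T⁆ = T := by
    rcases hdich _ (normalIn_commutator hT) (Subgroup.commutator_le.2 fun a ha b hb =>
        mul_mem (mul_mem (mul_mem ha hb) (inv_mem ha)) (inv_mem hb)) with h | h
    swap
    · exact h
    exfalso
    let S : Set (GL (Fin 4) F) := {x | ∃ h ∈ H, ∃ t ∈ T, x = h * t * h⁻¹}
    have hS : ⁅Subgroup.closure S, Subgroup.closure S⁆ ≤ Cfsg.Geo.scalars (Fin 4) F := by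
      refine commutator_closure_le ?_
      rintro _ ⟨u, hu, a, ha, rfl⟩ _ ⟨v, hv, b, hb, rfl⟩
      set w := u⁻¹ * v with hw
      have hwH : w ∈ H := mul_mem (inv_mem hu) hv
      have hb' : w * b * w⁻¹ ∈ T.map (MulAut.conj w).toMonoidHom := ⟨b, hb, rfl⟩
      have hcom : ⁅a, w * b * w⁻¹⁆ ∈ Cfsg.Geo.scalars (Fin 4) F := by
        by_cases hle : T ≤ T.map (MulAut.conj w).toMonoidHom
        · rw [← Subgroup.eq_of_le_of_card_ge hle (hcard w).le] at hb'
          exact h (Subgroup.commutator_mem_commutator ha hb')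
        · exact hinter w hwH hle a ha _ hb'
      have e : ⁅u * a * u⁻¹, v * b * v⁻¹⁆ = u * ⁅a, w * b * w⁻¹⁆ * u⁻¹ := by
        simp only [hw, commutatorElement_def]; group
      rw [e, ← scalars_central hcom u, mul_inv_cancel_right]
      exact hcom
    have hSconj : ∀ x ∈ H, ∀ m ∈ Subgroup.closure S, x * m * x⁻¹ ∈ Subgroup.closure S := by
      intro x hx m hm
      induction hm using Subgroup.closure_induction with
        | mem y hy =>
          obtain ⟨u, hu, a, ha, rfl⟩ := hy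
          exact Subgroup.subset_closure ⟨x * u, mul_mem hx hu, a, ha, by group⟩
        | one => simp
        | mul y z _ _ hy hz => rw [← conj_mul]; exact mul_mem hy hz
        | inv y _ hy => rw [← conj_inv]; exact inv_mem hy
    have hSN : Subgroup.closure S = N := by
      rcases hmin (Subgroup.closure S) ⟨(Subgroup.closure_le _).2 (by
          rintro _ ⟨u, hu, a, ha, rfl⟩
          exact hn.le (hn.conj u hu a (hT.le ha))), hSconj⟩ ((Subgroup.closure_le _).2 (by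
          rintro _ ⟨u, hu, a, ha, rfl⟩
          exact hn.conj u hu a (hT.le ha))) with h1 | h1
      · exact absurd (fun t ht => h1 (Subgroup.subset_closure ⟨1, one_mem _, t, ht, by simp⟩)) hTZ
      · exact h1
    rw [hSN, hperf] at hS
    exact hNZ hS
  -- so the conjugate centralises `T`
  have hcent : ∀ b ∈ T.map (MulAut.conj g).toMonoidHom, ∀ a ∈ T, b * a = a * b := by
    intro b hb a ha
    have hc : ∀ x ∈ T, b * x * b⁻¹ * x⁻¹ ∈ Cfsg.Geo.scalars (Fin 4) F := fun x hx => by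
      have h1 := inv_mem (hinter g hg hgne x hx b hb)
      rwa [commutatorElement_inv, commutatorElement_def] at h1
    rw [← hTperf, Subgroup.commutator_def] at ha
    induction ha using Subgroup.closure_induction with
    | mem x hx =>
      obtain ⟨u, hu, v, hv, rfl⟩ := hx
      have h1 : b * ⁅u, v⁆ * b⁻¹ = ⁅u, v⁆ := by
        calc b * ⁅u, v⁆ * b⁻¹ = ⁅(b * u * b⁻¹ * u⁻¹) * u, (b * v * b⁻¹ * v⁻¹) * v⁆ := by
              simp only [commutatorElement_def]; group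
          _ = _ := comm_central (scalars_central (hc u hu)) (scalars_central (hc v hv))
      calc b * ⁅u, v⁆ = (b * ⁅u, v⁆ * b⁻¹) * b := by group
        _ = _ := by rw [h1]
    | one => simp
    | mul x y _ _ hx hy => rw [← mul_assoc, hx, mul_assoc, hy, mul_assoc]
    | inv x _ hx => exact ((show Commute b x from hx).inv_right).eq
  apply hTZ
  intro t ht
  have hb : g * t * g⁻¹ ∈ T.map (MulAut.conj g).toMonoidHom := ⟨t, ht, rfl⟩
  obtain ⟨c, hc⟩ := habs.2 ((g * t * g⁻¹ : GL (Fin 4) F) : Matrix (Fin 4) (Fin 4) F) (by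
    rintro _ ⟨x, hx, rfl⟩
    exact congrArg Units.val (hcent _ hb x hx))
  have hs : g * t * g⁻¹ ∈ Cfsg.Geo.scalars (Fin 4) F :=
    (Cfsg.Geo.mem_scalars_iff _).2
      ⟨Units.mk0 c (fun e => (g * t * g⁻¹).ne_zero (by rw [hc, e, zero_smul])), hc⟩
  rw [show t = g⁻¹ * ((g * t * g⁻¹) * g) by group, scalars_central hs g, inv_mul_cancel_left]
  exact hs

end Cfsg.Agent.Lib.SUFour
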