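import Cfsg.Agent.Lib.SUFour.Defs
import Cfsg.Agent.Lib.UnitMax.Geom
import Cfsg.Agent.Lib.PGroups.SmallPerm

/-! A perfect group fixes every part of a decomposition with at most four parts. -/

set_option autoImplicit false
set_option linter.unusedSectionVars false

open scoped Matrix MatrixGroups commutatorElement

namespace Cfsg.Agent.Lib.SUFour

variable {F : Type*} [Field F] [Fintype F] {q : ℕ}

theorem decomposition_card_le {t m : ℕ} {D : Fin t → Submodule F (Fin 4 → F)} (hD : Cfsg.Geo.IsMDecomposition m D) :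
    t * m = 4 := by
  have hdec : DirectSum.IsInternal D :=
    DirectSum.isInternal_submodule_of_iSupIndep_of_iSup_eq_top hD.indep hD.iSup_eq_top
  have h := (LinearEquiv.ofBijective (DirectSum.coeLinearMap D) hdec).finrank_eq
  simpa [Module.finrank_directSum, hD.finrank_eq] using h

/-- a perfect group inside a decomposition stabiliser fixes each part -/
theorem fixes_of_perfect {K : Subgroup (GL (Fin 4) F)} (hperf : ⁅K, K⁆ = K) {t m : ℕ}
    {D : Fin t → Submodule F (Fin 4 → F)} (hD : Cfsg.Geo.IsMDecomposition m D)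
    (hle : K ≤ Cfsg.Geo.decompositionStabilizer D) (i : Fin t) : Inv K (D i) := by
  classical
  have ht : t ≤ 4 := by
    have := decomposition_card_le hD
    have := hD.pos
    nlinarith
  have hinj : Function.Injective D := fun a b hab => by
    by_contra hne
    have h1 := hD.indep.pairwiseDisjoint hne
    rw [Function.onFun, hab, disjoint_self] at h1
    have h2 := hD.finrank_eq b
    rw [h1, finrank_bot] at h2
    exact hD.pos.ne h2
  choose π hπ using fun g : K => hle g.2
  let φ : K →* Equiv.Perm (Fin t) := MonoidHom.mk' π fun a b => Equiv.ext fun j => hinj (by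
    rw [← hπ (a * b) j, Equiv.Perm.mul_apply, ← hπ a, ← hπ b]
    rw [Subgroup.coe_mul, Units.val_mul, Matrix.toLin'_mul, Submodule.map_comp])
  haveI : Group.IsSolvable (Equiv.Perm (Fin t)) :=
    PGroups.isSolvable_perm_of_card_le_four (by rwa [Fintype.card_fin])
  have hK : ⁅(⊤ : Subgroup K), (⊤ : Subgroup K)⁆ = ⊤ := by
    apply Subgroup.map_injective K.subtype_injective
    rw [Subgroup.map_commutator, ← MonoidHom.range_eq_map, Subgroup.range_subtype, hperf]
  have hR : ∀ n, (derivedSeries K n) = ⊤ := fun n => by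
    induction n with
    | zero => rfl
    | succ n ih => rw [derivedSeries_succ, ih, hK]
  obtain ⟨n, hn⟩ := (Group.isSolvable_def (Equiv.Perm (Fin t))).1 inferInstance
  intro g hg v hv
  have h1 : φ ⟨g, hg⟩ = 1 := by
    have h2 : φ ⟨g, hg⟩ ∈ (derivedSeries K n).map φ := ⟨_, by rw [hR]; exact Subgroup.mem_top _, rfl⟩
    exact Subgroup.mem_bot.1 (hn ▸ map_derivedSeries_le_derivedSeries φ n h2)
  have h3 := hπ ⟨g, hg⟩ i
  rw [show π ⟨g, hg⟩ = 1 from h1, Equiv.Perm.one_apply] at h3
  exact h3 ▸ ⟨v, hv, Matrix.toLin'_apply _ _⟩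

/-- `SU_4(q)` stabilises no decomposition. -/
theorem not_le_decompositionStabilizer (hF : Fintype.card F = q ^ 2) {t m : ℕ}
    {D : Fin t → Submodule F (Fin 4 → F)} (hD : Cfsg.Geo.IsMDecomposition m D) :
    ¬ UnitPrimeDim.omegaU 4 F q ≤ Cfsg.Geo.decompositionStabilizer D := by
  intro hle
  let i : Fin t := ⟨0, by have := hD.two_le; omega⟩
  have h := fixes_of_perfect (UnitPrimeDim.omegaU_perfect hF le_rfl) hD hle i
  have hfr := hD.finrank_eq i
  have h4 := decomposition_card_le hD
  have hp := hD.pos
  have h2 := hD.two_le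
  refine UnitPrimeDim.not_le_subspaceStabilizer hF (by norm_num) (D i) (fun e => ?_) (fun e => ?_)
    (UnitPrimeDim.le_stab h)
  · rw [e, finrank_bot] at hfr; omega
  · rw [e, finrank_top, Module.finrank_fin_fun] at hfr
    subst hfr
    omega

end Cfsg.Agent.Lib.SUFour
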