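import Cfsg.Agent.Lib.UnitPrimeDim.Proper
import Cfsg.Agent.Lib.UnitPrimeDim.Reduce
import Cfsg.Agent.Lib.PrimeDim.FormDescent

/-! The list of cases for a maximal subgroup of `SU_4(q)`, and the common reductions. -/

set_option autoImplicit false
set_option linter.unusedSectionVars false

open scoped Matrix MatrixGroups

namespace Cfsg.Agent.Lib.SUFour

variable {F : Type*} [Field F] [Fintype F]

/-- the geometric types and the residual class for `SU_4(q)` -/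
def Cases (q : ℕ) (H : Subgroup (Matrix.GeneralLinearGroup (Fin 4) F)) : Prop :=
    (∃ W : Submodule F (Fin 4 → F), W ≠ ⊥ ∧ Cfsg.Geo.IsTotallySingularFor (Cfsg.hermForm 4 F q) W ∧ H = Cfsg.Geo.subspaceStabilizer W ⊓ (Cfsg.GU 4 F q ⊓ Cfsg.Geo.specialLinear (Fin 4) F)) ∨
    (∃ W : Submodule F (Fin 4 → F), W ≠ ⊥ ∧ Cfsg.Geo.IsNondegenerateOn (Cfsg.hermForm 4 F q) W ∧ 2 * Module.finrank F W < 4 ∧ H = Cfsg.Geo.subspaceStabilizer W ⊓ (Cfsg.GU 4 F q ⊓ Cfsg.Geo.specialLinear (Fin 4) F)) ∨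
    (q ≠ 3 ∧ ∃ D : Fin 4 → Submodule F (Fin 4 → F), Cfsg.Geo.IsNondegenerateMDecomposition (Cfsg.hermForm 4 F q) 1 D ∧ H = Cfsg.Geo.decompositionStabilizer D ⊓ (Cfsg.GU 4 F q ⊓ Cfsg.Geo.specialLinear (Fin 4) F)) ∨
    (3 ≤ q ∧ ∃ D : Fin 2 → Submodule F (Fin 4 → F), Cfsg.Geo.IsNondegenerateMDecomposition (Cfsg.hermForm 4 F q) 2 D ∧ H = Cfsg.Geo.decompositionStabilizer D ⊓ (Cfsg.GU 4 F q ⊓ Cfsg.Geo.specialLinear (Fin 4) F)) ∨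
    (4 ≤ q ∧ ∃ D : Fin 2 → Submodule F (Fin 4 → F), Cfsg.Geo.IsMDecomposition 2 D ∧ (∀ i, Cfsg.Geo.IsTotallySingularFor (Cfsg.hermForm 4 F q) (D i)) ∧ H = Cfsg.Geo.decompositionStabilizer D ⊓ (Cfsg.GU 4 F q ⊓ Cfsg.Geo.specialLinear (Fin 4) F)) ∨
    (∃ (F₀ : Subfield F) (r : ℕ) (P : Matrix.GeneralLinearGroup (Fin 4) F), r.Prime ∧ Odd r ∧ Fintype.card F = Nat.card F₀ ^ r ∧ Cfsg.Geo.IsFormRationalStructure (Cfsg.hermForm 4 F q) F₀ 1 P ∧ H = Cfsg.Geo.subfieldSubgroup F₀ P ⊓ (Cfsg.GU 4 F q ⊓ Cfsg.Geo.specialLinear (Fin 4) F)) ∨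
    (∃ (F₀ : Subfield F) (P : Matrix.GeneralLinearGroup (Fin 4) F) (ζ : F), Fintype.card F = Nat.card F₀ ^ 2 ∧ ζ ≠ 0 ∧ ζ + ζ ^ q = 0 ∧ Cfsg.Geo.IsFormRationalStructure (Cfsg.hermForm 4 F q) F₀ ζ P ∧ (∀ u : Fin 4 → F, (∀ i, u i ∈ F₀) → (Cfsg.hermForm 4 F q) (Matrix.mulVec (P : Matrix (Fin 4) (Fin 4) F) u) (Matrix.mulVec (P : Matrix (Fin 4) (Fin 4) F) u) = 0) ∧ H = Cfsg.Geo.subfieldSubgroup F₀ P ⊓ (Cfsg.GU 4 F q ⊓ Cfsg.Geo.specialLinear (Fin 4) F)) ∨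
    (Odd q ∧ ∃ (F₀ : Subfield F) (P : Matrix.GeneralLinearGroup (Fin 4) F), Fintype.card F = Nat.card F₀ ^ 2 ∧ Cfsg.Geo.IsFormRationalStructure (Cfsg.hermForm 4 F q) F₀ 1 P ∧ H = Cfsg.Geo.subfieldSubgroup F₀ P ⊓ (Cfsg.GU 4 F q ⊓ Cfsg.Geo.specialLinear (Fin 4) F)) ∨
    (∃ (p : ℕ) (R : Subgroup (Matrix.GeneralLinearGroup (Fin 4) F)), p.Prime ∧ q = p ∧ p % 4 = 3 ∧ Cfsg.Geo.IsSymplecticTypeGroup 2 R ∧ Cfsg.Geo.ActsAbsolutelyIrreducibly (Cfsg.Geo.matrixSet R) ∧ R ≤ Cfsg.Geo.similarityGroup (Cfsg.hermForm 4 F q) ∧ Nat.card R = 64 ∧ Nat.card (Subgroup.center R) = 4 ∧ H = Cfsg.Geo.subgroupNormalizer R ⊓ (Cfsg.GU 4 F q ⊓ Cfsg.Geo.specialLinear (Fin 4) F)) ∨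
    Cfsg.Geo.InUnitaryResidualClass H

/-- `M` is contained in `G` and normalised by it -/
structure NormalIn (G M : Subgroup (GL (Fin 4) F)) : Prop where
  le : M ≤ G
  conj : ∀ g ∈ G, ∀ m ∈ M, g * m * g⁻¹ ∈ M

/-- the action on column vectors -/
abbrev ac (m : GL (Fin 4) F) (v : Fin 4 → F) : Fin 4 → F := (m : Matrix (Fin 4) (Fin 4) F) *ᵥ v

/-- `W` is invariant under `M` -/
def Inv (M : Subgroup (GL (Fin 4) F)) (W : Submodule F (Fin 4 → F)) : Prop := ∀ m ∈ M, ∀ w ∈ W, ac m w ∈ W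

lemma ac_mul (a b : GL (Fin 4) F) (v : Fin 4 → F) : ac (a * b) v = ac a (ac b v) := by
  simp [ac, Matrix.mulVec_mulVec]

lemma ac_inv_ac (a : GL (Fin 4) F) (v : Fin 4 → F) : ac a⁻¹ (ac a v) = v := by
  rw [← ac_mul, inv_mul_cancel]; simp [ac]

lemma ac_ac_inv (a : GL (Fin 4) F) (v : Fin 4 → F) : ac a (ac a⁻¹ v) = v := by
  rw [← ac_mul, mul_inv_cancel]; simp [ac]

lemma eq_inf {q : ℕ} {H X : Subgroup (GL (Fin 4) F)}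
    (hH : Cfsg.Geo.IsMaximalIn (UnitPrimeDim.omegaU 4 F q) H) (hX : H ≤ X) (hne : ¬ UnitPrimeDim.omegaU 4 F q ≤ X) :
    H = X ⊓ UnitPrimeDim.omegaU 4 F q :=
  ((hH.2 _ (le_inf hX hH.1.le) inf_le_right).resolve_right fun e => hne (inf_eq_right.1 e)).symm

end Cfsg.Agent.Lib.SUFour
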