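import Cfsg.Agent.Lib.SUFour.Defs
import Cfsg.Agent.Lib.SLFour.SmallLines

/-!
The stabiliser of four orthogonal lines over the field of order nine normalises a symplectic-type 2-group.
-/

set_option autoImplicit false
set_option linter.unusedSectionVars false
set_option maxHeartbeats 2000000
set_option synthInstance.maxHeartbeats 200000

namespace Cfsg.Agent.Lib.SUFour.Nine

open Cfsg.Geo
open scoped Matrix

/-- The identity and the three double transpositions. -/
abbrev Klein (τ : Equiv.Perm (Fin 4)) : Prop := Equiv.Perm.sign τ = 1 ∧ τ * τ = 1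

theorem klein_mul : ∀ τ π : Equiv.Perm (Fin 4), Klein τ → Klein π → Klein (τ * π) := by decide +kernel

theorem klein_conj (π τ : Equiv.Perm (Fin 4)) (h : Klein τ) : Klein (π * τ * π⁻¹) := by
  refine ⟨by simp [h.1, mul_comm], ?_⟩
  rw [show π * τ * π⁻¹ * (π * τ * π⁻¹) = π * (τ * τ) * π⁻¹ by group, h.2, mul_one, mul_inv_cancel]

theorem klein_cases : ∀ τ : Equiv.Perm (Fin 4), Klein τ → τ = 1 ∨
    τ = Equiv.swap 0 1 * Equiv.swap 2 3 ∨ τ = Equiv.swap 0 2 * Equiv.swap 1 3 ∨
    τ = Equiv.swap 0 3 * Equiv.swap 1 2 := by decide +kernel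

theorem klein_transitive : ∀ i : Fin 4, ∃ τ : Equiv.Perm (Fin 4), Klein τ ∧ τ i = 0 := by decide

theorem klein_fixed : ∀ τ : Equiv.Perm (Fin 4), Klein τ → ∀ i, τ i = i → τ = 1 := by decide

theorem klein_card : Fintype.card {τ : Equiv.Perm (Fin 4) // Klein τ} = 4 := by decide

theorem klein_apply_apply {τ : Equiv.Perm (Fin 4)} (h : Klein τ) (i : Fin 4) : τ (τ i) = i := by
  rw [← Equiv.Perm.mul_apply, h.2, Equiv.Perm.one_apply]

/-- The scalars attached to an element of the group: constant square, product one. -/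
structure Good {F : Type*} [Field F] (d : Fin 4 → F) : Prop where
  sq : ∀ i, d i * d i = d 0 * d 0
  prod : ∏ i, d i = 1
  quad : d 0 * d 0 * (d 0 * d 0) = 1

variable {F : Type*} [Field F]

theorem Good.ne_zero {d : Fin 4 → F} (h : Good d) (i : Fin 4) : d i ≠ 0 := fun e => by
  have := h.prod
  rw [Finset.prod_eq_zero (Finset.mem_univ i) e] at this
  exact zero_ne_one this

theorem Good.four {d : Fin 4 → F} (h : Good d) (i : Fin 4) : d i * d i * (d i * d i) = 1 := by
  rw [h.sq i, h.quad]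

theorem pair_const {s : Fin 4 → F} (hs : ∀ i, s i * s i = 1) (hp : ∏ i, s i = 1)
    {τ : Equiv.Perm (Fin 4)} (hτ : Klein τ) (i : Fin 4) : s (τ i) * s i = s (τ 0) * s 0 := by
  rw [Fin.prod_univ_four] at hp
  have key : ∀ {x y : F}, x * y = 1 → y * y = 1 → x = y := fun {x y} h1 h2 => by
    linear_combination y * h1 - x * h2
  have k1 : s 0 * s 1 = s 2 * s 3 := key (by linear_combination hp)
    (by linear_combination (s 3 * s 3) * hs 2 + hs 3)
  have k2 : s 0 * s 2 = s 1 * s 3 := key (by linear_combination hp)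
    (by linear_combination (s 3 * s 3) * hs 1 + hs 3)
  have k3 : s 0 * s 3 = s 1 * s 2 := key (by linear_combination hp)
    (by linear_combination (s 2 * s 2) * hs 1 + hs 2)
  rcases klein_cases τ hτ with rfl | rfl | rfl | rfl
  · rw [Equiv.Perm.one_apply, Equiv.Perm.one_apply, hs, hs]
  all_goals fin_cases i <;>
    simp [Equiv.Perm.mul_apply, Equiv.swap_apply_def] <;>
    first
      | ring1
      | linear_combination -k1
      | linear_combination -k2
      | linear_combination -k3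
      | linear_combination k1
      | linear_combination k2
      | linear_combination k3

variable (b : Module.Basis (Fin 4) F (Fin 4 → F))

/-- `g` acts monomially on the basis `b`. -/
def Mono (g : GL (Fin 4) F) (τ : Equiv.Perm (Fin 4)) (d : Fin 4 → F) : Prop :=
  ∀ i, (g : Matrix (Fin 4) (Fin 4) F) *ᵥ b i = d i • b (τ i)

variable {b}

theorem gl_ext {g h : GL (Fin 4) F}
    (e : ∀ i, (g : Matrix (Fin 4) (Fin 4) F) *ᵥ b i = (h : Matrix (Fin 4) (Fin 4) F) *ᵥ b i) :
    g = h := by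
  apply Units.ext
  apply Matrix.toLin'.injective
  exact b.ext fun i => by simp only [Matrix.toLin'_apply]; exact e i

theorem mulVec_mul (g h : GL (Fin 4) F) (v : Fin 4 → F) :
    ((g * h : GL (Fin 4) F) : Matrix (Fin 4) (Fin 4) F) *ᵥ v =
      (g : Matrix (Fin 4) (Fin 4) F) *ᵥ ((h : Matrix (Fin 4) (Fin 4) F) *ᵥ v) := by
  rw [Units.val_mul, Matrix.mulVec_mulVec]

theorem Mono.mul {g h : GL (Fin 4) F} {τ π : Equiv.Perm (Fin 4)} {d e : Fin 4 → F}
    (hg : Mono b g τ d) (hh : Mono b h π e) : Mono b (g * h) (τ * π) (fun i => d (π i) * e i) :=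
  fun i => by rw [mulVec_mul, hh i, Matrix.mulVec_smul, hg, smul_smul, mul_comm, Equiv.Perm.mul_apply]

theorem Mono.inv {g : GL (Fin 4) F} {τ : Equiv.Perm (Fin 4)} {d : Fin 4 → F}
    (hg : Mono b g τ d) (hd : ∀ i, d i ≠ 0) : Mono b g⁻¹ τ⁻¹ (fun i => (d (τ⁻¹ i))⁻¹) := by
  intro i
  have h1 := hg (τ⁻¹ i)
  rw [← Equiv.Perm.mul_apply, mul_inv_cancel, Equiv.Perm.one_apply] at h1
  have h2 := congrArg (fun w => ((g⁻¹ : GL (Fin 4) F) : Matrix (Fin 4) (Fin 4) F) *ᵥ w) h1
  simp only [← mulVec_mul, inv_mul_cancel, Units.val_one, Matrix.one_mulVec,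
    Matrix.mulVec_smul] at h2
  rw [h2, smul_smul, inv_mul_cancel₀ (hd _), one_smul]

theorem Mono.unique {g : GL (Fin 4) F} {τ π : Equiv.Perm (Fin 4)} {d e : Fin 4 → F}
    (hd : ∀ i, d i ≠ 0) (hg : Mono b g τ d) (hg' : Mono b g π e) : τ = π ∧ d = e := by
  have key : ∀ i, τ i = π i ∧ d i = e i := fun i => by
    have h := congrArg (fun w => b.repr w (τ i)) ((hg i).symm.trans (hg' i))
    simp only [map_smul, Finsupp.smul_apply, Module.Basis.repr_self, smul_eq_mul] at h
    by_cases hp : π i = τ i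
    · rw [hp] at h
      simp only [Finsupp.single_eq_same, mul_one] at h
      exact ⟨hp.symm, h⟩
    · rw [Finsupp.single_eq_same, mul_one, Finsupp.single_eq_of_ne (Ne.symm hp), mul_zero] at h
      exact absurd h (hd i)
  exact ⟨Equiv.ext fun i => (key i).1, funext fun i => (key i).2⟩

theorem exists_gl (L : (Fin 4 → F) ≃ₗ[F] (Fin 4 → F)) :
    ∃ g : GL (Fin 4) F, ∀ v, (g : Matrix (Fin 4) (Fin 4) F) *ᵥ v = L v := by
  refine ⟨⟨LinearMap.toMatrix' L.toLinearMap, LinearMap.toMatrix' L.symm.toLinearMap, ?_, ?_⟩,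
    fun v => LinearMap.toMatrix'_mulVec L.toLinearMap v⟩ <;>
  · rw [← LinearMap.toMatrix'_comp, ← LinearMap.toMatrix'_id]
    congr 1
    ext v
    simp

variable (b) in
theorem exists_mono (τ : Equiv.Perm (Fin 4)) (d : Fin 4 → F) (hd : ∀ i, d i ≠ 0) :
    ∃ g : GL (Fin 4) F, Mono b g τ d := by
  obtain ⟨g, hg⟩ := exists_gl
    (b.equiv ((b.reindex τ.symm).unitsSMul fun i => Units.mk0 (d i) (hd i)) (Equiv.refl _))
  exact ⟨g, fun i => by rw [hg, Module.Basis.equiv_apply]; simp [Module.Basis.unitsSMul_apply, Units.smul_def]⟩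

variable (b) in
/-- The symplectic-type group attached to the basis. -/
def rgp : Subgroup (GL (Fin 4) F) where
  carrier := {g | ∃ τ d, Klein τ ∧ Good d ∧ Mono b g τ d}
  mul_mem' {g h} hg hh := by
    obtain ⟨τ, d, hτ, hd, hg⟩ := hg
    obtain ⟨π, e, hπ, he, hh⟩ := hh
    refine ⟨_, _, klein_mul τ π hτ hπ, ⟨fun i => ?_, ?_, ?_⟩, hg.mul hh⟩
    · linear_combination (e i * e i) * hd.sq (π i) + (d 0 * d 0) * he.sq i -
        (e 0 * e 0) * hd.sq (π 0)
    · rw [Finset.prod_mul_distrib, Equiv.prod_comp π d, hd.prod, he.prod, one_mul]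
    · linear_combination (e 0 * e 0 * (e 0 * e 0)) * hd.four (π 0) + he.quad
  one_mem' := ⟨1, fun _ => 1, ⟨by simp, by simp⟩, ⟨fun _ => rfl, by simp, by simp⟩, fun i => by simp⟩
  inv_mem' {g} hg := by
    obtain ⟨τ, d, hτ, hd, hg⟩ := hg
    refine ⟨_, _, ⟨by simp [hτ.1], by rw [← mul_inv_rev, hτ.2, inv_one]⟩, ⟨fun i => ?_, ?_, ?_⟩,
      hg.inv hd.ne_zero⟩
    · rw [← mul_inv, ← mul_inv, hd.sq, hd.sq (τ⁻¹ 0)]
    · rw [Finset.prod_inv_distrib, Equiv.prod_comp τ⁻¹ d, hd.prod, inv_one]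
    · simp only [← mul_inv, hd.four, inv_one]

theorem mem_rgp {g : GL (Fin 4) F} :
    g ∈ rgp b ↔ ∃ τ d, Klein τ ∧ Good d ∧ Mono b g τ d := Iff.rfl

variable [Fintype F] (hq : Fintype.card F = 9)
include hq

theorem charP_three : CharP F 3 := by
  obtain ⟨p, hp⟩ := CharP.exists F
  obtain ⟨n, hpp, hn⟩ := FiniteField.card F p
  have h9 : p ∣ 3 ^ 2 := by rw [show (3 : ℕ) ^ 2 = 9 from rfl, ← hq, hn]; exact dvd_pow_self p n.ne_zero
  obtain rfl := (Nat.prime_dvd_prime_iff_eq hpp (by norm_num)).1 (hpp.dvd_of_dvd_pow h9)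
  exact hp

theorem two_ne : (2 : F) ≠ 0 := by
  haveI := charP_three hq
  rw [show (2 : F) = ((2 : ℕ) : F) by norm_num, Ne, CharP.cast_eq_zero_iff F 3]
  norm_num

omit hq in
theorem good_const {c : F} (hc : c * c * (c * c) = 1) : Good (fun _ : Fin 4 => c) :=
  ⟨fun _ => rfl, by rw [Fin.prod_univ_four]; linear_combination hc, hc⟩

omit hq in
theorem good_one : Good (fun _ : Fin 4 => (1 : F)) := good_const (by simp)

/-- A monomial element with scalars of product `±1` normalises the group. -/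
theorem conj_mem {h : GL (Fin 4) F} {π : Equiv.Perm (Fin 4)} {a : Fin 4 → F}
    (ha : ∀ i, a i ≠ 0) (ha4 : ∀ i, a i * a i * (a i * a i) = 1) (hh : Mono b h π a) (hp : (∏ i, a i) * ∏ i, a i = 1)
    {g : GL (Fin 4) F} {τ : Equiv.Perm (Fin 4)} {d : Fin 4 → F} (hτ : Klein τ) (hd : Good d)
    (hg : Mono b g τ d) :
    h * g * h⁻¹ ∈ rgp b ∧ Mono b (h * g * h⁻¹) (π * τ * π⁻¹)
      (fun j => a (τ (π⁻¹ j)) * d (π⁻¹ j) * (a (π⁻¹ j))⁻¹) := by
  have hm := (hh.mul hg).mul (hh.inv ha)
  refine ⟨⟨_, _, klein_conj π τ hτ, ⟨fun j => ?_, ?_, ?_⟩, hm⟩, hm⟩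
  · have hs : ∀ i, (fun i => a i * a i) i * (fun i => a i * a i) i = 1 := ha4
    have hsp : ∏ i, (fun i => a i * a i) i = 1 := by rw [Finset.prod_mul_distrib, hp]
    have hinv : ∀ i, (a i)⁻¹ * (a i)⁻¹ = a i * a i := fun i => by
      rw [← mul_inv, inv_eq_of_mul_eq_one_right (hs i)]
    have h1 := pair_const hs hsp hτ (π⁻¹ j)
    have h2 := pair_const hs hsp hτ (π⁻¹ (0 : Fin 4))
    calc a (τ (π⁻¹ j)) * d (π⁻¹ j) * (a (π⁻¹ j))⁻¹ * (a (τ (π⁻¹ j)) * d (π⁻¹ j) * (a (π⁻¹ j))⁻¹)
        = (a (τ (π⁻¹ j)) * a (τ (π⁻¹ j))) * ((a (π⁻¹ j))⁻¹ * (a (π⁻¹ j))⁻¹) *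
            (d (π⁻¹ j) * d (π⁻¹ j)) := by ring
      _ = (a (τ (π⁻¹ 0)) * a (τ (π⁻¹ 0))) * ((a (π⁻¹ 0))⁻¹ * (a (π⁻¹ 0))⁻¹) *
            (d (π⁻¹ 0) * d (π⁻¹ 0)) := by rw [hinv, hinv, h1, h2, hd.sq (π⁻¹ j), hd.sq (π⁻¹ 0)]
      _ = _ := by ring
  · simp only [Finset.prod_mul_distrib, Finset.prod_inv_distrib, Equiv.prod_comp π⁻¹ a,
      Equiv.prod_comp π⁻¹ d, hd.prod, mul_one]
    rw [show ∏ x, a (τ (π⁻¹ x)) = ∏ x, a x from Equiv.prod_comp (τ * π⁻¹) a,
      mul_inv_cancel₀ (Finset.prod_ne_zero_iff.2 fun i _ => ha i)]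
  · have e : ∀ x y z : F, x * y * z * (x * y * z) * (x * y * z * (x * y * z)) =
        x * x * (x * x) * (y * y * (y * y)) * (z * z * (z * z)) := fun x y z => by ring
    rw [e, ha4, hd.four]
    simp only [← mul_inv, ha4, inv_one, mul_one]

/-- The fourth roots of unity. -/
abbrev Mu (F : Type*) [Field F] : Subgroup Fˣ := (powMonoidHom 4 : Fˣ →* Fˣ).ker

omit hq in
theorem mu_four (u : Mu F) : ((u : Fˣ) : F) * (u : Fˣ) * (((u : Fˣ) : F) * (u : Fˣ)) = 1 := by
  have h : ((u : Fˣ)) ^ 4 = 1 := u.2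
  have h2 := congrArg Units.val h
  rw [Units.val_pow_eq_pow_val, Units.val_one] at h2
  linear_combination h2

theorem card_mu : Nat.card (Mu F) = 4 := by
  rw [IsCyclic.card_powMonoidHom_ker, Nat.card_units, Nat.card_eq_fintype_card, hq]
  norm_num

theorem irreducible : ActsAbsolutelyIrreducibly (matrixSet (rgp b)) := by
  have sgn : ∀ d : Fin 4 → F, Good d → ∃ g ∈ rgp b, Mono b g 1 d := fun d hd => by
    obtain ⟨g, hg⟩ := exists_mono b 1 d hd.ne_zero
    exact ⟨g, ⟨1, d, ⟨by simp, by simp⟩, hd, hg⟩, hg⟩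
  obtain ⟨z1, hz1R, hz1⟩ := sgn ![1, -1, 1, -1]
    ⟨fun i => by fin_cases i <;> simp, by simp [Fin.prod_univ_four], by simp⟩
  obtain ⟨z2, hz2R, hz2⟩ := sgn ![1, 1, -1, -1]
    ⟨fun i => by fin_cases i <;> simp, by simp [Fin.prod_univ_four], by simp⟩
  have trans0 : ∀ i, ∃ g ∈ rgp b, ∃ τ, Klein τ ∧ τ i = 0 ∧ Mono b g τ (fun _ => 1) := fun i => by
    obtain ⟨τ, hτ, hi⟩ := klein_transitive i
    obtain ⟨g, hg⟩ := exists_mono b τ (fun _ => (1 : F)) fun _ => one_ne_zero
    exact ⟨g, ⟨τ, _, hτ, good_one, hg⟩, τ, hτ, hi, hg⟩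
  have repr_mono : ∀ {g : GL (Fin 4) F} {τ : Equiv.Perm (Fin 4)} {d : Fin 4 → F}, Mono b g τ d →
      ∀ v i, b.repr ((g : Matrix (Fin 4) (Fin 4) F) *ᵥ v) (τ i) = d i * b.repr v i := by
    intro g τ d hg v i
    have h4 : (g : Matrix (Fin 4) (Fin 4) F) *ᵥ v = ∑ j, (d j * b.repr v j) • b (τ j) := by
      conv_lhs => rw [← b.sum_repr v]
      rw [Matrix.mulVec_sum]
      exact Finset.sum_congr rfl fun j _ => by rw [Matrix.mulVec_smul, hg j, smul_smul, mul_comm]
    rw [h4, map_sum, Finsupp.finsetSum_apply, Finset.sum_eq_single i]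
    · simp
    · intro j _ hj
      simp [hj]
    · simp
  have h2 := two_ne (F := F) hq
  refine ⟨fun W hW => ?_, fun M hM => ?_⟩
  · have inv : ∀ g ∈ rgp b, ∀ v ∈ W, (g : Matrix (Fin 4) (Fin 4) F) *ᵥ v ∈ W := fun g hg v hv => by
      rw [← Matrix.toLin'_apply]
      exact hW _ ⟨g, hg, rfl⟩ (Submodule.mem_map_of_mem hv)
    by_cases hb0 : W = ⊥
    · exact Or.inl hb0
    refine Or.inr (eq_top_iff.2 ?_)
    obtain ⟨v, hv, hv0⟩ := Submodule.exists_mem_ne_zero_of_ne_bot hb0
    obtain ⟨i, hi⟩ : ∃ i, b.repr v i ≠ 0 := by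
      by_contra hcon
      push Not at hcon
      exact hv0 (b.repr.injective (by ext i; simp [hcon i]))
    obtain ⟨g, hgR, τ, -, hτi, hg⟩ := trans0 i
    set w := (g : Matrix (Fin 4) (Fin 4) F) *ᵥ v with hw
    have hw0 : b.repr w 0 ≠ 0 := by rw [hw, ← hτi, repr_mono hg, one_mul]; exact hi
    set w1 := w + (z1 : Matrix (Fin 4) (Fin 4) F) *ᵥ w with hw1
    set w2 := w1 + (z2 : Matrix (Fin 4) (Fin 4) F) *ᵥ w1 with hw2
    have hwW : w2 ∈ W := by
      have h := inv g hgR v hv
      have h1 : w1 ∈ W := add_mem h (inv z1 hz1R _ h)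
      exact add_mem h1 (inv z2 hz2R _ h1)
    have r1 : ∀ x j, b.repr ((z1 : Matrix (Fin 4) (Fin 4) F) *ᵥ x) j =
        ![1, -1, 1, -1] j * b.repr x j := fun x j => by simpa using repr_mono hz1 x j
    have r2 : ∀ x j, b.repr ((z2 : Matrix (Fin 4) (Fin 4) F) *ᵥ x) j =
        ![1, 1, -1, -1] j * b.repr x j := fun x j => by simpa using repr_mono hz2 x j
    have he : w2 = (2 * 2 * b.repr w 0) • b 0 := by
      apply b.repr.injective
      ext j
      simp only [hw2, hw1, map_add, Finsupp.add_apply, r1, r2, map_smul, Finsupp.smul_apply,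
        Module.Basis.repr_self, smul_eq_mul]
      fin_cases j <;> simp <;> ring
    have hb : b 0 ∈ W := by
      have := W.smul_mem (2 * 2 * b.repr w 0)⁻¹ hwW
      rwa [he, smul_smul, inv_mul_cancel₀ (mul_ne_zero (mul_ne_zero h2 h2) hw0), one_smul] at this
    rw [← b.span_eq, Submodule.span_le]
    rintro x ⟨j, rfl⟩
    obtain ⟨g', hg'R, τ', hτ', hτ'j, hg'⟩ := trans0 j
    have := inv g' hg'R _ hb
    rwa [hg', one_smul, ← hτ'j, klein_apply_apply hτ'] at this
  · have comm : ∀ g ∈ rgp b, ∀ x, M *ᵥ ((g : Matrix (Fin 4) (Fin 4) F) *ᵥ x) =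
        (g : Matrix (Fin 4) (Fin 4) F) *ᵥ (M *ᵥ x) := fun g hg x => by
      rw [Matrix.mulVec_mulVec, Matrix.mulVec_mulVec, hM _ ⟨g, hg, rfl⟩]
    set c := b.repr (M *ᵥ b 0) 0 with hc
    have hM0 : M *ᵥ b 0 = c • b 0 := by
      apply b.repr.injective
      ext j
      have e1 := congrArg (fun x => b.repr x j) (comm z1 hz1R (b 0))
      have e2 := congrArg (fun x => b.repr x j) (comm z2 hz2R (b 0))
      have r1 : b.repr ((z1 : Matrix (Fin 4) (Fin 4) F) *ᵥ (M *ᵥ b 0)) j =
          ![1, -1, 1, -1] j * b.repr (M *ᵥ b 0) j := by simpa using repr_mono hz1 (M *ᵥ b 0) j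
      have r2 : b.repr ((z2 : Matrix (Fin 4) (Fin 4) F) *ᵥ (M *ᵥ b 0)) j =
          ![1, 1, -1, -1] j * b.repr (M *ᵥ b 0) j := by simpa using repr_mono hz2 (M *ᵥ b 0) j
      simp only [hz1 0, hz2 0, Matrix.cons_val_zero, one_smul, Equiv.Perm.one_apply, r1, r2] at e1 e2
      simp only [map_smul, Finsupp.smul_apply, Module.Basis.repr_self, smul_eq_mul]
      fin_cases j <;> simp at e1 e2 ⊢
      · exact hc.symm
      · exact (mul_eq_zero.1 (show (2 : F) * _ = 0 by linear_combination e1)).resolve_left h2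
      · exact (mul_eq_zero.1 (show (2 : F) * _ = 0 by linear_combination e2)).resolve_left h2
      · exact (mul_eq_zero.1 (show (2 : F) * _ = 0 by linear_combination e1)).resolve_left h2
    refine ⟨c, ?_⟩
    apply Matrix.toLin'.injective
    refine b.ext fun j => ?_
    simp only [Matrix.toLin'_apply, Matrix.smul_mulVec, Matrix.one_mulVec]
    obtain ⟨g, hgR, τ, hτ, hτj, hg⟩ := trans0 j
    have := comm g hgR (b 0)
    rwa [hM0, Matrix.mulVec_smul, hg, one_smul, ← hτj, klein_apply_apply hτ] at this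

theorem scalar_mem (u : Mu F) :
    Units.map (Matrix.scalar (Fin 4) : F →+* Matrix (Fin 4) (Fin 4) F).toMonoidHom (u : Fˣ) ∈ rgp b :=
  ⟨1, fun _ => ((u : Fˣ) : F), ⟨by simp, by simp⟩, good_const (mu_four u), fun i => by
    simp [← Matrix.smul_one_eq_diagonal, Matrix.smul_mulVec]⟩

theorem center_card : Nat.card (Subgroup.center (rgp b)) = 4 := by
  let f : Mu F → Subgroup.center (rgp b) := fun u => ⟨⟨_, scalar_mem hq u⟩,
    Subgroup.mem_center_iff.2 fun g => Subtype.ext (Units.ext (by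
      simp [← Matrix.smul_one_eq_diagonal]))⟩
  rw [← Nat.card_eq_of_bijective f ⟨fun u v h => ?_, fun z => ?_⟩, card_mu hq]
  · have := congrArg (fun z : Subgroup.center (rgp b) =>
      ((z : rgp b) : GL (Fin 4) F).1 0 0) h
    exact Subtype.ext (Units.ext (by simpa [f] using this))
  · obtain ⟨c, hc⟩ := (irreducible (b := b) hq).2 ((z : rgp b) : GL (Fin 4) F).1 fun s hs => by
      obtain ⟨g, hg, rfl⟩ := hs
      have := congrArg (fun x : rgp b => (x : GL (Fin 4) F).1)
        (Subgroup.mem_center_iff.1 z.2 ⟨g, hg⟩)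
      simpa using this.symm
    obtain ⟨τ, d, hτ, hd, hm⟩ := (z : rgp b).2
    have hone : Mono b ((z : rgp b) : GL (Fin 4) F) 1 (fun _ => c) := fun i => by
      rw [hc, Matrix.smul_mulVec, Matrix.one_mulVec, Equiv.Perm.one_apply]
    obtain ⟨-, rfl⟩ := Mono.unique hd.ne_zero hm hone
    have hc0 : c ≠ 0 := hd.ne_zero 0
    have hc4 : Units.mk0 c hc0 ∈ Mu F :=
      Units.ext (by simpa [pow_succ, mul_assoc] using hd.quad)
    exact ⟨⟨Units.mk0 c hc0, hc4⟩, Subtype.ext (Subtype.ext (Units.ext (by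
      simp [f, hc, ← Matrix.smul_one_eq_diagonal])))⟩

theorem rgp_card : Nat.card (rgp b) = 64 := by
  classical
  let d : Mu F → Bool → Bool → Fin 4 → F := fun v x y =>
    let u : F := ((v : Fˣ) : F)
    ![(u : F), (if x then 1 else -1) * u, (if y then 1 else -1) * u,
      (if x then 1 else -1) * (if y then 1 else -1) * u]
  have hd : ∀ u x y, Good (d u x y) := fun u x y => by
    refine ⟨fun i => ?_, ?_, mu_four u⟩
    · fin_cases i <;> cases x <;> cases y <;> simp [d]
    · rw [Fin.prod_univ_four]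
      cases x <;> cases y <;> simp [d] <;> linear_combination mu_four u
  choose g hg using fun (p : {τ : Equiv.Perm (Fin 4) // Klein τ} × Mu F × Bool × Bool) =>
    exists_mono b p.1.1 (d p.2.1 p.2.2.1 p.2.2.2) (hd _ _ _).ne_zero
  let G : {τ : Equiv.Perm (Fin 4) // Klein τ} × Mu F × Bool × Bool → rgp b := fun p =>
    ⟨g p, p.1.1, _, p.1.2, hd _ _ _, hg p⟩
  have h2 : (1 : F) ≠ -1 := fun e => two_ne (F := F) hq (by linear_combination e)
  rw [← Nat.card_eq_of_bijective G ⟨?_, ?_⟩]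
  · rw [Nat.card_prod, Nat.card_prod, Nat.card_prod, Nat.card_eq_fintype_card, klein_card,
      card_mu hq, Nat.card_eq_fintype_card, Fintype.card_bool]
  · rintro ⟨τ, u, x, y⟩ ⟨π, w, x', y'⟩ h
    have h' : g (τ, u, x, y) = g (π, w, x', y') := congrArg Subtype.val h
    obtain ⟨e1, e2⟩ := Mono.unique (hd u x y).ne_zero (hg (τ, u, x, y)) (h' ▸ hg (π, w, x', y'))
    obtain rfl : τ = π := Subtype.ext e1
    obtain rfl : u = w := Subtype.ext (Units.ext (by simpa [d] using congrFun e2 0))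
    have ex := congrFun e2 1
    have ey := congrFun e2 2
    simp [d] at ex ey
    have hn : -((u : Fˣ) : F) ≠ (u : Fˣ) := fun e =>
      mul_ne_zero (two_ne (F := F) hq) (u : Fˣ).ne_zero (by linear_combination (-1 : F) * e)
    have : x = x' := by cases x <;> cases x' <;> simp_all [hn.symm]
    have : y = y' := by cases y <;> cases y' <;> simp_all [hn.symm]
    simp_all
  · rintro ⟨k, τ, e, hτ, he, hk⟩
    have hs : ∀ i, e i = 1 * e 0 ∨ e i = -1 * e 0 := fun i => by
      simpa using mul_self_eq_mul_self_iff.1 (he.sq i)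
    let sb : Fin 4 → Bool := fun i => decide (e i = e 0)
    have hsb : ∀ i, e i = (if sb i then 1 else -1) * e 0 := fun i => by
      by_cases h : e i = e 0
      · simp [sb, h]
      · rcases hs i with h' | h'
        · exact absurd (h'.trans (one_mul _)) h
        · simp only [sb, h, decide_false, Bool.false_eq_true, if_false]
          exact h'
    refine ⟨(⟨τ, hτ⟩, ⟨Units.mk0 _ (he.ne_zero 0), Units.ext (by simpa [pow_succ, mul_assoc] using he.quad)⟩, sb 1, sb 2), Subtype.ext (gl_ext (b := b) fun i => ?_)⟩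
    rw [hg _ i, hk i]
    congr 1
    fin_cases i
    · simp [d]
    · simpa [d] using (hsb 1).symm
    · simpa [d] using (hsb 2).symm
    · have hp := he.prod
      rw [Fin.prod_univ_four, hsb 1, hsb 2] at hp
      show (if sb 1 then (1 : F) else -1) * (if sb 2 then 1 else -1) * e 0 = e 3
      set s : F := (if sb 1 then 1 else -1) * (if sb 2 then 1 else -1) with hs'
      have hss : s * s = 1 := by rw [hs']; cases sb 1 <;> cases sb 2 <;> simp
      have hp4 := he.quad
      have h3 : s * (e 0 * e 0 * e 0) * e 3 = 1 := by rw [hs']; linear_combination hp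
      linear_combination (s * e 0) * h3.symm + (e 3 * e 0 * e 0 * e 0 * e 0) * hss + e 3 * hp4

/-- A matrix normalising the group induces an automorphism preserving characteristic subgroups. -/
theorem char_conj {A : Subgroup (rgp b)} [A.Characteristic] {n : GL (Fin 4) F}
    (hn : ∀ x ∈ rgp b, n * x * n⁻¹ ∈ rgp b) {x : rgp b} (hx : x ∈ A) :
    (⟨n * x * n⁻¹, hn _ x.2⟩ : rgp b) ∈ A := by
  haveI : Finite (rgp b) := inferInstance
  let f : rgp b →* rgp b :=
    { toFun := fun x => ⟨n * x * n⁻¹, hn _ x.2⟩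
      map_one' := Subtype.ext (by simp)
      map_mul' := fun x y => Subtype.ext (by simp [mul_assoc]) }
  have hf : Function.Injective f := fun x y h => Subtype.ext (by
    simpa [f] using congrArg Subtype.val h)
  exact Subgroup.characteristic_iff_le_comap.1 inferInstance
    (MulEquiv.ofBijective f (Finite.injective_iff_bijective.1 hf)) hx

theorem not_diag_of_char {A : Subgroup (rgp b)} [A.Characteristic] {x : rgp b} (hx : x ∈ A)
    {d : Fin 4 → F} (hd : Good d) (hxd : Mono b (x : GL (Fin 4) F) 1 d) (h2 : d 2 = -d 0) :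
    ∃ y ∈ A, ∃ τ e, Klein τ ∧ Good e ∧ τ ≠ 1 ∧ Mono b ((y : rgp b) : GL (Fin 4) F) τ e := by
  let u : Fin 4 → Fin 4 → F := ![![1, 0, 1, 0], ![0, 1, 0, 1], ![1, 0, -1, 0], ![0, 1, 0, -1]]
  let Lm : (Fin 4 → F) →ₗ[F] (Fin 4 → F) := b.constr F ![b 0 + b 2, b 1 + b 3, b 0 - b 2, b 1 - b 3]
  have L : ∀ i, Lm (b i) = ![b 0 + b 2, b 1 + b 3, b 0 - b 2, b 1 - b 3] i := fun i =>
    b.constr_basis F _ i
  have h22 := two_ne (F := F) hq
  have hLL : ∀ v, Lm (Lm v) = (2 : F) • v := by
    intro v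
    suffices h : Lm.comp Lm = (2 : F) • LinearMap.id by simpa using LinearMap.congr_fun h v
    refine b.ext fun i => ?_
    fin_cases i <;> simp [L] <;> module
  obtain ⟨n, hn⟩ := exists_gl (LinearEquiv.ofBijective Lm
    (LinearMap.injective_iff_surjective.symm.trans Iff.rfl |>.mp (fun v => ⟨(2 : F)⁻¹ • Lm v, by
      rw [map_smul, hLL, smul_smul, inv_mul_cancel₀ h22, one_smul]⟩) |> fun hi =>
      ⟨hi, LinearMap.injective_iff_surjective.1 hi⟩))
  have hn' : ∀ i, (n : Matrix (Fin 4) (Fin 4) F) *ᵥ b i =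
      ![b 0 + b 2, b 1 + b 3, b 0 - b 2, b 1 - b 3] i := fun i => by rw [hn]; exact L i
  have good2 : ∀ {e : Fin 4 → F}, Good e → Good ![e 0, e 1, e 0, e 1] := fun {e} he =>
    ⟨fun i => by fin_cases i <;> simp [he.sq 1], by
      rw [Fin.prod_univ_four]
      simp only [Matrix.cons_val_zero, Matrix.cons_val_one, Matrix.cons_val]
      linear_combination (e 0 * e 0) * he.sq 1 + he.quad, by simpa using he.quad⟩
  set t2 : Equiv.Perm (Fin 4) := Equiv.swap 0 2 * Equiv.swap 1 3 with ht2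
  have ht2K : Klein t2 := by rw [ht2]; decide
  -- conjugates of diagonal elements
  have cdiag : ∀ (g : GL (Fin 4) F) (e : Fin 4 → F), Good e → Mono b g 1 e →
      n * g * n⁻¹ ∈ rgp b ∧ (e 2 = -e 0 → Mono b (n * g * n⁻¹) t2 ![e 0, e 1, e 0, e 1]) := by
    intro g e he hg
    have hp := he.prod
    rw [Fin.prod_univ_four] at hp
    rcases mul_self_eq_mul_self_iff.1 (he.sq 2) with h | h
    · have h31 : e 3 = e 1 := by
        have : e 1 * e 3 * (e 0 * e 0) = e 1 * e 1 * (e 0 * e 0) := by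
          rw [he.sq 1]; linear_combination hp - he.quad - (e 0 * e 1 * e 3) * h
        have h3 := mul_right_cancel₀ (mul_ne_zero (he.ne_zero 0) (he.ne_zero 0)) this
        exact mul_left_cancel₀ (he.ne_zero 1) h3
      refine ⟨?_, fun h' => absurd (h.symm.trans h') ?_⟩
      · have hcomm : n * g = g * n := gl_ext (b := b) fun i => by
          rw [mulVec_mul, mulVec_mul, hg, Matrix.mulVec_smul]
          fin_cases i <;>
            simp [hn', Matrix.mulVec_add, Matrix.mulVec_sub, hg 0, hg 1, hg 2, hg 3, h, h31] <;>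
            module
        rw [hcomm, mul_inv_cancel_right]
        exact ⟨1, e, ⟨by simp, by simp⟩, he, hg⟩
      · intro h0
        exact mul_ne_zero h22 (he.ne_zero 0) (by linear_combination h0)
    · have h31 : e 3 = -e 1 := by
        have : e 1 * e 3 * (e 0 * e 0) = e 1 * (-e 1) * (e 0 * e 0) := by
          linear_combination (-1 : F) * hp + he.quad +
            (e 0 * e 1 * e 3) * h + (e 0 * e 0) * he.sq 1
        have h3 := mul_right_cancel₀ (mul_ne_zero (he.ne_zero 0) (he.ne_zero 0)) this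
        exact mul_left_cancel₀ (he.ne_zero 1) h3
      obtain ⟨y, hy⟩ := exists_mono b t2 _ (good2 he).ne_zero
      have hyn : n * g = y * n := gl_ext (b := b) fun i => by
        rw [mulVec_mul, mulVec_mul, hg, Matrix.mulVec_smul]
        fin_cases i <;>
          simp [hn', Matrix.mulVec_add, Matrix.mulVec_sub, hy 0, hy 1, hy 2, hy 3, h, h31, ht2,
            Equiv.swap_apply_def] <;>
          module
      rw [hyn, mul_inv_cancel_right]
      exact ⟨⟨t2, _, ht2K, good2 he, hy⟩, fun _ => hy⟩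
  -- conjugates of permutations
  have cperm : ∀ (g : GL (Fin 4) F) (τ : Equiv.Perm (Fin 4)), Klein τ → Mono b g τ (fun _ => 1) →
      n * g * n⁻¹ ∈ rgp b := by
    have k1 : ∀ g : GL (Fin 4) F, Mono b g (Equiv.swap 0 1 * Equiv.swap 2 3) (fun _ => 1) →
        n * g * n⁻¹ ∈ rgp b := fun g hg => by
      have hcomm : n * g = g * n := gl_ext (b := b) fun i => by
        rw [mulVec_mul, mulVec_mul, hg]
        fin_cases i <;>
          simp [hn', Matrix.mulVec_add, Matrix.mulVec_sub, hg 0, hg 1, hg 2, hg 3,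
            Equiv.swap_apply_def]
      rw [hcomm, mul_inv_cancel_right]
      exact ⟨_, _, by decide, good_one, hg⟩
    have k2 : ∀ g : GL (Fin 4) F, Mono b g t2 (fun _ => 1) → n * g * n⁻¹ ∈ rgp b := fun g hg => by
      have hgood : Good ![(1 : F), 1, -1, -1] :=
        ⟨fun i => by fin_cases i <;> simp, by simp [Fin.prod_univ_four], by simp⟩
      obtain ⟨y, hy⟩ := exists_mono b 1 _ hgood.ne_zero
      have hyn : n * g = y * n := gl_ext (b := b) fun i => by
        rw [mulVec_mul, mulVec_mul, hg]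
        fin_cases i <;>
          simp [hn', Matrix.mulVec_add, Matrix.mulVec_sub, hy 0, hy 1, hy 2, hy 3, ht2,
            Equiv.swap_apply_def] <;>
          module
      rw [hyn, mul_inv_cancel_right]
      exact ⟨1, _, ⟨by simp, by simp⟩, hgood, hy⟩
    intro g τ hτ hg
    rcases klein_cases τ hτ with rfl | rfl | rfl | rfl
    · exact (cdiag g _ (good_one) hg).1
    · exact k1 g hg
    · exact k2 g hg
    · obtain ⟨p, hp⟩ := exists_mono b (Equiv.swap 0 1 * Equiv.swap 2 3) (fun _ => (1 : F))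
        fun _ => one_ne_zero
      obtain ⟨q, hq'⟩ := exists_mono b t2 (fun _ => (1 : F)) fun _ => one_ne_zero
      have hgpq : g = p * q := gl_ext (b := b) fun i => by
        rw [hg, hp.mul hq', one_mul, show Equiv.swap (0 : Fin 4) 3 * Equiv.swap 1 2 =
          Equiv.swap 0 1 * Equiv.swap 2 3 * t2 by rw [ht2]; decide]
      rw [hgpq, show n * (p * q) * n⁻¹ = n * p * n⁻¹ * (n * q * n⁻¹) by group]
      exact mul_mem (k1 p hp) (k2 q hq')
  have hnR : ∀ g ∈ rgp b, n * g * n⁻¹ ∈ rgp b := by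
    rintro g ⟨τ, e, hτ, he, hg⟩
    obtain ⟨p, hp⟩ := exists_mono b τ (fun _ => (1 : F)) fun _ => one_ne_zero
    have hpR : p ∈ rgp b := ⟨τ, _, hτ, good_one, hp⟩
    obtain ⟨π, f, hπ, hf, hdg⟩ := mul_mem (inv_mem hpR) (⟨τ, e, hτ, he, hg⟩ : g ∈ rgp b)
    obtain rfl : π = 1 := by
      rw [(Mono.unique hf.ne_zero hdg ((hp.inv fun _ => one_ne_zero).mul hg)).1, inv_mul_cancel]
    rw [show n * g * n⁻¹ = n * p * n⁻¹ * (n * (p⁻¹ * g) * n⁻¹) by group]
    exact mul_mem (cperm p τ hτ hp) (cdiag _ f hf hdg).1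
  exact ⟨_, char_conj hq hnR hx, t2, _, ht2K, good2 hd, by rw [ht2]; decide, (cdiag _ d hd hxd).2 h2⟩

theorem char_abelian_cyclic (A : Subgroup (rgp b)) (hA : A.Characteristic)
    (hAc : IsMulCommutative A) : IsCyclic A := by
  have h2 := two_ne (F := F) hq
  suffices hsc : ∀ x ∈ A, ∃ c : F, ((x : rgp b) : GL (Fin 4) F).1 = c • (1 : Matrix (Fin 4) (Fin 4) F) by
    let φ : A →* F :=
      { toFun := fun x => ((x : rgp b) : GL (Fin 4) F).1 0 0
        map_one' := by simp
        map_mul' := fun x y => by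
          obtain ⟨c, hc⟩ := hsc x x.2
          obtain ⟨c', hc'⟩ := hsc y y.2
          simp [hc, hc', mul_comm] }
    refine isCyclic_of_subgroup_isDomain φ fun x y h => ?_
    obtain ⟨c, hc⟩ := hsc x x.2
    obtain ⟨c', hc'⟩ := hsc y y.2
    have : c = c' := by simpa [φ, hc, hc'] using h
    exact Subtype.ext (Subtype.ext (Units.ext (by rw [hc, hc', this])))
  have hcomm : ∀ x ∈ A, ∀ y ∈ A, ((x : rgp b) : GL (Fin 4) F) * (y : rgp b) =
      ((y : rgp b) : GL (Fin 4) F) * (x : rgp b) := fun x hx y hy => by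
    have := congrArg (fun z : A => ((z : rgp b) : GL (Fin 4) F))
      (hAc.is_comm.comm ⟨x, hx⟩ ⟨y, hy⟩)
    simpa using this
  have normal : ∀ {n : GL (Fin 4) F} {π : Equiv.Perm (Fin 4)} {a : Fin 4 → F}, (∀ i, a i ≠ 0) →
      (∀ i, a i * a i * (a i * a i) = 1) →
      Mono b n π a → (∏ i, a i) * ∏ i, a i = 1 → ∀ x ∈ rgp b, n * x * n⁻¹ ∈ rgp b := by
    rintro n π a ha ha4 hn hp x ⟨τ, d, hτ, hd, hx⟩
    exact (conj_mem hq ha ha4 hn hp hτ hd hx).1
  -- no element of `A` moves the lines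
  have diag : ∀ x ∈ A, ∀ τ d, Klein τ → Good d → Mono b ((x : rgp b) : GL (Fin 4) F) τ d → τ = 1 := by
    intro x hx τ d hτ hd hxd
    by_contra hτ1
    have h0 : τ 0 ≠ 0 := fun e => hτ1 (klein_fixed τ hτ 0 e)
    obtain ⟨k, hk0, hkt⟩ : ∃ k : Fin 4, k ≠ 0 ∧ k ≠ τ 0 := by
      generalize τ 0 = j
      revert j
      decide
    let a : Fin 4 → F := fun i => if i = 0 then -1 else 1
    have ha : ∀ i, a i ≠ 0 := fun i => by simp only [a]; split_ifs <;> simp
    have ha4 : ∀ i, a i * a i * (a i * a i) = 1 := fun i => by simp only [a]; split_ifs <;> simp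
    have hap : (∏ i, a i) * ∏ i, a i = 1 := by simp [a, Fin.prod_univ_four]
    obtain ⟨n, hn⟩ := exists_mono b 1 a ha
    obtain ⟨m, hm⟩ := exists_mono b (Equiv.swap (τ 0) k) (fun _ => (1 : F)) fun _ => one_ne_zero
    have hnR := normal ha ha4 hn hap
    have hmR := normal (fun _ => one_ne_zero) (fun _ => by simp) hm (by simp)
    have hy := mul_mem (char_conj hq hnR hx) (inv_mem hx)
    have hz := char_conj hq hmR hy
    have hδ : Mono b (n * (x : rgp b) * n⁻¹ * ((x : rgp b) : GL (Fin 4) F)⁻¹) 1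
        (fun j => a j * a (τ j)) := by
      intro j
      have h1 := (conj_mem hq ha ha4 hn hap hτ hd hxd).2.mul (hxd.inv hd.ne_zero)
      rw [h1 j]
      have e1 : (τ⁻¹ : Equiv.Perm (Fin 4)) j = τ j := by
        rw [Equiv.Perm.inv_eq_iff_eq, klein_apply_apply hτ]
      simp only [inv_one, one_mul, mul_one, Equiv.Perm.one_apply, mul_inv_cancel, e1,
        klein_apply_apply hτ]
      congr 1
      have ha2 : (a (τ j))⁻¹ = a (τ j) := by simp only [a]; split_ifs <;> simp [inv_neg]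
      rw [ha2]
      field_simp [hd.ne_zero (τ j)]
    have hδ' := (hm.mul hδ).mul (hm.inv fun _ => one_ne_zero)
    have e := hcomm _ hz x hx
    simp only [Subgroup.coe_mul, InvMemClass.coe_inv, mul_assoc] at e
    have l1 := (hδ'.mul hxd) 0
    have l2 := (hxd.mul hδ') 0
    simp only [mul_assoc] at l1 l2
    rw [e, l2] at l1
    have hc := l1
    have htk : τ k ≠ 0 := fun e => hkt (by rw [← e, klein_apply_apply hτ])
    simp [a, Equiv.swap_apply_def, h0, hk0, hk0.symm, hkt, hkt.symm, Ne.symm h0, htk,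
      klein_apply_apply hτ] at hc
    have h3 := congrArg (fun w => b.repr w (τ 0)) hc
    simp at h3
    exact mul_ne_zero h2 (hd.ne_zero 0) (by linear_combination (-1 : F) * h3)
  intro x hx
  obtain ⟨τ, d, hτ, hd, hxd⟩ := x.2
  obtain rfl := diag x hx τ d hτ hd hxd
  by_cases hall : ∀ i, d i = d 0
  · refine ⟨d 0, Matrix.toLin'.injective (b.ext fun i => ?_)⟩
    simp [Matrix.toLin'_apply, hxd i, hall i, Matrix.smul_mulVec]
  push Not at hall
  obtain ⟨i, hi⟩ := hall
  have hi0 : i ≠ 0 := fun e => hi (e ▸ rfl)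
  have hid : d i = -d 0 := (mul_self_eq_mul_self_iff.1 (hd.sq i)).resolve_left hi
  obtain ⟨m, hm⟩ := exists_mono b (Equiv.swap i 2) (fun _ => (1 : F)) fun _ => one_ne_zero
  have hmR := normal (fun _ => one_ne_zero) (fun _ => by simp) hm (by simp)
  obtain ⟨⟨τ', d', hτ', hd', hxd'⟩, hm'⟩ := conj_mem hq (fun _ => one_ne_zero) (fun _ => by simp) hm (by simp) hτ hd hxd
  obtain ⟨e1, e2⟩ := Mono.unique hd'.ne_zero hxd' hm'
  have hd2 : d' 2 = -d' 0 := by
    rw [e2]
    simp [Equiv.swap_inv, Equiv.swap_apply_def, hi0.symm, hid]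
  have e1' : τ' = 1 := by rw [e1, mul_one, mul_inv_cancel]
  subst e1'
  obtain ⟨y, hy, τ'', e, hτ'', he, hne, hye⟩ :=
    not_diag_of_char hq (char_conj hq hmR hx) hd' hxd' hd2
  exact absurd (diag y hy τ'' e hτ'' he hye) hne

theorem exponent_eq : Monoid.exponent (rgp b) = 4 := by
  have h4 : ∀ g : rgp b, g ^ 4 = 1 := by
    rintro ⟨g, τ, d, hτ, hd, hg⟩
    refine Subtype.ext (gl_ext (b := b) fun i => ?_)
    have h := (hg.mul hg).mul (hg.mul hg)
    simp only [SubmonoidClass.coe_pow, OneMemClass.coe_one, Units.val_one, Matrix.one_mulVec]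
    rw [show g ^ 4 = g * g * (g * g) by simp [pow_succ, mul_assoc], h i]
    simp only [Equiv.Perm.mul_apply, klein_apply_apply hτ]
    rw [show d (τ i) * d i * (d (τ i) * d i) = 1 by
      linear_combination (d i * d i) * hd.sq (τ i) + (d 0 * d 0) * hd.sq i +
        hd.quad, one_smul]
  have hdvd : Monoid.exponent (rgp b) ∣ 4 := Monoid.exponent_dvd_of_forall_pow_eq_one h4
  obtain ⟨w, hw⟩ := IsCyclic.exists_generator (α := Fˣ)
  have ho : orderOf w = 8 := by
    rw [orderOf_eq_card_of_forall_mem_zpowers hw, Nat.card_units, Nat.card_eq_fintype_card, hq]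
  have hu4 : w ^ 2 ∈ Mu F := by
    show (w ^ 2) ^ 4 = 1
    rw [← pow_mul, show 2 * 4 = orderOf w by rw [ho], pow_orderOf_eq_one]
  have hu2 : (w ^ 2) ^ 2 ≠ 1 := fun e => by
    rw [← pow_mul] at e
    have h1 := orderOf_dvd_of_pow_eq_one e
    rw [ho] at h1
    exact absurd h1 (by norm_num)
  have hnot : ¬ Monoid.exponent (rgp b) ∣ 2 := fun h => hu2 (by
    have := congrArg (fun x : rgp b => (x : GL (Fin 4) F).1 0 0)
      (Monoid.exponent_dvd_iff_forall_pow_eq_one.1 h ⟨_, scalar_mem (b := b) hq ⟨w ^ 2, hu4⟩⟩)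
    exact Units.ext (by simpa [← Matrix.diagonal_pow, pow_two] using this))
  obtain ⟨j, hj, he⟩ := (Nat.dvd_prime_pow Nat.prime_two (m := 2)).1 hdvd
  interval_cases j
  · exact absurd (he ▸ one_dvd 2) hnot
  · exact absurd (he ▸ dvd_refl 2) hnot
  · simpa using he


end Cfsg.Agent.Lib.SUFour.Nine

namespace Cfsg.Agent.Lib.SUFour

open Cfsg.Geo
open Cfsg.Agent.Lib.Classical (hermBilin hermBilin_apply herm_symm conjHom conjHom_apply card_norm_eq two_le_q)
open scoped Matrix MatrixGroups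

variable {F : Type*} [Field F] [Fintype F] {q : ℕ}

/-! ### Counting -/

/-- The order of `SU_4(q)`. -/
theorem card_omegaU_four (hF : Fintype.card F = q ^ 2) :
    Nat.card (UnitPrimeDim.omegaU 4 F q) = q ^ 6 * ((q ^ 2 - 1) * (q ^ 3 + 1) * (q ^ 4 - 1)) := by
  have hcard : Nat.card (UnitPrimeDim.omegaU 4 F q) = Nat.card (Cfsg.SU 4 F q) := by
    rw [← UnitPrimeDim.range_toGU]
    exact (Nat.card_congr (MonoidHom.ofInjective (f := UnitPrimeDim.toGU 4 F q)
      (Matrix.SpecialLinearGroup.toGL_injective.comp Subtype.val_injective)).toEquiv).symm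
  have h := Classical.card_SU hF (n := 4) (by norm_num)
  rw [Classical.card_GU hF, Finset.prod_range_succ, Finset.prod_range_succ, Finset.prod_range_succ,
    Finset.prod_range_succ, Finset.prod_range_zero] at h
  norm_num [show Even 2 from ⟨1, rfl⟩, show ¬ Even 3 by decide] at h
  rw [hcard]
  refine Nat.eq_of_mul_eq_mul_left (show 0 < q + 1 by omega) ?_
  rw [h]; ring

/-- A set of matrices whose images under conjugation are few bounds `SU_4(q)`. -/
theorem card_omegaU_le_of_gens (x : Fin 4 → GL (Fin 4) F)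
    (hcomm : ∀ M : Matrix (Fin 4) (Fin 4) F, (∀ j, M * (x j).1 = (x j).1 * M) → ∃ c : F, M = c • 1)
    {N : ℕ} (S : Fin 4 → Set (GL (Fin 4) F)) (hS : ∀ j, Nat.card (S j) ≤ N)
    (hmem : ∀ g ∈ UnitPrimeDim.omegaU 4 F q, ∀ j, g * x j * g⁻¹ ∈ S j) :
    Nat.card (UnitPrimeDim.omegaU 4 F q) ≤ N ^ 4 * 4 := by
  classical
  haveI : Nonempty (UnitPrimeDim.omegaU 4 F q) := ⟨1⟩
  let Φ : UnitPrimeDim.omegaU 4 F q → ∀ j, S j := fun g j => ⟨_, hmem g.1 g.2 j⟩
  let r : UnitPrimeDim.omegaU 4 F q → UnitPrimeDim.omegaU 4 F q := fun g => Function.invFun Φ (Φ g)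
  have hr : ∀ g, Φ (r g) = Φ g := fun g => Function.invFun_eq ⟨g, rfl⟩
  have hsc : ∀ g, ∃ a : {a : F // a ^ 4 = 1}, (((r g)⁻¹ * g : UnitPrimeDim.omegaU 4 F q) : GL (Fin 4) F).1 =
      a.1 • (1 : Matrix (Fin 4) (Fin 4) F) := by
    intro g
    set m : GL (Fin 4) F := (((r g)⁻¹ * g : UnitPrimeDim.omegaU 4 F q) : GL (Fin 4) F) with hm
    obtain ⟨c, hc⟩ := hcomm m.1 fun j => by
      have h := congrArg Subtype.val (congrFun (hr g) j)
      simp only [Φ] at h
      have h2 : m * x j = x j * m := by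
        rw [hm, Subgroup.coe_mul, InvMemClass.coe_inv]
        calc ((r g : GL (Fin 4) F))⁻¹ * g * x j = (r g : GL (Fin 4) F)⁻¹ * (g * x j * (g : GL (Fin 4) F)⁻¹) * g := by
              group
          _ = _ := by rw [← h]; group
      simpa using congrArg Units.val h2
    have hd : m.1.det = 1 := by
      have h := congrArg Units.val (MonoidHom.mem_ker.1 ((r g)⁻¹ * g).2.2)
      simpa [hm] using h
    rw [hc, Matrix.det_smul, Matrix.det_one, mul_one, Fintype.card_fin] at hd
    exact ⟨⟨c, hd⟩, hc⟩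
  choose a ha using hsc
  have h4 : Nat.card {a : F // a ^ 4 = 1} ≤ 4 := by
    rw [Nat.subtype_card (Polynomial.nthRootsFinset 4 (1 : F)) fun y => Polynomial.mem_nthRootsFinset (by norm_num) 1]
    unfold Polynomial.nthRootsFinset
    exact le_trans (Multiset.toFinset_card_le _) (Polynomial.card_nthRoots 4 1)
  calc Nat.card (UnitPrimeDim.omegaU 4 F q) ≤ Nat.card ((∀ j, S j) × {a : F // a ^ 4 = 1}) := by
        refine Nat.card_le_card_of_injective (fun g => (Φ g, a g)) fun g g' e => ?_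
        simp only [Prod.mk.injEq] at e
        have hrr : r g = r g' := congrArg (Function.invFun Φ) e.1
        have h : (r g)⁻¹ * g = (r g')⁻¹ * g' := Subtype.ext (Units.ext (by rw [ha, ha, e.2]))
        rw [hrr] at h
        exact mul_left_cancel h
    _ = (∏ j, Nat.card (S j)) * Nat.card {a : F // a ^ 4 = 1} := by rw [Nat.card_prod, Nat.card_pi]
    _ ≤ N ^ 4 * 4 := by
        refine Nat.mul_le_mul ?_ h4
        exact (Finset.prod_le_prod' fun j _ => hS j).trans (by simp)

/-- `k` further generators of `R` over a large enough subgroup. -/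
theorem exists_gens {G : Type*} [Group G] [Finite G] (R : Subgroup G) :
    ∀ (k : ℕ) (K : Subgroup G), K ≤ R → Nat.card R < 2 ^ (k + 1) * Nat.card K →
      ∃ x : Fin k → G, (∀ j, x j ∈ R) ∧ ∀ C : Subgroup G, K ≤ C → (∀ j, x j ∈ C) → R ≤ C := by
  intro k
  induction k with
  | zero =>
    intro K hK hlt
    refine ⟨Fin.elim0, fun j => j.elim0, fun C hC _ => ?_⟩
    obtain ⟨d, hd⟩ := Subgroup.card_dvd_of_le hK
    have hd1 : d = 1 := by
      have h0 : 0 < Nat.card R := Nat.card_pos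
      rw [hd] at hlt h0
      have h1 : d < 2 := by
        by_contra h
        have := Nat.mul_le_mul_left (Nat.card K) (not_lt.1 h)
        simp only [zero_add, pow_one] at hlt
        omega
      have : 0 < d := pos_of_mul_pos_right h0 (Nat.zero_le _)
      omega
    rw [← Subgroup.eq_of_le_of_card_ge hK (by rw [hd, hd1, mul_one])]
    exact hC
  | succ k ih =>
    intro K hK hlt
    by_cases hKR : K = R
    · exact ⟨fun _ => 1, fun _ => one_mem _, fun C hC _ => hKR ▸ hC⟩
    obtain ⟨y, hy, hyK⟩ := SetLike.exists_of_lt (lt_of_le_of_ne hK hKR)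
    have hlt' : K < K ⊔ Subgroup.zpowers y :=
      lt_of_le_of_ne le_sup_left fun e => hyK (e ▸ Subgroup.mem_sup_right (Subgroup.mem_zpowers y))
    have hcard : 2 * Nat.card K ≤ Nat.card (K ⊔ Subgroup.zpowers y : Subgroup G) := by
      obtain ⟨d, hd⟩ := Subgroup.card_dvd_of_le hlt'.le
      have h1 : 1 < d := by
        by_contra h
        exact hlt'.ne (Subgroup.eq_of_le_of_card_ge hlt'.le (by
          rw [hd]; exact (Nat.mul_le_mul_left _ (not_lt.1 h)).trans (by rw [mul_one])))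
      rw [hd, mul_comm]
      exact Nat.mul_le_mul_left _ h1
    obtain ⟨x, hx, hgen⟩ := ih (K ⊔ Subgroup.zpowers y) (sup_le hK ((Subgroup.zpowers_le).2 hy))
      (lt_of_lt_of_le hlt (by rw [pow_succ 2 (k + 1), mul_assoc]; exact Nat.mul_le_mul_left _ hcard))
    refine ⟨Fin.cons y x, fun j => Fin.cases (by simpa using hy) (fun i => by simpa using hx i) j,
      fun C hC hxC => hgen C (sup_le hC ((Subgroup.zpowers_le).2 (by simpa using hxC 0))) fun i => by
        simpa using hxC i.succ⟩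

/-- Four elements with the commutant of `R`, for `R` of order `64` with centre of order `4`. -/
theorem exists_four {R : Subgroup (GL (Fin 4) F)} (habs : ActsAbsolutelyIrreducibly (matrixSet R))
    (hcard : Nat.card R = 64) (hcent : Nat.card (Subgroup.center R) = 4) :
    (∃ x : Fin 4 → GL (Fin 4) F, (∀ j, x j ∈ R) ∧
      ∀ M : Matrix (Fin 4) (Fin 4) F, (∀ j, M * (x j).1 = (x j).1 * M) → ∃ c : F, M = c • 1) ∧
    ∀ z ∈ Subgroup.center R, ∃ c : F, (z : GL (Fin 4) F).1 = c • (1 : Matrix (Fin 4) (Fin 4) F) := by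
  have hsc : ∀ z ∈ Subgroup.center R, ∃ c : F, (z : GL (Fin 4) F).1 = c • (1 : Matrix (Fin 4) (Fin 4) F) :=
    fun z hz => habs.2 _ (by
      rintro _ ⟨g, hg, rfl⟩
      have := congrArg (fun w : R => (w : GL (Fin 4) F).1) (Subgroup.mem_center_iff.1 hz ⟨g, hg⟩)
      simpa using this.symm)
  refine ⟨?_, hsc⟩
  have hK : Nat.card ((Subgroup.center R).map R.subtype) = 4 := by
    rw [Subgroup.card_map_of_injective R.subtype_injective, hcent]
  obtain ⟨x, hx, hgen⟩ := exists_gens R 4 ((Subgroup.center R).map R.subtype) (Subgroup.map_subtype_le _)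
    (by rw [hK, hcard]; norm_num)
  refine ⟨x, hx, fun M hM => habs.2 M ?_⟩
  let C : Subgroup (GL (Fin 4) F) :=
    { carrier := {g | M * g.1 = g.1 * M}
      mul_mem' := fun {g h} hg hh => by
        simp only [Set.mem_setOf_eq] at hg hh ⊢
        rw [Units.val_mul, ← mul_assoc, hg, mul_assoc, hh, mul_assoc]
      one_mem' := by simp
      inv_mem' := fun {g} hg => by
        simp only [Set.mem_setOf_eq] at hg ⊢
        exact (Commute.units_inv_right hg) }
  have hRC : R ≤ C := hgen C (by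
    rintro _ ⟨z, hz, rfl⟩
    obtain ⟨c, hc⟩ := hsc z hz
    show M * (z : GL (Fin 4) F).1 = (z : GL (Fin 4) F).1 * M
    rw [hc, Matrix.mul_smul, Matrix.mul_one, Matrix.smul_mul, Matrix.one_mul]) hM
  rintro _ ⟨g, hg, rfl⟩
  exact hRC hg

/-- For `q ≥ 4`, `SU_4(q)` normalises no absolutely irreducible group of order `64` with centre of order `4`. -/
theorem not_le_normalizer_of_card64' (hF : Fintype.card F = q ^ 2) (hq : 4 ≤ q) {R : Subgroup (GL (Fin 4) F)}
    (habs : ActsAbsolutelyIrreducibly (matrixSet R)) (hcard : Nat.card R = 64)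
    (hcent : Nat.card (Subgroup.center R) = 4) :
    ¬ UnitPrimeDim.omegaU 4 F q ≤ subgroupNormalizer R := by
  intro hle
  obtain ⟨⟨x, hx, hM⟩, -⟩ := exists_four habs hcard hcent
  have h := card_omegaU_le_of_gens (q := q) x hM (N := 64) (fun _ => (R : Set (GL (Fin 4) F))) (fun _ => hcard.le)
    fun g hg j => (Subgroup.mem_normalizer_iff.1 (hle hg) (x j)).1 (hx j)
  rw [card_omegaU_four hF] at h
  have h2 : 4 ^ 2 ≤ q ^ 2 := Nat.pow_le_pow_left hq 2
  have h3 : 4 ^ 3 ≤ q ^ 3 := Nat.pow_le_pow_left hq 3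
  have h4 : 4 ^ 4 ≤ q ^ 4 := Nat.pow_le_pow_left hq 4
  have h5 : 4 ^ 6 * (15 * 65 * 255) ≤ q ^ 6 * ((q ^ 2 - 1) * (q ^ 3 + 1) * (q ^ 4 - 1)) :=
    Nat.mul_le_mul (Nat.pow_le_pow_left hq 6) (Nat.mul_le_mul (Nat.mul_le_mul (by omega) (by omega)) (by omega))
  omega

/-- For `q ≥ 3`, `SU_4(q)` normalises no absolutely irreducible group of order `64` with centre of order `4`
and all squares scalar. -/
theorem not_le_normalizer_of_card64 (hF : Fintype.card F = q ^ 2) (hq : 3 ≤ q) {R : Subgroup (GL (Fin 4) F)}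
    (habs : ActsAbsolutelyIrreducibly (matrixSet R)) (hcard : Nat.card R = 64)
    (hcent : Nat.card (Subgroup.center R) = 4) (hsq : ∀ x ∈ R, x * x ∈ scalars (Fin 4) F) :
    ¬ UnitPrimeDim.omegaU 4 F q ≤ subgroupNormalizer R := by
  classical
  intro hle
  obtain ⟨⟨x, hx, hM⟩, hsc⟩ := exists_four habs hcard hcent
  -- a central element whose square is not one
  obtain ⟨z, hz, hz2⟩ : ∃ z ∈ Subgroup.center R, z * z ≠ 1 := by
    by_contra hcon
    push Not at hcon
    choose c hc using hsc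
    let f : Subgroup.center R → {a : F // a ^ 2 = 1} := fun z => ⟨c z z.2, by
      have h := congrArg (fun w : R => (w : GL (Fin 4) F).1 0 0) (hcon z z.2)
      simpa [hc z z.2, pow_two] using h⟩
    have hf : Function.Injective f := fun z w e => Subtype.ext (Subtype.ext (Units.ext (by
      rw [hc z z.2, hc w w.2, Subtype.mk.inj e])))
    have h2 : Nat.card {a : F // a ^ 2 = 1} ≤ 2 := by
      rw [Nat.subtype_card (Polynomial.nthRootsFinset 2 (1 : F)) fun y => Polynomial.mem_nthRootsFinset (by norm_num) 1]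
      unfold Polynomial.nthRootsFinset
      exact le_trans (Multiset.toFinset_card_le _) (Polynomial.card_nthRoots 2 1)
    have := Nat.card_le_card_of_injective f hf
    omega
  have hzc : ∀ y ∈ R, (z : GL (Fin 4) F) * y = y * z := fun y hy =>
    (congrArg Subtype.val (Subgroup.mem_center_iff.1 hz ⟨y, hy⟩)).symm
  let S : Fin 4 → Set (GL (Fin 4) F) := fun j => {y | y ∈ R ∧ y * y = x j * x j}
  have hS : ∀ j, Nat.card (S j) ≤ 32 := by
    intro j
    have h : Nat.card (S j × Bool) ≤ Nat.card R := by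
      refine Nat.card_le_card_of_injective
        (fun p => if p.2 then ⟨p.1.1 * z, mul_mem p.1.2.1 z.2⟩ else ⟨p.1.1, p.1.2.1⟩) ?_
      have key : ∀ y y' : S j, y.1 ≠ y'.1 * z := by
        intro y y' e
        have h1 := y.2.2
        rw [e, show y'.1 * (z : GL (Fin 4) F) * (y'.1 * z) = y'.1 * ((z : GL (Fin 4) F) * y'.1) * z by group,
          hzc _ y'.2.1, show y'.1 * (y'.1 * (z : GL (Fin 4) F)) * z = y'.1 * y'.1 * ((z : GL (Fin 4) F) * z) by group,
          y'.2.2, mul_eq_left] at h1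
        exact hz2 (Subtype.ext h1)
      rintro ⟨y, b⟩ ⟨y', b'⟩ e
      cases b <;> cases b' <;> simp [Subtype.ext_iff] at e
      · exact Prod.ext (Subtype.ext e) rfl
      · exact absurd e (key y y')
      · exact absurd e.symm (key y' y)
      · exact Prod.ext (Subtype.ext e) rfl
    rw [Nat.card_prod, hcard, Nat.card_eq_fintype_card (α := Bool), Fintype.card_bool] at h
    omega
  have h := card_omegaU_le_of_gens (q := q) x hM S hS fun g hg j => by
    refine ⟨(Subgroup.mem_normalizer_iff.1 (hle hg) (x j)).1 (hx j), ?_⟩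
    obtain ⟨c, hc⟩ := (mem_scalars_iff _).1 (hsq _ (hx j))
    rw [show g * x j * g⁻¹ * (g * x j * g⁻¹) = g * (x j * x j) * g⁻¹ by group, mul_inv_eq_iff_eq_mul]
    exact Units.ext (by simp [Units.val_mul, hc])
  rw [card_omegaU_four hF] at h
  have h2 : 3 ^ 2 ≤ q ^ 2 := Nat.pow_le_pow_left hq 2
  have h3 : 3 ^ 3 ≤ q ^ 3 := Nat.pow_le_pow_left hq 3
  have h4 : 3 ^ 4 ≤ q ^ 4 := Nat.pow_le_pow_left hq 4
  have h5 : 3 ^ 6 * (8 * 28 * 80) ≤ q ^ 6 * ((q ^ 2 - 1) * (q ^ 3 + 1) * (q ^ 4 - 1)) :=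
    Nat.mul_le_mul (Nat.pow_le_pow_left hq 6) (Nat.mul_le_mul (Nat.mul_le_mul (by omega) (by omega)) (by omega))
  omega

/-! ### The frame -/

/-- An orthonormal basis adapted to an orthogonal decomposition into lines. -/
theorem exists_orthonormal (hF : Fintype.card F = q ^ 2) {D : Fin 4 → Submodule F (Fin 4 → F)}
    (hD : IsNondegenerateMDecomposition (Cfsg.hermForm 4 F q) 1 D) :
    ∃ b : Module.Basis (Fin 4) F (Fin 4 → F), (∀ i, D i = Submodule.span F {b i}) ∧
      ∀ i j, hermBilin hF 4 (b i) (b j) = if i = j then 1 else 0 := by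
  classical
  obtain ⟨b, hb⟩ := SLFour.exists_frame hD.decomp
  have hmem : ∀ i, b i ∈ D i := fun i => (hb i).ge (Submodule.mem_span_singleton_self _)
  have hne : ∀ i, hermBilin hF 4 (b i) (b i) ≠ 0 := by
    intro i h0
    obtain ⟨⟨x, hx, hx0⟩, -⟩ := hD.nondegenerate i (b i) (hmem i) (b.ne_zero i)
    rw [hb i, Submodule.mem_span_singleton] at hx
    obtain ⟨c, rfl⟩ := hx
    rw [← hermBilin_apply hF, map_smul, h0, smul_zero] at hx0
    exact hx0 rfl
  have hex : ∀ i, ∃ x : F, x ^ (q + 1) = (hermBilin hF 4 (b i) (b i))⁻¹ := by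
    intro i
    have hfix : ((hermBilin hF 4 (b i) (b i))⁻¹) ^ q = (hermBilin hF 4 (b i) (b i))⁻¹ := by
      rw [← conjHom_apply hF, map_inv₀, herm_symm hF]
    have h := card_norm_eq hF _ hfix
    rw [if_neg (inv_ne_zero (hne i))] at h
    obtain ⟨⟨x, hx⟩⟩ : Nonempty {x : F // x ^ (q + 1) = (hermBilin hF 4 (b i) (b i))⁻¹} :=
      (Nat.card_pos_iff.1 (by omega)).1
    exact ⟨x, hx⟩
  choose x hx using hex
  have hx0 : ∀ i, x i ≠ 0 := fun i e => by
    have := hx i
    rw [e, zero_pow (by omega)] at this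
    exact inv_ne_zero (hne i) this.symm
  refine ⟨b.unitsSMul fun i => Units.mk0 (x i) (hx0 i), fun i => ?_, fun i j => ?_⟩
  · rw [hb i, Module.Basis.unitsSMul_apply, Units.smul_def, Units.val_mk0,
      Submodule.span_singleton_smul_eq (hx0 i).isUnit]
  · simp only [Module.Basis.unitsSMul_apply, Units.smul_def, Units.val_mk0, map_smulₛₗ, LinearMap.smul_apply,
      map_smul, RingHom.id_apply, smul_eq_mul, conjHom_apply hF]
    by_cases hij : i = j
    · subst hij
      rw [if_pos rfl, ← mul_assoc, ← pow_succ', hx, inv_mul_cancel₀ (hne i)]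
    · rw [if_neg hij, hermBilin_apply hF, hD.orthogonal j i (Ne.symm hij) _ (hmem j) _ (hmem i)]
      simp

variable {b : Module.Basis (Fin 4) F (Fin 4 → F)} {π : Equiv.Perm (Fin 4)} {a : Fin 4 → F} {g : GL (Fin 4) F}

/-- Monomial isometries on an orthonormal basis. -/
theorem mono_mem_GU (hF : Fintype.card F = q ^ 2)
    (hon : ∀ i j, hermBilin hF 4 (b i) (b j) = if i = j then 1 else 0) (hg : Nine.Mono b g π a)
    (ha : ∀ i, a i ^ q * a i = 1) : g ∈ Cfsg.GU 4 F q := by
  classical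
  have key : ∀ u v, hermBilin hF 4 (g.1 *ᵥ u) (g.1 *ᵥ v) = hermBilin hF 4 u v := by
    intro u v
    conv_lhs => rw [← b.sum_repr u, ← b.sum_repr v]
    conv_rhs => rw [← b.sum_repr u, ← b.sum_repr v]
    simp only [Matrix.mulVec_sum, Matrix.mulVec_smul, hg _, map_sum, LinearMap.sum_apply, map_smulₛₗ,
      LinearMap.smul_apply, map_smul, RingHom.id_apply, smul_eq_mul, hon, conjHom_apply hF]
    refine Finset.sum_congr rfl fun i _ => ?_
    simp only [Finset.mul_sum]
    refine Finset.sum_congr rfl fun j _ => ?_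
    by_cases hij : j = i
    · subst hij
      simp only [if_true, mul_one]
      linear_combination (b.repr u j ^ q * b.repr v j) * ha j
    · simp [hij, π.injective.ne_iff, Ne.symm hij]
  intro u v
  exact key v u

theorem mono_four (hF : Fintype.card F = q ^ 2) (hq : q = 3)
    (hon : ∀ i j, hermBilin hF 4 (b i) (b j) = if i = j then 1 else 0) (hg : Nine.Mono b g π a)
    (hU : g ∈ Cfsg.GU 4 F q) (i : Fin 4) : a i * a i * (a i * a i) = 1 := by
  have h : hermBilin hF 4 (g.1 *ᵥ b i) (g.1 *ᵥ b i) = hermBilin hF 4 (b i) (b i) := hU (b i) (b i)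
  rw [hg i] at h
  simp only [map_smulₛₗ, LinearMap.smul_apply, RingHom.id_apply, smul_eq_mul, hon, if_true, mul_one] at h
  rw [conjHom_apply, hq] at h
  linear_combination h

/-- The stabiliser of four orthogonal lines in `SU_4(3)` normalises a group of symplectic type. -/
theorem lines_three (hF : Fintype.card F = q ^ 2) (hq : q = 3) {H : Subgroup (GL (Fin 4) F)}
    (hH : IsMaximalIn (UnitPrimeDim.omegaU 4 F q) H) {D : Fin 4 → Submodule F (Fin 4 → F)}
    (hD : IsNondegenerateMDecomposition (Cfsg.hermForm 4 F q) 1 D) (hle : H ≤ decompositionStabilizer D) :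
    Cases q H := by
  classical
  have h9 : Fintype.card F = 9 := by rw [hF, hq]; norm_num
  obtain ⟨b, hb, hon⟩ := exists_orthonormal hF hD
  have hGU : Nine.rgp b ≤ Cfsg.GU 4 F q := by
    rintro g ⟨τ, d, -, hd, hg⟩
    refine mono_mem_GU hF hon hg fun i => ?_
    rw [hq]
    linear_combination hd.four i
  have hsq : ∀ x ∈ Nine.rgp b, x * x ∈ scalars (Fin 4) F := by
    rintro g ⟨τ, d, hτ, hd, hg⟩
    have hs : ∀ i, (fun i => d i * (d 0)⁻¹) i * (fun i => d i * (d 0)⁻¹) i = 1 := fun i => by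
      show d i * (d 0)⁻¹ * (d i * (d 0)⁻¹) = 1
      rw [mul_mul_mul_comm, hd.sq i, ← mul_mul_mul_comm, mul_inv_cancel₀ (hd.ne_zero 0), one_mul]
    have hp : ∏ i, (fun i => d i * (d 0)⁻¹) i = 1 := by
      rw [Finset.prod_mul_distrib, hd.prod, one_mul, Fin.prod_univ_four, ← mul_inv, ← mul_inv, ← mul_inv,
        mul_assoc (d 0 * d 0), hd.quad, inv_one]
    have hk : ∀ i, d (τ i) * d i = d (τ 0) * d 0 := fun i => by
      have h := Nine.pair_const hs hp hτ i
      field_simp [hd.ne_zero 0] at h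
      linear_combination h
    refine (mem_scalars_iff _).2 ⟨Units.mk0 _ (mul_ne_zero (hd.ne_zero (τ 0)) (hd.ne_zero 0)), ?_⟩
    apply Matrix.toLin'.injective
    refine b.ext fun i => ?_
    simp only [Matrix.toLin'_apply, Matrix.smul_mulVec, Matrix.one_mulVec, Units.val_mk0]
    rw [(hg.mul hg) i]
    simp only [hk i, Equiv.Perm.mul_apply, Nine.klein_apply_apply hτ]
  have hcard := Nine.rgp_card (b := b) h9
  have hcent := Nine.center_card (b := b) h9
  have habs := Nine.irreducible (b := b) h9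
  have hne := not_le_normalizer_of_card64 hF (le_of_eq hq.symm) habs hcard hcent hsq
  have key : ∀ h ∈ H, ∀ x ∈ Nine.rgp b, h * x * h⁻¹ ∈ Nine.rgp b := by
    rintro h hh x ⟨τ, d, hτ, hd, hx⟩
    obtain ⟨π, a, ha, hm, -⟩ := SLFour.frame_mono hb (hle hh)
    refine (Nine.conj_mem h9 ha (mono_four hF hq hon hm (hH.1.le hh).1) hm ?_ hτ hd hx).1
    have h1 : LinearMap.toMatrix b b (Matrix.toLin' (h : Matrix (Fin 4) (Fin 4) F)) =
        (Equiv.Perm.permMatrix F π⁻¹) * Matrix.diagonal a := by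
      ext i j
      rw [LinearMap.toMatrix_apply, Matrix.toLin'_apply, hm j, Matrix.mul_diagonal]
      by_cases hij : π j = i
      · subst hij
        simp [Equiv.Perm.permMatrix, PEquiv.toMatrix_apply]
      · have : π⁻¹ i ≠ j := fun e => hij (by rw [← e]; simp)
        simp [Equiv.Perm.permMatrix, PEquiv.toMatrix_apply, hij, show ¬ π.symm i = j from this]
    have h2 := congrArg Matrix.det h1
    rw [LinearMap.det_toMatrix, LinearMap.det_toLin', Matrix.det_mul, Matrix.det_permutation,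
      Matrix.det_diagonal] at h2
    have h3 := congrArg Units.val (MonoidHom.mem_ker.1 (hH.1.le hh).2)
    simp only [Matrix.GeneralLinearGroup.val_det_apply, Units.val_one] at h3
    rw [h3] at h2
    have h4 := congrArg (fun z : F => z * z) h2
    rcases Int.units_eq_one_or (Equiv.Perm.sign π⁻¹) with e | e <;> rw [e] at h4 <;>
      simpa using h4.symm
  have hle' : H ≤ subgroupNormalizer (Nine.rgp b) := fun h hh => by
    rw [subgroupNormalizer, Subgroup.mem_normalizer_iff]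
    intro x
    refine ⟨key h hh x, fun hx => ?_⟩
    have := key h⁻¹ (inv_mem hh) _ hx
    simpa [mul_assoc] using this
  refine Or.inr (Or.inr (Or.inr (Or.inr (Or.inr (Or.inr (Or.inr (Or.inr (Or.inl
    ⟨3, Nine.rgp b, Nat.prime_three, hq, by norm_num, ?_, habs, ?_, hcard, hcent, eq_inf hH hle' hne⟩))))))))
  · exact ⟨Nat.prime_two, IsPGroup.of_card (n := 6) (by rw [hcard]; norm_num), Nine.char_abelian_cyclic h9,
      by rw [Nine.exponent_eq h9]; decide⟩
  · intro g hg
    exact ⟨1, fun u v => by rw [Units.val_one, one_mul]; exact hGU hg u v⟩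

end Cfsg.Agent.Lib.SUFour
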