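import Cfsg.Agent.Lib.SUFour.SixFrame
import Cfsg.Agent.Lib.SUFour.LinesThree
import Cfsg.Agent.Lib.TwoPrimeDim.Socle

/-! An absolutely irreducible normal subgroup that is abelian modulo scalars: the class of symplectic-type groups. -/

set_option autoImplicit false
set_option linter.unusedSectionVars false
set_option linter.style.haveILetI false

open scoped Matrix MatrixGroups commutatorElement

namespace Cfsg.Agent.Lib.SUFour.Six

variable {F : Type*} [Field F] [Fintype F] {q : ℕ}

local notation "MM" => Matrix (Fin 4) (Fin 4) F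

namespace Sign

variable {N : Subgroup (GL (Fin 4) F)} (hS : Sign N)
include hS

theorem four_ne_zero' : (4 : F) ≠ 0 := by
  rw [show (4 : F) = 2 * 2 by norm_num]
  exact mul_ne_zero (two_ne_zero_of ⟨N, hS⟩) (two_ne_zero_of ⟨N, hS⟩)

theorem trace_eq_zero {x : GL (Fin 4) F} (hx : x ∈ N) (hns : ¬ ∃ c : F, (x : MM) = c • 1) : (x : MM).trace = 0 := by
  by_contra htr
  refine hns (hS.absIrred.2 _ ?_)
  rintro _ ⟨y, hy, rfl⟩
  obtain ⟨ε, hε, h⟩ := hS.comm x hx y hy
  rcases hε with rfl | rfl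
  · rwa [one_smul] at h
  · exfalso
    apply htr
    have h1 : (x : MM).trace = -(x : MM).trace :=
      calc (x : MM).trace = ((y : MM) * x * ((y⁻¹ : GL (Fin 4) F) : MM)).trace := (Matrix.trace_units_conj y _).symm
        _ = (-((x : MM) * y) * ((y⁻¹ : GL (Fin 4) F) : MM)).trace := by rw [h, neg_one_smul, neg_neg]
        _ = _ := by rw [neg_mul, mul_assoc, Units.mul_inv, mul_one, Matrix.trace_neg]
    have h2 := two_ne_zero_of ⟨N, hS⟩
    exact (mul_eq_zero.1 (show (2 : F) * (x : MM).trace = 0 by linear_combination h1)).resolve_left h2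

/-- exponent four -/
theorem pow_four (hF : Fintype.card F = q ^ 2) {x : GL (Fin 4) F} (hx : x ∈ N) : x ^ 4 = 1 := by
  obtain ⟨z, hz4, hz⟩ := hS.sq x hx
  have key : z ^ 2 = 1 := by
    by_cases hsc : ∃ c : F, (x : MM) = c • 1
    · obtain ⟨c, hc⟩ := hsc
      have h1 := hz
      rw [hc, Matrix.smul_mul, Matrix.one_mul, smul_smul] at h1
      have h2 : c * c = z := smul_left_injective F (one_ne_zero (α := MM)) h1
      rw [← h2]
      linear_combination pow_four_of_scalar (hS.det_one x hx) hc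
    · obtain ⟨P, -, hdiag⟩ := exists_frame hF hS hx
      set D : MM := ((P⁻¹ : GL (Fin 4) F) : MM) * (x : MM) * (P : MM) with hD
      have hDd : D = Matrix.diagonal D.diag := by
        ext i j
        by_cases h : i = j
        · subst h; rw [Matrix.diagonal_apply_eq]; rfl
        · rw [Matrix.diagonal_apply_ne _ h, hdiag i j h]
      have htr : ∑ i, D.diag i = 0 := by
        show D.trace = 0
        rw [hD, Matrix.trace_units_conj', hS.trace_eq_zero hx hsc]
      have hdet : ∏ i, D.diag i = 1 := by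
        rw [← Matrix.det_diagonal, ← hDd, hD, Matrix.det_units_conj', hS.det_one x hx]
      have hDD : D * D = z • (1 : MM) := by
        rw [hD]
        calc _ = ((P⁻¹ : GL (Fin 4) F) : MM) * ((x : MM) * (((P : MM)) * ((P⁻¹ : GL (Fin 4) F) : MM)) * (x : MM)) * (P : MM) := by
              simp only [mul_assoc]
          _ = _ := by
              rw [Units.mul_inv, mul_one, hz, Matrix.mul_smul, mul_one, Matrix.smul_mul, Units.inv_mul]
      have hsq : ∀ i, D.diag i * D.diag i = z := fun i => by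
        rw [hDd, Matrix.diagonal_mul_diagonal] at hDD
        have := congrFun (congrFun hDD i) i
        simpa [Matrix.diagonal_apply_eq] using this
      rw [Fin.sum_univ_four] at htr
      rw [Fin.prod_univ_four] at hdet
      set a := D.diag 0 with ha
      have ha0 : a ≠ 0 := fun e => by
        have h := hsq 0
        rw [← ha, e, mul_zero] at h
        rw [← h, zero_pow four_ne_zero] at hz4
        exact zero_ne_one hz4
      have hpm : ∀ i, D.diag i = a ∨ D.diag i = -a := fun i =>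
        mul_self_eq_mul_self_iff.1 ((hsq i).trans (hsq 0).symm)
      have h2 := two_ne_zero_of ⟨N, hS⟩
      have h4 := hS.four_ne_zero'
      have hza : z = a * a := (hsq 0).symm
      rcases hpm 1 with e1 | e1 <;> rcases hpm 2 with e2 | e2 <;> rcases hpm 3 with e3 | e3 <;>
        rw [e1, e2, e3] at htr hdet <;>
        first
          | (rw [hza]; linear_combination hdet)
          | exact absurd ((mul_eq_zero.1 (show (4 : F) * a = 0 by linear_combination htr)).resolve_left h4) ha0
          | exact absurd ((mul_eq_zero.1 (show (2 : F) * a = 0 by linear_combination htr)).resolve_left h2) ha0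
          | exact absurd ((mul_eq_zero.1 (show (2 : F) * a = 0 by linear_combination -htr)).resolve_left h2) ha0
  refine Units.ext ?_
  rw [Units.val_pow_eq_pow_val, Units.val_one, show (x : MM) ^ 4 = ((x : MM) * x) * (x * x) by
    simp [pow_succ, mul_assoc], hz, Matrix.smul_mul, Matrix.one_mul, smul_smul, ← pow_two, key, one_smul]

/-- a conjugate-linear map commuting with `N` when its scalars are fixed by the involution -/
theorem exists_semilinear (hF : Fintype.card F = q ^ 2)
    (hfix : ∀ x ∈ N, ∀ c : F, (x : MM) = c • 1 → c ^ q = c) :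
    ∃ J : (Fin 4 → F) → (Fin 4 → F), (∀ x y, J (x + y) = J x + J y) ∧
      (∀ (c : F) x, J (c • x) = c ^ q • J x) ∧ (∀ g ∈ N, ∀ v, J (ac g v) = ac g (J v)) ∧ ∃ v, J v ≠ 0 := by
  classical
  let σ : F →+* F := Classical.conjHom hF
  have hσ : ∀ x, σ x = x ^ q := fun x => Classical.conjHom_apply hF x
  let Q : MM → MM := fun X => ∑ x : N, ((x : GL (Fin 4) F) : MM).map σ * X * (((x : GL (Fin 4) F)⁻¹ : GL (Fin 4) F) : MM)
  obtain ⟨X, hX⟩ : ∃ X, Q X ≠ 0 := by
    by_contra hcon
    push Not at hcon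
    have h1 : ∑ i : Fin 4, ∑ k : Fin 4, Q (Matrix.single i k 1) i k = 0 :=
      Finset.sum_eq_zero fun i _ => Finset.sum_eq_zero fun k _ => by rw [hcon]; rfl
    have h2 : ∑ x : N, σ ((x : GL (Fin 4) F) : MM).trace *
        (((x : GL (Fin 4) F)⁻¹ : GL (Fin 4) F) : MM).trace = 0 := by
      rw [← h1]
      have hent : ∀ (A B : MM) (i k : Fin 4), (A * (Matrix.single i k (1 : F) : MM) * B) i k = A i i * B k k := fun A B i k => by
        simp [Matrix.mul_apply, Matrix.single_apply, ite_and]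
      simp only [Q, Matrix.sum_apply, hent, Matrix.map_apply]
      rw [Finset.sum_congr rfl fun i (_ : i ∈ Finset.univ) => Finset.sum_comm, Finset.sum_comm]
      refine Finset.sum_congr rfl fun x _ => ?_
      rw [Matrix.trace, Matrix.trace, map_sum, Finset.sum_mul_sum]
      rfl
    let Z : Subgroup N := (Cfsg.Geo.scalars (Fin 4) F).subgroupOf N
    have hterm : ∀ x : N, σ ((x : GL (Fin 4) F) : MM).trace *
        (((x : GL (Fin 4) F)⁻¹ : GL (Fin 4) F) : MM).trace = if x ∈ Z then 16 else 0 := by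
      intro x
      by_cases hx : x ∈ Z
      · obtain ⟨d, hd⟩ := (Cfsg.Geo.mem_scalars_iff _).1 (Subgroup.mem_subgroupOf.1 hx)
        have hinv : (((x : GL (Fin 4) F)⁻¹ : GL (Fin 4) F) : MM) = (d : F)⁻¹ • (1 : MM) := by
          have h := Units.inv_mul (x : GL (Fin 4) F)
          rw [hd, Matrix.mul_smul, Matrix.mul_one] at h
          rw [← h, smul_smul, inv_mul_cancel₀ d.ne_zero, one_smul]
        rw [if_pos hx, hd, hinv, Matrix.trace_smul, Matrix.trace_smul, Matrix.trace_one, Fintype.card_fin,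
          smul_eq_mul, smul_eq_mul, map_mul, map_natCast, hσ, hfix x x.2 d hd]
        have hd0 := d.ne_zero
        field_simp
        norm_num
      · rw [if_neg hx, hS.trace_eq_zero x.2 fun ⟨d, hd⟩ => hx (mem_scalars_of_val hd), map_zero, zero_mul]
    rw [Finset.sum_congr rfl fun x (_ : x ∈ Finset.univ) => hterm x, ← Finset.sum_filter, Finset.sum_const,
      nsmul_eq_mul, ← Fintype.card_subtype, ← Nat.card_eq_fintype_card] at h2
    have h16 : (16 : F) ≠ 0 := by
      rw [show (16 : F) = 4 * 4 by norm_num]; exact mul_ne_zero hS.four_ne_zero' hS.four_ne_zero'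
    obtain ⟨p, hp⟩ := CharP.exists F
    obtain ⟨n, hpp, -⟩ := FiniteField.card F p
    haveI := hp
    haveI : Fact p.Prime := ⟨hpp⟩
    obtain ⟨y, hy⟩ := exists_prime_orderOf_dvd_card' (G := Z) p
      ((CharP.cast_eq_zero_iff F p _).1 ((mul_eq_zero.1 h2).resolve_right h16))
    have h4 : y ^ 4 = 1 := Subtype.ext (Subtype.ext (by simpa using hS.pow_four hF (y : N).2))
    have hdvd : p ∣ 2 ^ 2 := hy ▸ orderOf_dvd_of_pow_eq_one h4
    have hp2 := (Nat.prime_dvd_prime_iff_eq hpp Nat.prime_two).1 (hpp.dvd_of_dvd_pow hdvd)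
    subst hp2
    exact two_ne_zero_of ⟨N, hS⟩ (by exact_mod_cast CharP.cast_eq_zero F 2)
  have hinv : ∀ y ∈ N, (y : MM).map σ * Q X = Q X * (y : MM) := by
    intro y hy
    simp only [Q, Finset.mul_sum, Finset.sum_mul]
    refine Fintype.sum_equiv (Equiv.mulLeft (⟨y, hy⟩ : N)) _ _ fun x => ?_
    simp only [Equiv.coe_mulLeft, Subgroup.coe_mul, Units.val_mul, mul_inv_rev, Matrix.map_mul]
    simp only [mul_assoc, Units.inv_mul, mul_one]
  have hinj : ∀ v, Q X *ᵥ v = 0 → v = 0 := by
    intro v hv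
    rcases irreducible_iff.1 hS.absIrred.1 (LinearMap.ker (Matrix.toLin' (Q X))) (fun m hm w hw => by
      rw [LinearMap.mem_ker, Matrix.toLin'_apply] at hw ⊢
      show Q X *ᵥ ((m : MM) *ᵥ w) = 0
      rw [Matrix.mulVec_mulVec, ← hinv m hm, ← Matrix.mulVec_mulVec, hw, Matrix.mulVec_zero]) with e | e
    · exact (Submodule.eq_bot_iff _).1 e v (by rw [LinearMap.mem_ker, Matrix.toLin'_apply]; exact hv)
    · exact absurd (Matrix.toLin'.map_eq_zero_iff.1 (LinearMap.ker_eq_top.1 e)) hX
  obtain ⟨U, hU⟩ : IsUnit (Q X) := Matrix.mulVec_injective_iff_isUnit.1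
    ((injective_iff_map_eq_zero (Matrix.toLin' (Q X))).2 fun v hv => hinj v (by rwa [Matrix.toLin'_apply] at hv))
  refine ⟨fun v => ac U⁻¹ (σ ∘ v), fun x y => ?_, fun c x => ?_, fun g hg v => ?_, ?_⟩
  · show ac U⁻¹ (σ ∘ (x + y)) = ac U⁻¹ (σ ∘ x) + ac U⁻¹ (σ ∘ y)
    rw [show σ ∘ (x + y) = σ ∘ x + σ ∘ y from funext fun i => map_add σ _ _]
    exact Matrix.mulVec_add _ _ _
  · show ac U⁻¹ (σ ∘ (c • x)) = c ^ q • ac U⁻¹ (σ ∘ x)
    rw [show σ ∘ (c • x) = σ c • (σ ∘ x) from funext fun i => map_mul σ _ _, ← hσ]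
    exact Matrix.mulVec_smul _ _ _
  · show ((U⁻¹ : GL (Fin 4) F) : MM) *ᵥ (σ ∘ ((g : MM) *ᵥ v)) = (g : MM) *ᵥ (((U⁻¹ : GL (Fin 4) F) : MM) *ᵥ (σ ∘ v))
    rw [SpFourEven.map_mulVec σ _ _, Matrix.mulVec_mulVec, Matrix.mulVec_mulVec]
    congr 1
    have h := hinv g hg
    rw [← hU] at h
    calc ((U⁻¹ : GL (Fin 4) F) : MM) * (g : MM).map σ
        = ((U⁻¹ : GL (Fin 4) F) : MM) * ((g : MM).map σ * (U : MM)) * ((U⁻¹ : GL (Fin 4) F) : MM) := by
          simp only [mul_assoc, Units.mul_inv, mul_one]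
      _ = _ := by rw [h, ← mul_assoc ((U⁻¹ : GL (Fin 4) F) : MM), Units.inv_mul, one_mul]
  · obtain ⟨v, hv⟩ := exists_ne (0 : Fin 4 → F)
    refine ⟨ac U v, fun e => hv ?_⟩
    have e' : σ ∘ ac U v = 0 := by
      have := congrArg (ac U) e
      rwa [ac_ac_inv, show ac U 0 = 0 from Matrix.mulVec_zero _] at this
    have e2 : ac U v = 0 := funext fun i => σ.injective (by rw [Pi.zero_apply, map_zero]; exact congrFun e' i)
    rw [← ac_inv_ac U v, e2]
    exact Matrix.mulVec_zero _

/-- a proper subfield containing the eighth roots of unity realises `N` -/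
theorem realisable (hF : Fintype.card F = q ^ 2) {p : ℕ} [CharP F p] (hp : p.Prime) (hlt : p < q) :
    ∃ F₀ : Subfield F, F₀ ≠ ⊤ ∧ Cfsg.Geo.RealisableOver F₀ (Cfsg.Geo.matrixSet N) := by
  classical
  haveI : Fact p.Prime := ⟨hp⟩
  have h2 := two_ne_zero_of ⟨N, hS⟩
  have hp2 : p ≠ 2 := fun e => h2 (by subst e; exact_mod_cast CharP.cast_eq_zero F 2)
  let φ : F →+* F := iterateFrobenius F p 2
  have hφ : ∀ x, φ x = x ^ p ^ 2 := fun x => iterateFrobenius_def p 2 x
  let F₀ : Subfield F := RingHom.eqLocusField φ (RingHom.id F)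
  have hmem : ∀ x, x ∈ F₀ ↔ φ x = x := fun x => Iff.rfl
  have h8 : ∀ l : F, l ^ 8 = 1 → l ∈ F₀ := fun l hl => by
    have hodd : p % 2 = 1 := by rcases hp.eq_two_or_odd with h | h <;> omega
    obtain ⟨m, hm⟩ : ∃ m, p ^ 2 = 8 * m + 1 := by
      obtain ⟨j, hj⟩ : ∃ j, p = 2 * j + 1 := ⟨p / 2, by omega⟩
      obtain ⟨m, hm⟩ := Nat.even_mul_succ_self j
      exact ⟨m, by rw [hj, show (2 * j + 1) ^ 2 = 4 * (j * (j + 1)) + 1 by ring, hm]; ring⟩
    rw [hmem, hφ, hm, pow_succ, pow_mul, hl, one_pow, one_mul]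
  refine ⟨F₀, fun htop => ?_, ?_⟩
  · obtain ⟨g, hg⟩ := IsCyclic.exists_ofOrder_eq_natCard (α := Fˣ)
    rw [Nat.card_units, Nat.card_eq_fintype_card, hF] at hg
    have h1 : g ^ (p ^ 2 - 1) = 1 := by
      have hx : φ (g : F) = g := (hmem _).1 (htop ▸ Subfield.mem_top _)
      have h5 : g ^ p ^ 2 = g := Units.ext (by rw [Units.val_pow_eq_pow_val, ← hφ, hx])
      refine mul_right_cancel (b := g) ?_
      rw [← pow_succ, Nat.sub_add_cancel (Nat.one_le_pow _ _ hp.pos), h5, one_mul]
    have h3 := Nat.le_of_dvd (by have : 2 ^ 2 ≤ p ^ 2 := Nat.pow_le_pow_left hp.two_le 2; omega)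
      (hg ▸ orderOf_dvd_of_pow_eq_one h1)
    have h4 : p ^ 2 < q ^ 2 := Nat.pow_lt_pow_left hlt two_ne_zero
    have h6 : 1 ≤ p ^ 2 := Nat.one_le_pow _ _ hp.pos
    omega
  · obtain ⟨P, hP, -⟩ := exists_frame hF hS (one_mem N)
    refine ⟨P⁻¹, ?_⟩
    rintro _ ⟨x, hx, rfl⟩ i j
    rw [inv_inv]
    obtain ⟨k, l, hl, h⟩ := hP x hx j
    have h' := congrFun h i
    rw [Matrix.mulVec_single_one, Pi.smul_apply] at h'
    rw [show ((((P⁻¹ : GL (Fin 4) F) : MM) * (x : MM) * (P : MM)) i j) = _ from h']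
    by_cases hik : i = k
    · subst hik; rw [Pi.single_eq_same, smul_eq_mul, mul_one]; exact h8 l hl
    · rw [Pi.single_eq_of_ne hik, smul_zero]; exact zero_mem _

end Sign

/-- the case of a normal subgroup that is abelian modulo scalars -/
theorem class_six (hF : Fintype.card F = q ^ 2) {H N : Subgroup (GL (Fin 4) F)}
    (hH : Cfsg.Geo.IsMaximalIn (UnitPrimeDim.omegaU 4 F q) H) (hn : NormalIn H N)
    (hNZ : ¬ N ≤ Cfsg.Geo.scalars (Fin 4) F) (habs : Cfsg.Geo.ActsAbsolutelyIrreducibly (Cfsg.Geo.matrixSet N))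
    (hcomm : ⁅N, N⁆ ≤ Cfsg.Geo.scalars (Fin 4) F)
    (hmin : ∀ M, NormalIn H M → M ≤ N → M ≤ Cfsg.Geo.scalars (Fin 4) F ∨ M = N) : Cases q H := by
  classical
  have hS := sign_of_min hF hH hn hNZ habs hcomm hmin
  by_cases hfix : ∀ x ∈ N, ∀ c : F, (x : MM) = c • 1 → c ^ q = c
  · obtain ⟨J, ha, hs, hJN, hne⟩ := hS.exists_semilinear hF hfix
    exact semilinear_out hF hH hn habs ha hs hJN hne
  push Not at hfix
  obtain ⟨z, hzN, c, hzc, hcq⟩ := hfix
  have hc4 : c ^ 4 = 1 := pow_four_of_scalar (hS.det_one z hzN) hzc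
  obtain ⟨p, hpc⟩ := CharP.exists F
  haveI := hpc
  obtain ⟨n, hpp, hn'⟩ := FiniteField.card F p
  obtain ⟨k, hk, hqk⟩ := (Nat.dvd_prime_pow hpp).1 (show q ∣ p ^ (n : ℕ) by rw [← hn', hF]; exact dvd_pow_self q two_ne_zero)
  have hq2 : 2 ≤ q := Classical.two_le_q hF
  have hk0 : k ≠ 0 := fun e => by rw [e, pow_zero] at hqk; omega
  rcases lt_or_eq_of_le (show p ≤ q by rw [hqk]; exact Nat.le_self_pow hk0 p) with hlt | hpq
  · obtain ⟨F₀, h1, h2⟩ := hS.realisable hF hpp hlt
    exact realisable_out hF hH hn habs h1 h2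
  have h2 := two_ne_zero_of ⟨N, hS⟩
  have hodd : q % 2 = 1 := by
    rcases hpp.eq_two_or_odd with h | h
    · exact absurd (show (2 : F) = 0 by subst h; exact_mod_cast CharP.cast_eq_zero F 2) h2
    · rw [← hpq]; exact h
  have hc2 : c * c = -1 := by
    rcases mul_self_eq_one_iff.1 (show (c * c) * (c * c) = 1 by linear_combination hc4) with h | h
    · exfalso
      apply hcq
      rcases mul_self_eq_one_iff.1 h with rfl | rfl
      · exact one_pow q
      · exact (Nat.odd_iff.2 hodd).neg_one_pow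
    · exact h
  have hc0 : c ≠ 0 := fun e => by rw [e, zero_pow four_ne_zero] at hc4; exact zero_ne_one hc4
  have hp4 : p % 4 = 3 := by
    by_contra h
    apply hcq
    rw [hpq] at h
    rw [← Nat.div_add_mod q 4, show q % 4 = 1 by omega, pow_succ, pow_mul, hc4, one_pow, one_mul]
  have hval : ∀ i : ℕ, ((z ^ i : GL (Fin 4) F) : MM) = c ^ i • (1 : MM) := fun i => by
    rw [Units.val_pow_eq_pow_val, hzc, smul_pow, one_pow]
  have hroots : ∀ d : F, d ^ 4 = 1 ↔ ∃ i < 4, d = c ^ i := fun d => by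
    constructor
    · intro hd
      rcases mul_self_eq_one_iff.1 (show (d * d) * (d * d) = 1 by linear_combination hd) with h | h
      · rcases mul_self_eq_one_iff.1 h with rfl | rfl
        · exact ⟨0, by norm_num, (pow_zero c).symm⟩
        · exact ⟨2, by norm_num, by rw [pow_two, hc2]⟩
      · rcases mul_self_eq_mul_self_iff.1 (h.trans hc2.symm) with rfl | rfl
        · exact ⟨1, by norm_num, (pow_one d).symm⟩
        · exact ⟨3, by norm_num, by linear_combination (-c) * hc2⟩
    · rintro ⟨i, -, rfl⟩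
      rw [← pow_mul, mul_comm, pow_mul, hc4, one_pow]
  -- the centre
  have hcentre : ∀ x : N, x ∈ Subgroup.center N ↔ ∃ d : F, ((x : GL (Fin 4) F) : MM) = d • 1 := fun x => by
    constructor
    · intro hx
      refine habs.2 _ ?_
      rintro _ ⟨y, hy, rfl⟩
      exact congrArg (fun g : N => ((g : GL (Fin 4) F) : MM)) ((Subgroup.mem_center_iff.1 hx ⟨y, hy⟩).symm)
    · rintro ⟨d, hd⟩
      exact Subgroup.mem_center_iff.2 fun y => Subtype.ext (Units.ext (by
        simp only [Subgroup.coe_mul, Units.val_mul, hd, Matrix.smul_mul, Matrix.mul_smul, Matrix.one_mul,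
          Matrix.mul_one]))
  have hinj1 : ∀ {a b : F}, a • (1 : MM) = b • (1 : MM) → a = b := fun h => smul_left_injective F one_ne_zero h
  have hcard4 : Nat.card (Subgroup.center N) = 4 := by
    let f : Fin 4 → Subgroup.center N := fun i =>
      ⟨⟨z ^ (i : ℕ), pow_mem hzN _⟩, (hcentre _).2 ⟨_, hval i⟩⟩
    have hord : orderOf c = 2 ^ (1 + 1) := by
      haveI : Fact (Nat.Prime 2) := ⟨Nat.prime_two⟩
      refine orderOf_eq_prime_pow (fun e => ?_) (by norm_num; exact hc4)
      rw [pow_one, pow_two, hc2] at e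
      exact h2 (by linear_combination -e)
    rw [← Nat.card_eq_of_bijective f ⟨fun i j h => ?_, fun y => ?_⟩, Nat.card_fin]
    · have h1 := congrArg (fun y : Subgroup.center N => (((y : N) : GL (Fin 4) F) : MM)) h
      simp only [f, hval] at h1
      refine Fin.ext ((pow_injOn_Iio_orderOf (x := c)) ?_ ?_ (hinj1 h1)) <;>
        (rw [Set.mem_Iio, hord]; simp)
    · obtain ⟨d, hd⟩ := (hcentre y).1 y.2
      obtain ⟨i, hi, rfl⟩ := (hroots d).1 (pow_four_of_scalar (hS.det_one _ (y : N).2) hd)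
      exact ⟨⟨i, hi⟩, Subtype.ext (Subtype.ext (Units.ext ((hval i).trans hd.symm)))⟩
  have hquot : Nat.card (N ⧸ Subgroup.center N) = 16 := by
    let r : N ⧸ Subgroup.center N → MM := fun k => ((k.out : N) : GL (Fin 4) F)
    have htr : ∀ k j, k ≠ j → (((((j.out : N) : GL (Fin 4) F)⁻¹ : GL (Fin 4) F) : MM) * r k).trace = 0 := by
      intro k j hkj
      rw [← Units.val_mul]
      refine hS.trace_eq_zero (mul_mem (inv_mem (j.out : N).2) (k.out : N).2) fun hsc => hkj ?_
      have hmem : (j.out⁻¹ * k.out : N) ∈ Subgroup.center N := (hcentre _).2 hsc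
      have h := QuotientGroup.eq.2 hmem
      rw [QuotientGroup.out_eq', QuotientGroup.out_eq'] at h
      exact h.symm
    have hli : LinearIndependent F r := by
      refine Fintype.linearIndependent_iff.2 fun g hg j => ?_
      have h := congrArg (fun M => (((((j.out : N) : GL (Fin 4) F)⁻¹ : GL (Fin 4) F) : MM) * M).trace) hg
      simp only [Finset.mul_sum, Matrix.mul_smul, Matrix.trace_sum, Matrix.trace_smul, mul_zero,
        Matrix.trace_zero] at h
      rw [Finset.sum_eq_single j (fun k _ hk => by rw [htr k j hk, smul_zero]) (fun hj => absurd (Finset.mem_univ j) hj),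
        Units.inv_mul, Matrix.trace_one, Fintype.card_fin, smul_eq_mul] at h
      exact (mul_eq_zero.1 h).resolve_right (by exact_mod_cast hS.four_ne_zero')
    have hspan : Submodule.span F (Set.range r) = ⊤ := by
      rw [eq_top_iff]
      intro X _
      have hX : X ∈ Algebra.adjoin F (Cfsg.Geo.matrixSet N) :=
        SetLike.ext_iff.1 (TwoPrimeDim.top_of_absIrred habs) X |>.2 Algebra.mem_top
      rw [← Subalgebra.mem_toSubmodule, Algebra.adjoin_eq_span] at hX
      refine (Submodule.span_le.2 ?_) hX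
      intro Y hY
      obtain ⟨x, hx, rfl⟩ : Y ∈ Cfsg.Geo.matrixSet N := by
        induction hY using Submonoid.closure_induction with
        | mem y hy => exact hy
        | one => exact ⟨1, one_mem N, Units.val_one⟩
        | mul a b _ _ ha hb =>
          obtain ⟨u, hu, rfl⟩ := ha
          obtain ⟨v, hv, rfl⟩ := hb
          exact ⟨u * v, mul_mem hu hv, Units.val_mul _ _⟩
      set k : N ⧸ Subgroup.center N := QuotientGroup.mk ⟨x, hx⟩ with hk'
      obtain ⟨y, hy⟩ := QuotientGroup.mk_out_eq_mul (Subgroup.center N) ⟨x, hx⟩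
      obtain ⟨d, hd⟩ := (hcentre y).1 y.2
      have hd0 : d ≠ 0 := fun e => ((y : N) : GL (Fin 4) F).ne_zero (by rw [hd, e, zero_smul])
      have hrk : r k = d • (x : MM) := by
        show (((k.out : N) : GL (Fin 4) F) : MM) = _
        rw [hk', hy, Subgroup.coe_mul, Units.val_mul, hd, Matrix.mul_smul, Matrix.mul_one]
      rw [SetLike.mem_coe, show (fun g : GL (Fin 4) F => (g : MM)) x = d⁻¹ • r k by
        rw [hrk, smul_smul, inv_mul_cancel₀ hd0, one_smul]]
      exact Submodule.smul_mem _ _ (Submodule.subset_span ⟨k, rfl⟩)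
    have h := finrank_span_eq_card hli
    rw [hspan, finrank_top, Module.finrank_matrix, Fintype.card_fin, Module.finrank_self] at h
    rw [Nat.card_eq_fintype_card]
    omega
  have hcard : Nat.card N = 64 := by
    rw [Subgroup.card_eq_card_quotient_mul_card_subgroup (Subgroup.center N), hquot, hcard4]
  have hGU : ∀ g ∈ N, g ∈ Cfsg.GU 4 F q := fun g hg => (hH.1.le (hn.le hg)).1
  have hsc : ∀ x ∈ N, x * x ∈ Cfsg.Geo.scalars (Fin 4) F := fun x hx => by
    obtain ⟨w, -, hw⟩ := hS.sq x hx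
    exact mem_scalars_of_val (by rw [Units.val_mul]; exact hw)
  have hsymp : Cfsg.Geo.IsSymplecticTypeGroup 2 N := by
    refine ⟨Nat.prime_two, IsPGroup.of_card (n := 6) (by rw [hcard]; norm_num), fun A hA hAc => ?_, ?_⟩
    · have hconj : NormalIn H (A.map N.subtype) := by
        refine ⟨(Subgroup.map_subtype_le A).trans hn.le, ?_⟩
        rintro g hg _ ⟨a, ha, rfl⟩
        let ψ : N ≃* N :=
          { toFun := fun x => ⟨g * x * g⁻¹, hn.conj g hg x x.2⟩
            invFun := fun x => ⟨g⁻¹ * x * g⁻¹⁻¹, hn.conj g⁻¹ (inv_mem hg) x x.2⟩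
            left_inv := fun x => Subtype.ext (by simp [mul_assoc])
            right_inv := fun x => Subtype.ext (by simp [mul_assoc])
            map_mul' := fun x y => Subtype.ext (by simp [mul_assoc]) }
        exact ⟨ψ a, (Subgroup.characteristic_iff_map_eq.1 hA ψ) ▸ ⟨a, ha, rfl⟩, rfl⟩
      have hle : A.map N.subtype ≤ Cfsg.Geo.scalars (Fin 4) F := by
        rcases hmin _ hconj (Subgroup.map_subtype_le A) with h | h
        · exact h
        · exfalso
          refine hNZ fun x hx => ?_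
          obtain ⟨d, hd⟩ := habs.2 (x : MM) (by
            rintro _ ⟨y, hy, rfl⟩
            obtain ⟨a, ha, hax⟩ := (h.symm ▸ hx : x ∈ A.map N.subtype)
            obtain ⟨b, hb, hby⟩ := (h.symm ▸ hy : y ∈ A.map N.subtype)
            have := congrArg (fun w : A => (((w : N) : GL (Fin 4) F) : MM)) (hAc.is_comm.comm ⟨a, ha⟩ ⟨b, hb⟩)
            subst hax hby
            simpa using this)
          exact mem_scalars_of_val hd
      have hd : ∀ a : A, ∃ d : F, (((a : N) : GL (Fin 4) F) : MM) = d • (1 : MM) := fun a => by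
        obtain ⟨d, hd⟩ := (Cfsg.Geo.mem_scalars_iff _).1 (hle ⟨(a : N), a.2, rfl⟩)
        exact ⟨_, hd⟩
      choose δ hδ using hd
      exact isCyclic_of_subgroup_isDomain
        ({ toFun := δ
           map_one' := hinj1 (by rw [← hδ, one_smul]; rfl)
           map_mul' := fun a b => hinj1 (by
            rw [← hδ, Subgroup.coe_mul, Subgroup.coe_mul, Units.val_mul, hδ, hδ, Matrix.smul_mul, Matrix.one_mul,
              smul_smul]) } : A →* F)
        fun a b h => Subtype.ext (Subtype.ext (Units.ext (by rw [hδ, hδ]; exact congrArg (· • (1 : MM)) h)))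
    · have h4 : Monoid.exponent N ∣ 4 :=
        Monoid.exponent_dvd_of_forall_pow_eq_one fun x => Subtype.ext (by simpa using hS.pow_four hF x.2)
      have hne : ¬ Monoid.exponent N ∣ 2 := fun h => by
        have h1 := congrArg (fun g : N => ((g : GL (Fin 4) F) : MM))
          (Monoid.exponent_dvd_iff_forall_pow_eq_one.1 h ⟨z, hzN⟩)
        simp only [SubgroupClass.coe_pow, hval, OneMemClass.coe_one, Units.val_one] at h1
        have h3 : c ^ 2 = 1 := hinj1 (h1.trans (one_smul F (1 : MM)).symm)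
        exact h2 (by linear_combination hc2 - h3)
      show Monoid.exponent N = 2 * Nat.gcd 2 2
      obtain ⟨i, hi, he⟩ := (Nat.dvd_prime_pow Nat.prime_two).1 (show Monoid.exponent N ∣ 2 ^ 2 from h4)
      interval_cases i
      · exact absurd (he ▸ one_dvd _) hne
      · exact absurd (he ▸ dvd_refl _) hne
      · exact he
  refine Or.inr (Or.inr (Or.inr (Or.inr (Or.inr (Or.inr (Or.inr (Or.inr (Or.inl
    ⟨p, N, hpp, hpq.symm, hp4, hsymp, habs, fun g hg => ⟨1, fun u v => by rw [Units.val_one, one_mul]; exact hGU g hg u v⟩,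
      hcard, hcard4, eq_inf hH ?_ ?_⟩))))))))
  · intro g hg
    rw [Cfsg.Geo.subgroupNormalizer, Subgroup.mem_normalizer_iff]
    refine fun x => ⟨fun hx => hn.conj g hg x hx, fun hx => ?_⟩
    have h := hn.conj g⁻¹ (inv_mem hg) _ hx
    simpa [mul_assoc] using h
  · exact not_le_normalizer_of_card64 hF (by omega) habs hcard hcard4 hsc

end Cfsg.Agent.Lib.SUFour.Six
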