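import Cfsg.Agent.Lib.SUFour.Real
import Mathlib

/-! A pair of totally singular planes for `q ≤ 3` lies in a subfield group. -/

set_option autoImplicit false
set_option linter.unusedSectionVars false
set_option maxHeartbeats 1000000

open scoped Matrix MatrixGroups

namespace Cfsg.Agent.Lib.SUFour

open UnitPrimeDim Module

variable {F : Type*} [Field F] [Fintype F] {q : ℕ}

local notation "hh" => Cfsg.hermForm 4 F q

theorem det_blocks {R : Type*} [CommRing R] (a b c d a' b' c' d' : R) :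
    Matrix.det !![a, b, 0, 0; c, d, 0, 0; 0, 0, a', b'; 0, 0, c', d'] = (a * d - b * c) * (a' * d' - b' * c') ∧
    Matrix.det !![0, 0, a, b; 0, 0, c, d; a', b', 0, 0; c', d', 0, 0] = (a * d - b * c) * (a' * d' - b' * c') := by
  constructor <;> simp [Matrix.det_succ_row_zero, Fin.sum_univ_succ, Fin.succAbove] <;> ring

theorem ti_small (hF : Fintype.card F = q ^ 2) (hq : q ≤ 3) {H : Subgroup (GL (Fin 4) F)}
    (hH : Cfsg.Geo.IsMaximalIn (UnitPrimeDim.omegaU 4 F q) H) {D : Fin 2 → Submodule F (Fin 4 → F)}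
    (hD : Cfsg.Geo.IsMDecomposition 2 D) (hts : ∀ i, Cfsg.Geo.IsTotallySingularFor (Cfsg.hermForm 4 F q) (D i))
    (hle : H ≤ Cfsg.Geo.decompositionStabilizer D) : Cases q H := by
  classical
  let σ : F →+* F := Classical.conjHom hF
  have hσ : ∀ x, σ x = x ^ q := fun x => Classical.conjHom_apply hF x
  have hσσ : ∀ x, σ (σ x) = x := fun x => Classical.conjHom_conjHom hF x
  have hsym : ∀ u v, σ (hh u v) = hh v u := fun u v => Classical.hermForm_conj hF u v
  have haddr : ∀ v x y, hh v (x + y) = hh v x + hh v y := fun v x y => by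
    rw [← hsym, herm_add_left, map_add, hsym, hsym]
  have hsmr : ∀ (c : F) x v, hh x (c • v) = σ c * hh x v := fun c x v => by rw [herm_smul_right, hσ]
  have hcover : ∀ v, ∃ a ∈ D 0, ∃ b ∈ D 1, a + b = v := fun v => by
    have htop : D 0 ⊔ D 1 = ⊤ := by
      rw [← hD.iSup_eq_top, ← Finset.sup_univ_eq_iSup]
      simp [Fin.univ_succ]
    exact Submodule.mem_sup.1 (htop ▸ Submodule.mem_top : v ∈ D 0 ⊔ D 1)
  -- dual bases
  let be : Basis (Fin 2) F (D 0) := Module.finBasisOfFinrankEq F _ (hD.finrank_eq 0)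
  let e : Fin 2 → Fin 4 → F := fun i => (be i : Fin 4 → F)
  have he : ∀ i, e i ∈ D 0 := fun i => (be i).2
  have hbe : ∀ u (hu : u ∈ D 0), u = be.repr ⟨u, hu⟩ 0 • e 0 + be.repr ⟨u, hu⟩ 1 • e 1 := fun u hu => by
    have := congrArg Subtype.val (be.sum_repr ⟨u, hu⟩)
    rw [Fin.sum_univ_two] at this
    exact this.symm
  let L : D 1 →ₗ[F] (Fin 2 → F) :=
    { toFun := fun y i => hh y (e i)
      map_add' := fun x y => funext fun i => herm_add_left _ _ _
      map_smul' := fun c x => funext fun i => herm_smul_left _ _ _ }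
  have hLinj : Function.Injective L := (injective_iff_map_eq_zero L).2 fun y hy => by
    refine Subtype.ext (herm_nondeg hF (v := (y : Fin 4 → F)) fun x => ?_)
    obtain ⟨a, ha, b, hb, rfl⟩ := hcover x
    have h0 : ∀ i, hh (e i) y = 0 := fun i => herm_eq_zero_symm hF (congrFun hy i)
    rw [herm_add_left, hts 1 b hb y y.2, add_zero, hbe a ha, herm_add_left, herm_smul_left, herm_smul_left, h0, h0]
    ring
  let Le : D 1 ≃ₗ[F] (Fin 2 → F) := LinearEquiv.ofBijective L ⟨hLinj,
    (LinearMap.injective_iff_surjective_of_finrank_eq_finrank (by rw [hD.finrank_eq, Module.finrank_fin_fun])).1 hLinj⟩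
  let f : Fin 2 → Fin 4 → F := fun j => (Le.symm (Pi.single j 1) : Fin 4 → F)
  have hf : ∀ j, f j ∈ D 1 := fun j => (Le.symm _).2
  have hfe : ∀ j i, hh (f j) (e i) = if i = j then 1 else 0 := fun j i => by
    have h := congrFun (Le.apply_symm_apply (Pi.single j 1)) i
    rw [Pi.single_apply] at h
    exact h
  have hef : ∀ i j, hh (e i) (f j) = if i = j then 1 else 0 := fun i j => by
    rw [← hsym, hfe]; split_ifs <;> simp
  have hee : ∀ i j, hh (e i) (e j) = 0 := fun i j => hts 0 _ (he i) _ (he j)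
  have hff : ∀ i j, hh (f i) (f j) = 0 := fun i j => hts 1 _ (hf i) _ (hf j)
  -- coordinates
  have hxD : ∀ u ∈ D 0, u = hh u (f 0) • e 0 + hh u (f 1) • e 1 := by
    intro u hu
    have h := hbe u hu
    generalize be.repr ⟨u, hu⟩ 0 = c0, be.repr ⟨u, hu⟩ 1 = c1 at h
    subst h
    simp [herm_add_left, herm_smul_left, hef]
  have hyD : ∀ u ∈ D 1, u = hh u (e 0) • f 0 + hh u (e 1) • f 1 := by
    intro u hu
    have h : (⟨u, hu⟩ : D 1) = hh u (e 0) • Le.symm (Pi.single 0 1) + hh u (e 1) • Le.symm (Pi.single 1 1) := by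
      refine Le.injective (funext fun i => ?_)
      rw [map_add, map_smul, map_smul, Le.apply_symm_apply, Le.apply_symm_apply]
      show hh u (e i) = _
      fin_cases i <;> simp
    exact congrArg Subtype.val h
  have hdec : ∀ v, v = hh v (f 0) • e 0 + hh v (f 1) • e 1 + (hh v (e 0) • f 0 + hh v (e 1) • f 1) := by
    intro v
    obtain ⟨a, ha, b, hb, rfl⟩ := hcover v
    simp only [herm_add_left, hts 0 a ha _ (he _), hts 1 b hb _ (hf _), add_zero, zero_add]
    rw [← hxD a ha, ← hyD b hb]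
  -- the semilinear map
  obtain ⟨s, hs⟩ : ∃ s, σ s ≠ s := by
    by_contra h
    exact Classical.conjHom_ne_id hF (RingHom.ext fun a => not_not.1 fun ha => h ⟨a, ha⟩)
  let σe : F ≃+* F := RingEquiv.ofBijective σ ⟨σ.injective, Finite.surjective_of_injective σ.injective⟩
  obtain ⟨a, -, ha⟩ := Cfsg.Agent.Lib.PrimeDim.FormDescent.exists_norm σe
    (fun e' => hs (show σe s = s by rw [e']; rfl))
    (fun x => hσσ x) (show (-1 : F) ≠ 0 from neg_ne_zero.2 one_ne_zero) (show σ (-1) = -1 by simp)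
  have ha' : a * σ a = -1 := ha
  let J : (Fin 4 → F) → (Fin 4 → F) := fun v =>
    a • ((σ (hh v (e 1))) • e 0 + (-σ (hh v (e 0))) • e 1 + ((σ (hh v (f 1))) • f 0 + (-σ (hh v (f 0))) • f 1))
  have hcoord : ∀ (c0 c1 d0 d1 : F),
      let w := c0 • e 0 + c1 • e 1 + (d0 • f 0 + d1 • f 1)
      hh w (f 0) = c0 ∧ hh w (f 1) = c1 ∧ hh w (e 0) = d0 ∧ hh w (e 1) = d1 := by
    intro c0 c1 d0 d1
    simp [herm_add_left, herm_smul_left, hef, hfe, hee, hff]
  have hJc : ∀ v, hh (J v) (f 0) = a * σ (hh v (e 1)) ∧ hh (J v) (f 1) = -(a * σ (hh v (e 0))) ∧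
      hh (J v) (e 0) = a * σ (hh v (f 1)) ∧ hh (J v) (e 1) = -(a * σ (hh v (f 0))) := fun v => by
    obtain ⟨h1, h2, h3, h4⟩ := hcoord (σ (hh v (e 1))) (-σ (hh v (e 0))) (σ (hh v (f 1))) (-σ (hh v (f 0)))
    simp only [J, herm_smul_left, h1, h2, h3, h4, mul_neg, and_self]
  have hpair : ∀ z v, hh z v = hh z (f 0) * σ (hh v (e 0)) + hh z (f 1) * σ (hh v (e 1)) +
      (hh z (e 0) * σ (hh v (f 0)) + hh z (e 1) * σ (hh v (f 1))) := by
    intro z v
    conv_lhs => rw [hdec v]
    simp only [haddr, hsmr]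
    ring
  -- the alternating form attached to the decomposition
  let B : (Fin 4 → F) → (Fin 4 → F) → F := fun z v =>
    hh z (f 0) * hh v (f 1) - hh z (f 1) * hh v (f 0) + (hh z (e 0) * hh v (e 1) - hh z (e 1) * hh v (e 0))
  have hJB : ∀ z v, hh z (J v) = σ a * B z v := by
    intro z v
    obtain ⟨h1, h2, h3, h4⟩ := hJc v
    rw [hpair, h1, h2, h3, h4]
    simp only [B, map_mul, map_neg, hσσ]
    ring
  refine real_structure hF hH (-1) J ?_ ?_ ?_ ?_ ?_ (Or.inr ⟨rfl, fun u hu => ?_⟩)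
  · intro x y
    simp only [J, herm_add_left, map_add]
    module
  · intro c x
    simp only [J, herm_smul_left, map_mul, ← hσ]
    module
  · intro x
    obtain ⟨h1, h2, h3, h4⟩ := hJc x
    show a • _ = x
    rw [h1, h2, h3, h4]
    conv_rhs => rw [hdec x]
    simp only [map_mul, map_neg, hσσ, smul_add, smul_smul, neg_smul, smul_neg, neg_neg, ← mul_assoc, ha',
      neg_one_mul]
  · intro v w
    obtain ⟨h1, h2, h3, h4⟩ := hJc v
    obtain ⟨k1, k2, k3, k4⟩ := hJc w
    rw [hpair (J v) (J w), h1, h2, h3, h4, k1, k2, k3, k4, ← hσ, hpair v w]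
    simp only [map_mul, map_neg, map_add, hσσ]
    linear_combination (σ (hh v (e 1)) * hh w (f 1) + σ (hh v (e 0)) * hh w (f 0) +
      (σ (hh v (f 1)) * hh w (e 1) + σ (hh v (f 0)) * hh w (e 0))) * ha'
  · intro g hg
    obtain ⟨hgU, hgS⟩ := hH.1.le hg
    set k : GL (Fin 4) F := g⁻¹ with hk
    obtain ⟨hkU, hkS⟩ := hH.1.le (H.inv_mem hg)
    have hiso : ∀ u v, hh (ac k u) (ac k v) = hh u v := hkU
    obtain ⟨π, hπ⟩ := hle (H.inv_mem hg)
    have hmove : ∀ i u, u ∈ D i → ac k u ∈ D (π i) := fun i u hu => by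
      rw [← hπ i]
      exact ⟨u, hu, Matrix.toLin'_apply _ _⟩
    have hkx : ∀ v u, hh (ac g v) u = hh v (ac k u) := fun v u => by
      rw [← hiso (ac g v) u, hk, ac_inv_ac]
    have hN : ∀ (N : Matrix (Fin 4) (Fin 4) F) (b : Fin 4 → Fin 4 → F), b = ![e 0, e 1, f 0, f 1] →
        (∀ i, ac k (b i) = ∑ j, N i j • b j) → N.det = 1 := by
      intro N b hb hrow
      let R : Matrix (Fin 4) (Fin 4) F := Matrix.of b
      have hR : R.det ≠ 0 := fun h0 => by
        obtain ⟨z, hz0, hz⟩ := Matrix.exists_vecMul_eq_zero_iff.2 h0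
        refine hz0 ?_
        have hz' : z 0 • e 0 + z 1 • e 1 + (z 2 • f 0 + z 3 • f 1) = 0 := by
          refine Eq.trans ?_ hz
          funext l
          simp [Matrix.vecMul, dotProduct, Fin.sum_univ_four, R, hb]
          ring
        obtain ⟨h1, h2, h3, h4⟩ := hcoord (z 0) (z 1) (z 2) (z 3)
        rw [hz'] at h1 h2 h3 h4
        have h00 : ∀ w, hh (0 : Fin 4 → F) w = 0 := fun w => by simp [Cfsg.hermForm]
        rw [h00] at h1 h2 h3 h4
        funext i
        fin_cases i <;> simp [← h1, ← h2, ← h3, ← h4]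
      have heq : R * (k : Matrix (Fin 4) (Fin 4) F)ᵀ = N * R := by
        refine Matrix.ext fun i l => ?_
        have h := congrFun (hrow i) l
        simp only [Finset.sum_apply, Pi.smul_apply, smul_eq_mul] at h
        rw [Matrix.mul_apply, Matrix.mul_apply]
        show ∑ j, b i j * (k : Matrix (Fin 4) (Fin 4) F) l j = ∑ j, N i j * b j l
        rw [← h]
        exact Finset.sum_congr rfl fun j _ => mul_comm _ _
      have hd := congrArg Matrix.det heq
      rw [Matrix.det_mul, Matrix.det_mul, Matrix.det_transpose, show (k : Matrix (Fin 4) (Fin 4) F).det = 1 from congrArg Units.val hkS,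
        mul_one] at hd
      exact mul_right_cancel₀ hR (hd.symm.trans (one_mul _).symm)
    -- the determinant of a block lies in the fixed field
    have hscal : ∀ c00 c01 c10 c11 d00 d01 d10 d11 : F,
        (∀ i j, hh (ac k (e i)) (ac k (f j)) = if i = j then 1 else 0) →
        d00 * σ c00 + d01 * σ c01 = 1 → d00 * σ c10 + d01 * σ c11 = 0 → d10 * σ c00 + d11 * σ c01 = 0 →
        d10 * σ c10 + d11 * σ c11 = 1 → (d00 * d11 - d01 * d10) * (c00 * c11 - c01 * c10) = 1 →
        σ (c00 * c11 - c01 * c10) = c00 * c11 - c01 * c10 ∧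
          σ (d00 * d11 - d01 * d10) = c00 * c11 - c01 * c10 := by
      intro c00 c01 c10 c11 d00 d01 d10 d11 _ p1 p2 p3 p4 hdet
      set m := c00 * c11 - c01 * c10 with hm
      set m' := d00 * d11 - d01 * d10 with hm'
      have h1 : m' * σ m = 1 := by
        simp only [hm, hm', map_sub, map_mul]
        linear_combination (d10 * σ c10 + d11 * σ c11) * p1 + p4 - (d10 * σ c00 + d11 * σ c01) * p2
      have hm0 : m' ≠ 0 := left_ne_zero_of_mul_eq_one h1
      have h2 : σ m = m := mul_left_cancel₀ hm0 (h1.trans hdet.symm)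
      refine ⟨h2, ?_⟩
      have hne : m ≠ 0 := right_ne_zero_of_mul_eq_one hdet
      have hq2 : 2 ≤ q := Classical.two_le_q hF
      have hmm : m * m = 1 := by
        rw [hσ] at h2
        rcases (by omega : q = 2 ∨ q = 3) with rfl | rfl
        · have : m = 1 := mul_left_cancel₀ hne (by rw [mul_one, ← pow_two]; exact h2)
          rw [this, one_mul]
        · exact mul_left_cancel₀ hne (by rw [mul_one]; linear_combination h2)
      have h3 : m' = m := mul_right_cancel₀ hne (hdet.trans hmm.symm)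
      rw [h3]; exact h2
    have hke : ∀ i j, hh (ac k (e i)) (ac k (f j)) = if i = j then 1 else 0 := fun i j => by rw [hiso, hef]
    suffices hB : ∃ m : F, ∀ z v, B (ac g z) (ac g v) = m * B z v by
      obtain ⟨m, hm⟩ := hB
      refine ⟨σ m, fun v => ?_⟩
      refine sub_eq_zero.1 (herm_nondeg hF (v := J (ac g v) - σ m • ac g (J v)) fun u => ?_)
      obtain ⟨z, rfl⟩ : ∃ z, ac g z = u := ⟨ac g⁻¹ u, ac_ac_inv g u⟩
      rw [sub_eq_add_neg, haddr, ← neg_one_smul F (σ m • ac g (J v)), hsmr (-1), hsmr (σ m),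
        hJB, hm, hkx z (ac g (J v)),
        hk, ac_inv_ac, hJB, hσσ, map_neg, map_one]
      ring
    by_cases hπ0 : π 0 = 0
    · have hπ1 : π 1 = 1 := by
        have : π 1 ≠ π 0 := π.injective.ne (by decide)
        rw [hπ0] at this
        omega
      have hk0 : ∀ i, ac k (e i) ∈ D 0 := fun i => hπ0 ▸ hmove 0 _ (he i)
      have hk1 : ∀ i, ac k (f i) ∈ D 1 := fun i => hπ1 ▸ hmove 1 _ (hf i)
      have E0 := hxD _ (hk0 0)
      have E1 := hxD _ (hk0 1)
      have F0 := hyD _ (hk1 0)
      have F1 := hyD _ (hk1 1)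
      generalize hh (ac k (e 0)) (f 0) = d00, hh (ac k (e 0)) (f 1) = d01 at E0
      generalize hh (ac k (e 1)) (f 0) = d10, hh (ac k (e 1)) (f 1) = d11 at E1
      generalize hh (ac k (f 0)) (e 0) = c00, hh (ac k (f 0)) (e 1) = c01 at F0
      generalize hh (ac k (f 1)) (e 0) = c10, hh (ac k (f 1)) (e 1) = c11 at F1
      have hdet := hN !![d00, d01, 0, 0; d10, d11, 0, 0; 0, 0, c00, c01; 0, 0, c10, c11] _ rfl fun i => by
        fin_cases i <;> simp [Fin.sum_univ_four, E0, E1, F0, F1]
      rw [(det_blocks _ _ _ _ _ _ _ _).1] at hdet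
      have p := fun i j => hke i j
      obtain ⟨s1, s2⟩ := hscal c00 c01 c10 c11 d00 d01 d10 d11 hke
        (by have := p 0 0; simpa [E0, F0, herm_add_left, herm_smul_left, haddr, hsmr, hef, mul_comm] using this)
        (by have := p 0 1; simpa [E0, F1, herm_add_left, herm_smul_left, haddr, hsmr, hef, mul_comm] using this)
        (by have := p 1 0; simpa [E1, F0, herm_add_left, herm_smul_left, haddr, hsmr, hef, mul_comm] using this)
        (by have := p 1 1; simpa [E1, F1, herm_add_left, herm_smul_left, haddr, hsmr, hef, mul_comm] using this)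
        hdet
      refine ⟨c00 * c11 - c01 * c10, fun z v => ?_⟩
      simp only [B, hkx, E0, E1, F0, F1, haddr, hsmr]
      rw [map_sub, map_mul, map_mul] at s1 s2
      linear_combination (hh z (f 0) * hh v (f 1) - hh z (f 1) * hh v (f 0)) * s1 +
        (hh z (e 0) * hh v (e 1) - hh z (e 1) * hh v (e 0)) * s2
    · have hπ0' : π 0 = 1 := by omega
      have hπ1 : π 1 = 0 := by
        have : π 1 ≠ π 0 := π.injective.ne (by decide)
        rw [hπ0'] at this
        omega
      have hk0 : ∀ i, ac k (e i) ∈ D 1 := fun i => hπ0' ▸ hmove 0 _ (he i)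
      have hk1 : ∀ i, ac k (f i) ∈ D 0 := fun i => hπ1 ▸ hmove 1 _ (hf i)
      have E0 := hyD _ (hk0 0)
      have E1 := hyD _ (hk0 1)
      have F0 := hxD _ (hk1 0)
      have F1 := hxD _ (hk1 1)
      generalize hh (ac k (e 0)) (e 0) = d00, hh (ac k (e 0)) (e 1) = d01 at E0
      generalize hh (ac k (e 1)) (e 0) = d10, hh (ac k (e 1)) (e 1) = d11 at E1
      generalize hh (ac k (f 0)) (f 0) = c00, hh (ac k (f 0)) (f 1) = c01 at F0
      generalize hh (ac k (f 1)) (f 0) = c10, hh (ac k (f 1)) (f 1) = c11 at F1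
      have hdet := hN !![0, 0, d00, d01; 0, 0, d10, d11; c00, c01, 0, 0; c10, c11, 0, 0] _ rfl fun i => by
        fin_cases i <;> simp [Fin.sum_univ_four, E0, E1, F0, F1]
      rw [(det_blocks _ _ _ _ _ _ _ _).2] at hdet
      have p := fun i j => hke i j
      obtain ⟨s1, s2⟩ := hscal c00 c01 c10 c11 d00 d01 d10 d11 hke
        (by have := p 0 0; simpa [E0, F0, herm_add_left, herm_smul_left, haddr, hsmr, hfe, mul_comm] using this)
        (by have := p 0 1; simpa [E0, F1, herm_add_left, herm_smul_left, haddr, hsmr, hfe, mul_comm] using this)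
        (by have := p 1 0; simpa [E1, F0, herm_add_left, herm_smul_left, haddr, hsmr, hfe, mul_comm] using this)
        (by have := p 1 1; simpa [E1, F1, herm_add_left, herm_smul_left, haddr, hsmr, hfe, mul_comm] using this)
        hdet
      refine ⟨c00 * c11 - c01 * c10, fun z v => ?_⟩
      simp only [B, hkx, E0, E1, F0, F1, haddr, hsmr]
      rw [map_sub, map_mul, map_mul] at s1 s2
      linear_combination (hh z (e 0) * hh v (e 1) - hh z (e 1) * hh v (e 0)) * s1 +
        (hh z (f 0) * hh v (f 1) - hh z (f 1) * hh v (f 0)) * s2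
  · have h := hJB u u
    rw [hu] at h
    rw [h]
    simp only [B]
    ring

end Cfsg.Agent.Lib.SUFour
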