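import Cfsg.Agent.Lib.SUFour.Defs
import Cfsg.Agent.Lib.UnitTwoPrime.Tensor

/-! A tensor decomposition of the Hermitian form into two planes gives a conjugate-linear involution. -/

set_option autoImplicit false
set_option linter.unusedSectionVars false
set_option linter.unusedSimpArgs false

open scoped Matrix MatrixGroups Kronecker

namespace Cfsg.Agent.Lib.SUFour

open Matrix
open Cfsg.Geo (formOfGram gramMatrix)
open Cfsg.Agent.Lib.UnitTwoPrime (Herm)

variable {F : Type*} [Field F] [Fintype F]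

/-- The symplectic matrix of order two, inverted. -/
def eps' (F : Type*) [Field F] : Matrix (Fin 2) (Fin 2) F := !![0, -1; 1, 0]

theorem mulVec_conj {m : Type*} [Fintype m] (σ : F →+* F) (M : Matrix m m F) (x : m → F) :
    σ ∘ (M *ᵥ x) = M.map σ *ᵥ (σ ∘ x) := by
  funext i
  simp [Matrix.mulVec, dotProduct, map_sum, Matrix.map_apply]

/-- The three identities of the adjugate matrix of a Hermitian plane. -/
theorem plane_identities (σ : F →+* F) (hσσ : ∀ x, σ (σ x) = x) (G : Matrix (Fin 2) (Fin 2) F)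
    (hG : ∀ i j, G j i = σ (G i j)) :
    let C : Matrix (Fin 2) (Fin 2) F := eps' F * G
    σ G.det = G.det ∧ C * C.map σ = -G.det • (1 : Matrix (Fin 2) (Fin 2) F) ∧
      Cᵀ * G * C.map σ = G.det • G.map σ ∧ G * C.map σ = G.det • eps' F := by
  intro C
  have e01 : σ (G 0 1) = G 1 0 := (hG 0 1).symm
  have e10 : σ (G 1 0) = G 0 1 := (hG 1 0).symm
  have e00 : σ (G 0 0) = G 0 0 := (hG 0 0).symm
  have e11 : σ (G 1 1) = G 1 1 := (hG 1 1).symm
  refine ⟨?_, ?_, ?_, ?_⟩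
  · rw [Matrix.det_fin_two, map_sub, map_mul, map_mul, e00, e01, e10, e11]; ring
  all_goals
    ext i j
    fin_cases i <;> fin_cases j <;>
      simp [C, eps', Matrix.vecMul, dotProduct, Matrix.mul_apply, Fin.sum_univ_two, Matrix.det_fin_two, Matrix.map_apply, e00, e01, e10, e11] <;>
      ring

/-- A similitude of a Hermitian plane commutes with the semilinear map up to a scalar. -/
theorem plane_similitude (σ : F →+* F) (G : Matrix (Fin 2) (Fin 2) F) {a : Matrix (Fin 2) (Fin 2) F}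
    (ha : a.det ≠ 0) {l : F} (h : aᵀ * G * a.map σ = l • G) :
    eps' F * G * a.map σ = (l / a.det) • (a * (eps' F * G)) := by
  have e : a * eps' F * aᵀ = a.det • eps' F := by
    ext i j
    fin_cases i <;> fin_cases j <;>
      simp [eps', Matrix.mul_apply, Fin.sum_univ_two, Matrix.det_fin_two] <;> ring
  calc eps' F * G * a.map σ = a.det⁻¹ • ((a.det • eps' F) * G * a.map σ) := by
        rw [Matrix.smul_mul, Matrix.smul_mul, smul_smul, inv_mul_cancel₀ ha, one_smul]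
    _ = a.det⁻¹ • (a * eps' F * (aᵀ * G * a.map σ)) := by rw [← e]; simp only [Matrix.mul_assoc]
    _ = (l / a.det) • (a * (eps' F * G)) := by
        rw [h, Matrix.mul_smul, smul_smul, Matrix.mul_assoc, inv_mul_eq_div]

theorem kronecker_map {m n : Type*} (σ : F →+* F) (A : Matrix m m F) (B : Matrix n n F) :
    (A ⊗ₖ B).map σ = A.map σ ⊗ₖ B.map σ := by
  ext p r
  simp

theorem kronecker_transpose {m n : Type*} (A : Matrix m m F) (B : Matrix n n F) :
    (A ⊗ₖ B)ᵀ = Aᵀ ⊗ₖ Bᵀ := by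
  ext p r
  simp

theorem eq_smul_of_kronecker {m n : Type*} {A A' : Matrix m m F} {B B' : Matrix n n F} {k l : n}
    (hB : B k l ≠ 0) (h : A ⊗ₖ B = A' ⊗ₖ B') : A = (B' k l / B k l) • A' := by
  ext i j
  have e := congrFun (congrFun h (i, k)) (j, l)
  simp only [Matrix.kroneckerMap_apply] at e
  rw [Matrix.smul_apply, smul_eq_mul, div_mul_eq_mul_div, eq_div_iff hB]
  linear_combination e

theorem formOfGram_mulVec {m : Type} [Fintype m] (σ : F →+* F) (G K : Matrix m m F) (x y : m → F) :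
    formOfGram σ G (K *ᵥ x) (K *ᵥ y) = formOfGram σ (Kᵀ * G * K.map σ) x y := by
  rw [UnitTwoPrime.formOfGram_eq, UnitTwoPrime.formOfGram_eq, mulVec_conj, ← Matrix.vecMul_transpose,
    ← Matrix.dotProduct_mulVec, Matrix.mulVec_mulVec, Matrix.mulVec_mulVec]

theorem tensor_J {F : Type*} [Field F] [Fintype F] {q : ℕ} (hF : Fintype.card F = q ^ 2) {e : Fin 4 ≃ Fin 2 × Fin 2}
    {P : GL (Fin 4) F} {f₁ f₂ : (Fin 2 → F) → (Fin 2 → F) → F} (h₁ : Cfsg.Geo.IsUnitaryFormPow q f₁)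
    (h₂ : Cfsg.Geo.IsUnitaryFormPow q f₂)
    (hs : Cfsg.Geo.IsTensorFormStructure (fun x : F => x ^ q) (Cfsg.hermForm 4 F q) f₁ f₂ e P) :
    ∃ J : (Fin 4 → F) → (Fin 4 → F), (∀ x y, J (x + y) = J x + J y) ∧ (∀ (c : F) x, J (c • x) = c ^ q • J x) ∧
      (∀ x, J (J x) = x) ∧ (∀ v w, Cfsg.hermForm 4 F q (J v) (J w) = (Cfsg.hermForm 4 F q v w) ^ q) ∧
      (¬ Odd q → ∀ u, J u = u → Cfsg.hermForm 4 F q u u = 0) ∧
      ∀ g ∈ Cfsg.Geo.tensorProductSubgroup 2 2 e P, g ∈ Cfsg.GU 4 F q → ∃ μ : F, ∀ v, J (ac g v) = μ • ac g (J v) := by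
  classical
  obtain ⟨σ, hσeq⟩ : ∃ σ : F →+* F, σ = Geometry.frobQ hF := ⟨_, rfl⟩
  have hσ : ∀ x, σ x = x ^ q := fun x => by rw [hσeq, Geometry.frobQ_apply]
  have hσσ : ∀ x, σ (σ x) = x := fun x => by rw [hσeq]; exact Geometry.frobQ_frobQ hF x
  have hH : Herm σ (Cfsg.hermForm 4 F q) := hσeq ▸ UnitTwoPrime.herm_hermForm hF
  have g₁ : Herm σ f₁ := hσeq ▸ UnitTwoPrime.herm_of_pow hF h₁
  have g₂ : Herm σ f₂ := hσeq ▸ UnitTwoPrime.herm_of_pow hF h₂
  obtain ⟨c, hc, hform⟩ := hs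
  rw [show (fun x : F => x ^ q) = ⇑σ from funext fun x => (hσ x).symm] at hform
  set G₁ := gramMatrix f₁ with hG₁
  set G₂ := gramMatrix f₂ with hG₂
  have hherm : ∀ {f : (Fin 2 → F) → (Fin 2 → F) → F}, Herm σ f → ∀ i j, gramMatrix f j i = σ (gramMatrix f i j) :=
    fun hf i j => hf.herm _ _
  have hdet : ∀ {f : (Fin 2 → F) → (Fin 2 → F) → F}, Herm σ f → (gramMatrix f).det ≠ 0 := by
    intro f hf h0
    obtain ⟨v, hv, hv0⟩ := Matrix.exists_mulVec_eq_zero_iff.mpr h0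
    have hv' : (σ ∘ v) ≠ 0 := fun h => hv (funext fun i => σ.injective ((congrFun h i).trans (map_zero σ).symm))
    obtain ⟨⟨x, hx⟩, -⟩ := hf.nondegenerate _ hv'
    apply hx
    rw [hf.eq_formOfGram, UnitTwoPrime.formOfGram_eq, show σ ∘ σ ∘ v = v from funext fun i => hσσ (v i), hv0,
      dotProduct_zero]
  obtain ⟨hd1, hC1, hI1, hA1⟩ := plane_identities σ hσσ G₁ (hherm g₁)
  obtain ⟨hd2, hC2, hI2, hA2⟩ := plane_identities σ hσσ G₂ (hherm g₂)
  set C₁ := eps' F * G₁ with hC₁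
  set C₂ := eps' F * G₂ with hC₂
  set C : Matrix (Fin 2 × Fin 2) (Fin 2 × Fin 2) F := C₁ ⊗ₖ C₂ with hC
  set G : Matrix (Fin 2 × Fin 2) (Fin 2 × Fin 2) F := G₁ ⊗ₖ G₂ with hG
  set d := G₁.det * G₂.det with hd
  have hd0 : d ≠ 0 := mul_ne_zero (hdet g₁) (hdet g₂)
  have hdσ : σ d = d := by rw [hd, map_mul, hd1, hd2]
  obtain ⟨a, ha⟩ : ∃ a : F, a * σ a = d⁻¹ := by
    obtain ⟨a, ha⟩ := Geometry.exists_mul_conj_eq (Classical.conjHom_ne_id hF) (Classical.conjHom_conjHom hF)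
      (s := d⁻¹) (by rw [Classical.conjHom_apply, ← hσ, map_inv₀, hdσ])
    exact ⟨a, by rw [hσ, ← Classical.conjHom_apply hF, mul_comm]; exact ha⟩
  have hCC : C * C.map σ = d • (1 : Matrix (Fin 2 × Fin 2) (Fin 2 × Fin 2) F) := by
    rw [hC, kronecker_map, ← Matrix.mul_kronecker_mul, hC1, hC2, Matrix.smul_kronecker, Matrix.kronecker_smul,
      Matrix.one_kronecker_one, smul_smul, hd, neg_mul_neg]
  have hCG : Cᵀ * G * C.map σ = d • G.map σ := by
    rw [hC, hG, kronecker_transpose, kronecker_map, kronecker_map, ← Matrix.mul_kronecker_mul,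
      ← Matrix.mul_kronecker_mul, hI1, hI2, Matrix.smul_kronecker, Matrix.kronecker_smul, smul_smul, hd]
  -- coordinates
  let T : (Fin 2 × Fin 2 → F) → (Fin 4 → F) := fun x => (P : Matrix (Fin 4) (Fin 4) F) *ᵥ (x ∘ e)
  let S : (Fin 4 → F) → (Fin 2 × Fin 2 → F) := fun v => (((P⁻¹ : GL (Fin 4) F) : Matrix (Fin 4) (Fin 4) F) *ᵥ v) ∘ e.symm
  have hTS : ∀ v, T (S v) = v := fun v => by
    show (P : Matrix (Fin 4) (Fin 4) F) *ᵥ (((((P⁻¹ : GL (Fin 4) F) : Matrix (Fin 4) (Fin 4) F) *ᵥ v) ∘ e.symm) ∘ e) = v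
    rw [Function.comp_assoc, Equiv.symm_comp_self, Function.comp_id, Matrix.mulVec_mulVec, ← Units.val_mul,
      mul_inv_cancel, Units.val_one, Matrix.one_mulVec]
  have hST : ∀ x, S (T x) = x := fun x => by
    show (((P⁻¹ : GL (Fin 4) F) : Matrix (Fin 4) (Fin 4) F) *ᵥ ((P : Matrix (Fin 4) (Fin 4) F) *ᵥ (x ∘ e))) ∘ e.symm = x
    rw [Matrix.mulVec_mulVec, ← Units.val_mul, inv_mul_cancel, Units.val_one, Matrix.one_mulVec, Function.comp_assoc,
      Equiv.self_comp_symm, Function.comp_id]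
  have hTadd : ∀ x y, T (x + y) = T x + T y := fun x y => by
    show _ *ᵥ ((x + y) ∘ e) = _
    rw [show (x + y) ∘ e = x ∘ e + y ∘ e from rfl, Matrix.mulVec_add]
  have hTsmul : ∀ (k : F) x, T (k • x) = k • T x := fun k x => by
    show _ *ᵥ ((k • x) ∘ e) = _
    rw [show (k • x) ∘ e = k • (x ∘ e) from rfl, Matrix.mulVec_smul]
  have hSadd : ∀ x y, S (x + y) = S x + S y := fun x y => by
    show (_ *ᵥ (x + y)) ∘ e.symm = _
    rw [Matrix.mulVec_add]; rfl
  have hSsmul : ∀ (k : F) x, S (k • x) = k • S x := fun k x => by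
    show (_ *ᵥ (k • x)) ∘ e.symm = _
    rw [Matrix.mulVec_smul]; rfl
  let J₀ : (Fin 2 × Fin 2 → F) → (Fin 2 × Fin 2 → F) := fun x => a • C *ᵥ (σ ∘ x)
  let J : (Fin 4 → F) → (Fin 4 → F) := fun v => T (J₀ (S v))
  have hJT : ∀ x, J (T x) = T (J₀ x) := fun x => by simp only [J, hST]
  have hh : ∀ x y, Cfsg.hermForm 4 F q (T x) (T y) = c * formOfGram σ G x y := fun x y => hform x y
  have hfsmul : ∀ (M : Matrix (Fin 2 × Fin 2) (Fin 2 × Fin 2) F) (k : F) x y,
      formOfGram σ (k • M) x y = k * formOfGram σ M x y := fun M k x y => by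
    rw [UnitTwoPrime.formOfGram_eq, UnitTwoPrime.formOfGram_eq, Matrix.smul_mulVec, dotProduct_smul, smul_eq_mul]
  have hσc : σ c = c := by
    obtain ⟨p, r, hpr⟩ : ∃ p r, G p r ≠ 0 := by
      by_contra hcon
      push Not at hcon
      have h1 : G.det = 0 := Matrix.det_eq_zero_of_row_eq_zero ((0 : Fin 2), (0 : Fin 2)) (hcon _)
      rw [hG, Matrix.det_kronecker] at h1
      simp only [mul_eq_zero, pow_eq_zero_iff'] at h1
      rcases h1 with ⟨h, -⟩ | ⟨h, -⟩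
      exacts [hdet g₁ h, hdet g₂ h]
    have hG' : G r p = σ (G p r) := by
      show G₁ r.1 p.1 * G₂ r.2 p.2 = σ (G₁ p.1 r.1 * G₂ p.2 r.2)
      rw [map_mul, ← hherm g₁, ← hherm g₂]
    have e1 := hH.herm (T (Pi.single r 1)) (T (Pi.single p 1))
    rw [hh, hh, map_mul] at e1
    have hentry : ∀ i j, formOfGram σ G (Pi.single i 1) (Pi.single j 1) = G i j := fun i j => by
      have := congrFun (congrFun (UnitTwoPrime.gram_formOfGram σ G) i) j
      exact this
    rw [hentry, hentry, hG'] at e1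
    exact (mul_right_cancel₀ (fun h0 => hpr (σ.injective (h0.trans (map_zero σ).symm))) e1).symm
  refine ⟨J, fun x y => ?_, fun k x => ?_, fun v => ?_, fun v w => ?_, fun hq u hu => ?_, fun g hg hgU => ?_⟩
  · show T (a • C *ᵥ (σ ∘ S (x + y))) = _
    rw [hSadd, show σ ∘ (S x + S y) = σ ∘ S x + σ ∘ S y from funext fun i => map_add σ _ _, Matrix.mulVec_add,
      smul_add, hTadd]
  · show T (a • C *ᵥ (σ ∘ S (k • x))) = _
    rw [hSsmul, show σ ∘ (k • S x) = σ k • (σ ∘ S x) from funext fun i => map_mul σ _ _, Matrix.mulVec_smul,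
      smul_comm, hTsmul, hσ]
  · rw [show J v = T (J₀ (S v)) from rfl, hJT]
    conv_rhs => rw [← hTS v]
    congr 1
    show a • C *ᵥ (σ ∘ (a • C *ᵥ (σ ∘ S v))) = S v
    rw [show σ ∘ (a • C *ᵥ (σ ∘ S v)) = σ a • (σ ∘ (C *ᵥ (σ ∘ S v))) from funext fun i => map_mul σ _ _, mulVec_conj,
      show σ ∘ σ ∘ S v = S v from funext fun i => hσσ _, Matrix.mulVec_smul, smul_smul, Matrix.mulVec_mulVec, hCC,
      Matrix.smul_mulVec, Matrix.one_mulVec, smul_smul, ha, inv_mul_cancel₀ hd0, one_smul]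
  · conv_rhs => rw [← hTS v, ← hTS w, hh, ← hσ, map_mul, hσc]
    rw [show J v = T (J₀ (S v)) from rfl, show J w = T (J₀ (S w)) from rfl, hh]
    congr 1
    show formOfGram σ G (a • C *ᵥ (σ ∘ S v)) (a • C *ᵥ (σ ∘ S w)) = _
    rw [show a • C *ᵥ (σ ∘ S v) = (a • C) *ᵥ (σ ∘ S v) from (Matrix.smul_mulVec a C _).symm,
      show a • C *ᵥ (σ ∘ S w) = (a • C) *ᵥ (σ ∘ S w) from (Matrix.smul_mulVec a C _).symm, formOfGram_mulVec]
    have e2 : (a • C)ᵀ * G * (a • C).map σ = G.map σ := by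
      rw [Matrix.transpose_smul, show (a • C).map σ = σ a • C.map σ from Matrix.ext fun i j => map_mul σ _ _,
        Matrix.smul_mul, Matrix.smul_mul, Matrix.mul_smul, smul_smul, hCG, smul_smul, ha, inv_mul_cancel₀ hd0, one_smul]
    rw [e2]
    simp only [formOfGram, map_sum, map_mul, Matrix.map_apply, Function.comp_apply]
  · have h2 : (2 : F) = 0 := by
      by_contra h2
      have hodd : Fintype.card F % 2 = 1 := FiniteField.odd_card_of_char_ne_two fun hc => h2 (by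
        haveI := ringChar.of_eq hc
        exact CharTwo.two_eq_zero)
      rw [hF, ← Nat.odd_iff, Nat.odd_pow_iff (by norm_num)] at hodd
      exact hq hodd
    have hx : S u = a • C *ᵥ (σ ∘ S u) := by
      conv_lhs => rw [← hu]
      exact hST _
    generalize hxdef : S u = x at hx
    rw [← hTS u, hxdef, hh]
    refine mul_eq_zero_of_right _ ?_
    rw [UnitTwoPrime.formOfGram_eq]
    have hσx : σ ∘ x = σ a • (C.map σ *ᵥ x) := by
      conv_lhs => rw [hx]
      rw [show σ ∘ (a • C *ᵥ (σ ∘ x)) = σ a • (σ ∘ (C *ᵥ (σ ∘ x))) from funext fun i => map_mul σ _ _, mulVec_conj,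
        show σ ∘ σ ∘ x = x from funext fun i => hσσ _]
    rw [hσx, Matrix.mulVec_smul, Matrix.mulVec_mulVec, hG, hC, kronecker_map, ← Matrix.mul_kronecker_mul, hA1, hA2,
      Matrix.smul_kronecker, Matrix.kronecker_smul, smul_smul, Matrix.smul_mulVec, dotProduct_smul, dotProduct_smul]
    have hz : x ⬝ᵥ ((eps' F ⊗ₖ eps' F) *ᵥ x) = 0 := by
      simp [eps', dotProduct, Matrix.mulVec, Fintype.sum_prod_type, Fin.sum_univ_two]
      linear_combination (x (0, 0) * x (1, 1) - x (0, 1) * x (1, 0)) * h2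
    rw [hz, smul_zero, smul_zero]
  · obtain ⟨_, ⟨K, ⟨A, B, hK⟩, rfl⟩, rfl⟩ := hg
    set g := (MulAut.conj P).toMonoidHom ((Cfsg.Geo.glReindex e.symm).toMonoidHom K) with hgdef
    have hgT : ∀ x, ac g (T x) = T ((K : Matrix (Fin 2 × Fin 2) (Fin 2 × Fin 2) F) *ᵥ x) := by
      intro x
      show (g : Matrix (Fin 4) (Fin 4) F) *ᵥ ((P : Matrix (Fin 4) (Fin 4) F) *ᵥ (x ∘ e)) = _
      rw [hgdef, MulEquiv.coe_toMonoidHom, MulAut.conj_apply, Units.val_mul, Units.val_mul, Matrix.mulVec_mulVec,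
        Matrix.mul_assoc, ← Units.val_mul P⁻¹ P, inv_mul_cancel, Units.val_one, Matrix.mul_one, ← Matrix.mulVec_mulVec]
      congr 1
      show (Matrix.reindex e.symm e.symm (K : Matrix (Fin 2 × Fin 2) (Fin 2 × Fin 2) F)) *ᵥ (x ∘ e) = _
      rw [Matrix.reindex_apply, Equiv.symm_symm, Matrix.submatrix_mulVec_equiv, Function.comp_assoc,
        Equiv.self_comp_symm, Function.comp_id]
    have hKG : (K : Matrix (Fin 2 × Fin 2) (Fin 2 × Fin 2) F)ᵀ * G *
        (K : Matrix (Fin 2 × Fin 2) (Fin 2 × Fin 2) F).map σ = G := by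
      ext p r
      have e1 := hgU (T (Pi.single p 1)) (T (Pi.single r 1))
      replace e1 : Cfsg.hermForm 4 F q (ac g (T (Pi.single p 1))) (ac g (T (Pi.single r 1))) =
          Cfsg.hermForm 4 F q (T (Pi.single p 1)) (T (Pi.single r 1)) := e1
      rw [hgT, hgT, hh, hh, formOfGram_mulVec] at e1
      have e2 := mul_left_cancel₀ hc e1
      have hentry : ∀ M : Matrix (Fin 2 × Fin 2) (Fin 2 × Fin 2) F,
          formOfGram σ M (Pi.single p 1) (Pi.single r 1) = M p r := fun M =>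
        congrFun (congrFun (UnitTwoPrime.gram_formOfGram σ M) p) r
      rwa [hentry, hentry] at e2
    rw [hK, hG, kronecker_transpose, kronecker_map, ← Matrix.mul_kronecker_mul, ← Matrix.mul_kronecker_mul] at hKG
    set X₁ := (A : Matrix (Fin 2) (Fin 2) F)ᵀ * G₁ * (A : Matrix (Fin 2) (Fin 2) F).map σ with hX₁
    set X₂ := (B : Matrix (Fin 2) (Fin 2) F)ᵀ * G₂ * (B : Matrix (Fin 2) (Fin 2) F).map σ with hX₂
    have hdA : (A : Matrix (Fin 2) (Fin 2) F).det ≠ 0 := ((Matrix.isUnit_iff_isUnit_det _).mp A.isUnit).ne_zero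
    have hdB : (B : Matrix (Fin 2) (Fin 2) F).det ≠ 0 := ((Matrix.isUnit_iff_isUnit_det _).mp B.isUnit).ne_zero
    have hnz : ∀ {M : Matrix (Fin 2) (Fin 2) F}, M.det ≠ 0 → ∃ i j, M i j ≠ 0 := by
      intro M hM
      by_contra hcon
      push Not at hcon
      exact hM (Matrix.det_eq_zero_of_row_eq_zero 0 (hcon 0))
    have hdX : ∀ {M N : Matrix (Fin 2) (Fin 2) F}, M.det ≠ 0 → N.det ≠ 0 → (Mᵀ * N * M.map σ).det ≠ 0 := by
      intro M N hM hN
      rw [Matrix.det_mul, Matrix.det_mul, Matrix.det_transpose, ← RingHom.mapMatrix_apply, ← RingHom.map_det]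
      exact mul_ne_zero (mul_ne_zero hM hN) (fun h0 => hM (σ.injective (h0.trans (map_zero σ).symm)))
    obtain ⟨k, l, hkl⟩ := hnz (hdX hdB (hdet g₂))
    have hA := eq_smul_of_kronecker hkl hKG
    obtain ⟨i, j, hij⟩ := hnz (hdX hdA (hdet g₁))
    have hB : X₂ = (G₁ i j / X₁ i j) • G₂ := by
      ext k' l'
      have e1 := congrFun (congrFun hKG (i, k')) (j, l')
      simp only [Matrix.kroneckerMap_apply] at e1
      rw [Matrix.smul_apply, smul_eq_mul, div_mul_eq_mul_div, eq_div_iff hij]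
      linear_combination e1
    have e1 := plane_similitude σ G₁ hdA hA
    have e2 := plane_similitude σ G₂ hdB hB
    rw [← hC₁] at e1
    rw [← hC₂] at e2
    obtain ⟨μ, hμ⟩ : ∃ μ : F, C * (K : Matrix (Fin 2 × Fin 2) (Fin 2 × Fin 2) F).map σ =
        μ • ((K : Matrix (Fin 2 × Fin 2) (Fin 2 × Fin 2) F) * C) := by
      obtain ⟨r1, e1⟩ : ∃ r1 : F, C₁ * (A : Matrix (Fin 2) (Fin 2) F).map σ = r1 • ((A : Matrix (Fin 2) (Fin 2) F) * C₁) := ⟨_, e1⟩
      obtain ⟨r2, e2⟩ : ∃ r2 : F, C₂ * (B : Matrix (Fin 2) (Fin 2) F).map σ = r2 • ((B : Matrix (Fin 2) (Fin 2) F) * C₂) := ⟨_, e2⟩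
      refine ⟨r1 * r2, ?_⟩
      rw [hK, hC, kronecker_map, ← Matrix.mul_kronecker_mul, e1, e2, Matrix.smul_kronecker, Matrix.kronecker_smul,
        smul_smul, Matrix.mul_kronecker_mul]
    refine ⟨μ, fun v => ?_⟩
    conv_lhs => rw [← hTS v, hgT, hJT]
    rw [show J v = T (J₀ (S v)) from rfl, hgT, ← hTsmul]
    congr 1
    show a • C *ᵥ (σ ∘ ((K : Matrix (Fin 2 × Fin 2) (Fin 2 × Fin 2) F) *ᵥ S v)) = _
    rw [mulVec_conj, Matrix.mulVec_mulVec, hμ, Matrix.smul_mulVec, ← Matrix.mulVec_mulVec, smul_comm,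
      show J₀ (S v) = a • C *ᵥ (σ ∘ S v) from rfl, Matrix.mulVec_smul]

end Cfsg.Agent.Lib.SUFour
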