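import Cfsg.Agent.Lib.SUFour.LinesThree
import Cfsg.Agent.Lib.SUFour.TISmall
import Cfsg.Agent.Lib.SUFour.TensorJ
import Cfsg.Agent.Lib.SUFour.SixCases

/-! The maximal subgroups of `SU_4(q)`. -/

set_option autoImplicit false
set_option linter.unusedSectionVars false

open scoped Matrix MatrixGroups commutatorElement

namespace Cfsg.Agent.Lib.SUFour

variable {F : Type*} [Field F] [Fintype F] {q : ℕ}

theorem planes_out (hF : Fintype.card F = q ^ 2) {H : Subgroup (GL (Fin 4) F)}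
    (hH : Cfsg.Geo.IsMaximalIn (UnitPrimeDim.omegaU 4 F q) H) {D : Fin 2 → Submodule F (Fin 4 → F)}
    (hD : Cfsg.Geo.IsNondegenerateMDecomposition (Cfsg.hermForm 4 F q) 2 D)
    (hle : H ≤ Cfsg.Geo.decompositionStabilizer D) : Cases q H := by
  by_cases h3 : 3 ≤ q
  · exact Or.inr (Or.inr (Or.inr (Or.inl ⟨h3, D, hD,
      eq_inf hH hle (not_le_decompositionStabilizer hF hD.decomp)⟩)))
  · have hq : q = 2 := by have := Classical.two_le_q hF; omega
    obtain ⟨E, hE, hDE⟩ := UnitTwoPrime.decomposition_two_le_lines hF hq hD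
    exact Or.inr (Or.inr (Or.inl ⟨by omega, E, hE,
      eq_inf hH ((le_inf hle (hH.1.le.trans inf_le_left)).trans hDE) (not_le_decompositionStabilizer hF hE.decomp)⟩))

theorem decomposition_out (hF : Fintype.card F = q ^ 2) {H : Subgroup (GL (Fin 4) F)}
    (hH : Cfsg.Geo.IsMaximalIn (UnitPrimeDim.omegaU 4 F q) H) {t m : ℕ} {D : Fin t → Submodule F (Fin 4 → F)}
    (hD : Cfsg.Geo.IsNondegenerateMDecomposition (Cfsg.hermForm 4 F q) m D) (htm : t * m = 4)
    (hle : H ≤ Cfsg.Geo.decompositionStabilizer D) : Cases q H := by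
  have h2 := hD.decomp.two_le
  have hm := hD.decomp.pos
  rcases (show (t = 4 ∧ m = 1) ∨ (t = 2 ∧ m = 2) by
      have h4 : t ≤ 4 := by nlinarith
      interval_cases t <;> omega) with ⟨rfl, rfl⟩ | ⟨rfl, rfl⟩
  · by_cases hq : q = 3
    · exact lines_three hF hq hH hD hle
    · exact Or.inr (Or.inr (Or.inl ⟨hq, D, hD, eq_inf hH hle (not_le_decompositionStabilizer hF hD.decomp)⟩))
  · exact planes_out hF hH hD hle

theorem ti_out (hF : Fintype.card F = q ^ 2) {H : Subgroup (GL (Fin 4) F)}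
    (hH : Cfsg.Geo.IsMaximalIn (UnitPrimeDim.omegaU 4 F q) H) {D : Fin 2 → Submodule F (Fin 4 → F)}
    (hD : Cfsg.Geo.IsMDecomposition 2 D) (hts : ∀ i, Cfsg.Geo.IsTotallySingularFor (Cfsg.hermForm 4 F q) (D i))
    (hle : H ≤ Cfsg.Geo.decompositionStabilizer D) : Cases q H := by
  by_cases hq : 4 ≤ q
  · exact Or.inr (Or.inr (Or.inr (Or.inr (Or.inl ⟨hq, D, hD, hts,
      eq_inf hH hle (not_le_decompositionStabilizer hF hD)⟩))))
  · exact ti_small hF (by omega) hH hD hts hle

/-- a perfect irreducible group lies in no decomposition stabiliser -/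
theorem not_le_of_perfect {N : Subgroup (GL (Fin 4) F)} (hirr : Cfsg.Geo.ActsIrreducibly (Cfsg.Geo.matrixSet N))
    (hperf : ⁅N, N⁆ = N) {t m : ℕ} {D : Fin t → Submodule F (Fin 4 → F)} (hD : Cfsg.Geo.IsMDecomposition m D) :
    ¬ N ≤ Cfsg.Geo.decompositionStabilizer D := by
  intro hle
  let i : Fin t := ⟨0, by have := hD.two_le; omega⟩
  have hfr := hD.finrank_eq i
  have h4 := decomposition_card_le hD
  have h2 := hD.two_le
  have hp := hD.pos
  rcases irreducible_iff.1 hirr _ (fixes_of_perfect hperf hD hle i) with e | e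
  · rw [e, finrank_bot] at hfr; omega
  · rw [e, finrank_top, Module.finrank_fin_fun] at hfr
    subst hfr
    omega

theorem cases_of_maximal (hF : Fintype.card F = q ^ 2) {H : Subgroup (GL (Fin 4) F)}
    (hH : Cfsg.Geo.IsMaximalIn (UnitPrimeDim.omegaU 4 F q) H) : Cases q H := by
  classical
  have hHU : H ≤ Cfsg.GU 4 F q := hH.1.le.trans inf_le_left
  by_cases hirr : Cfsg.Geo.ActsIrreducibly (Cfsg.Geo.matrixSet H)
  swap
  · obtain ⟨W, hW, h0, h1⟩ : ∃ W, Inv H W ∧ W ≠ ⊥ ∧ W ≠ ⊤ := by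
      rw [irreducible_iff] at hirr
      push Not at hirr
      exact hirr
    rcases UnitMax.reducible hF (by norm_num) hH h0 h1 hW with h | h | ⟨m, D, hm, hD, hle⟩
    · exact Or.inl h
    · exact Or.inr (Or.inl h)
    · obtain rfl : m = 2 := by omega
      exact planes_out hF hH hD hle
  have hHZ : ¬ H ≤ Cfsg.Geo.scalars (Fin 4) F := by
    intro hle
    set v : Fin 4 → F := Pi.single 0 1 with hv
    have hv0 : v ≠ 0 := by simp [hv]
    rcases irreducible_iff.1 hirr (Submodule.span F {v}) (fun g hg w hw => by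
        obtain ⟨c, hc⟩ := (Cfsg.Geo.mem_scalars_iff g).1 (hle hg)
        show (g : Matrix (Fin 4) (Fin 4) F) *ᵥ w ∈ _
        rw [hc, Matrix.smul_mulVec, Matrix.one_mulVec]
        exact Submodule.smul_mem _ _ hw) with e | e
    · exact hv0 (by simpa using e)
    · have h1 := finrank_span_singleton (K := F) hv0
      rw [e, finrank_top, Module.finrank_fin_fun] at h1
      omega
  obtain ⟨N, hn, hNZ, hmin⟩ := exists_minimal hHZ
  by_cases habs : Cfsg.Geo.ActsAbsolutelyIrreducibly (Cfsg.Geo.matrixSet N)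
  swap
  · rcases clifford hF hHU hirr hn hNZ habs with
      ⟨t, m, D, hD, htm, hle⟩ | ⟨D, hD, hts, hle⟩ | ⟨e, P, f₁, f₂, h₁, h₂, hs, hle⟩
    · exact decomposition_out hF hH hD htm hle
    · exact ti_out hF hH hD hts hle
    · obtain ⟨J, ha, hsm, hJJ, hh, hfix, hg⟩ := tensor_J hF h₁ h₂ hs
      by_cases hodd : Odd q
      · exact real_structure hF hH 1 J ha hsm hJJ (fun v w => by rw [one_mul]; exact hh v w)
          (fun g h => hg g (hle h) (hHU h)) (Or.inl ⟨rfl, hodd⟩)
      · have h2 : (2 : F) = 0 := by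
          by_contra hne
          apply hodd
          obtain ⟨p, hp⟩ := CharP.exists F
          obtain ⟨n, hpp, hn'⟩ := FiniteField.card F p
          haveI := hp
          rcases hpp.eq_two_or_odd' with h | h
          · subst h
            exact absurd (by exact_mod_cast CharP.cast_eq_zero F 2) hne
          · have : Odd (q ^ 2) := by rw [← hF, hn']; exact h.pow
            exact (Nat.odd_pow_iff two_ne_zero).1 this
        have h11 : (-1 : F) = 1 := by linear_combination -h2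
        exact real_structure hF hH (-1) J ha hsm hJJ (fun v w => by rw [h11, one_mul]; exact hh v w)
          (fun g h => hg g (hle h) (hHU h)) (Or.inr ⟨rfl, hfix hodd⟩)
  rcases hmin _ (normalIn_commutator hn) (Subgroup.commutator_le.2 fun a ha b hb =>
      mul_mem (mul_mem (mul_mem ha hb) (inv_mem ha)) (inv_mem hb)) with hcomm | hperf
  · exact Six.class_six hF hH hn hNZ habs hcomm hmin
  by_cases hex : ∃ M, NormalIn N M ∧ ¬ M ≤ Cfsg.Geo.scalars (Fin 4) F ∧ M ≠ N
  swap
  · push Not at hex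
    exact residual_out hF hH hn hNZ habs hperf fun M hM => by
      by_cases h : M ≤ Cfsg.Geo.scalars (Fin 4) F
      · exact Or.inl h
      · exact Or.inr (hex M hM h)
  obtain ⟨T, hT, hTZ, hTabs⟩ := exists_inner hn hmin hNZ hperf hex
  rcases clifford hF (hn.le.trans hHU) habs.1 hT hTZ hTabs with
    ⟨t, m, D, hD, -, hle⟩ | ⟨D, hD, -, hle⟩ | ⟨e, P, f₁, f₂, h₁, h₂, hs, hle⟩
  · exact absurd hle (not_le_of_perfect habs.1 hperf hD.decomp)
  · exact absurd hle (not_le_of_perfect habs.1 hperf hD)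
  obtain ⟨J, ha, hsm, hJJ, -, -, hg⟩ := tensor_J hF h₁ h₂ hs
  have hμ : ∀ g ∈ N, ∃ μ : F, ∀ v, J (ac g v) = μ • ac g (J v) := fun g h => hg g (hle h) (hHU (hn.le h))
  have hne : ∃ v, J v ≠ 0 := by
    obtain ⟨v, hv⟩ := exists_ne (0 : Fin 4 → F)
    exact ⟨J v, by rwa [hJJ]⟩
  refine semilinear_out hF hH hn habs ha hsm ?_ hne
  obtain ⟨v₀, hv₀⟩ := hne
  have hμ0 : ∀ (g : GL (Fin 4) F) {μ : F}, (∀ v, J (ac g v) = μ • ac g (J v)) → μ ≠ 0 := fun g μ h e => hv₀ (by
    have h1 := h (ac g⁻¹ v₀)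
    rwa [e, zero_smul, ac_ac_inv] at h1)
  intro g hgN
  rw [← hperf, Subgroup.commutator_def] at hgN
  induction hgN using Subgroup.closure_induction with
  | mem x hx =>
    obtain ⟨a, haN, b, hbN, rfl⟩ := hx
    obtain ⟨α, hα⟩ := hμ a haN
    obtain ⟨β, hβ⟩ := hμ b hbN
    have hmv : ∀ (g : GL (Fin 4) F) (c : F) (v : Fin 4 → F), ac g (c • v) = c • ac g v :=
      fun g c v => Matrix.mulVec_smul _ _ _
    have hinv : ∀ (g : GL (Fin 4) F) (μ : F), (∀ v, J (ac g v) = μ • ac g (J v)) →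
        ∀ v, J (ac g⁻¹ v) = μ⁻¹ • ac g⁻¹ (J v) := fun g μ h v => by
      have h1 := h (ac g⁻¹ v)
      rw [ac_ac_inv] at h1
      rw [h1, hmv, ac_inv_ac, smul_smul, inv_mul_cancel₀ (hμ0 g h), one_smul]
    intro v
    rw [commutatorElement_def]
    simp only [ac_mul, hα, hβ, hinv a α hα, hinv b β hβ, hmv, smul_smul]
    rw [show α * (β * (α⁻¹ * β⁻¹)) = 1 by field_simp [hμ0 a hα, hμ0 b hβ], one_smul]
  | one => intro v; simp [ac]
  | mul x y _ _ hx hy => intro v; rw [ac_mul, ac_mul, hx, hy]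
  | inv x _ hx =>
    intro v
    have h1 := hx (ac x⁻¹ v)
    rw [ac_ac_inv] at h1
    rw [h1, ac_inv_ac]

end Cfsg.Agent.Lib.SUFour
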