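import Cfsg.Agent.Lib.SUFour.Defs

/-! A frame for an absolutely irreducible group of `4 × 4` matrices with squares and commutators `±1`. -/

set_option autoImplicit false
set_option linter.unusedSectionVars false

open scoped Matrix MatrixGroups

namespace Cfsg.Agent.Lib.SUFour.PauliFrame

variable {F : Type*} [Field F]

local notation "M4" => Matrix (Fin 4) (Fin 4) F
local notation "G4" => GL (Fin 4) F

/-- translation by `t` on `Fin 4` as the Klein group -/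
def tr (t i : Fin 4) : Fin 4 := ![![0, 1, 2, 3], ![1, 0, 3, 2], ![2, 3, 0, 1], ![3, 2, 1, 0]] t i

/-- the characters of the Klein group -/
def sg (s i : Fin 4) : Bool :=
  ![![true, true, true, true], ![true, false, true, false], ![true, true, false, false],
    ![true, false, false, true]] s i

/-- the value of a character -/
def chi (F : Type*) [Field F] (s i : Fin 4) : F := if sg s i then 1 else -1

/-- the standard monomial matrices -/
def W (F : Type*) [Field F] (t s : Fin 4) : Matrix (Fin 4) (Fin 4) F :=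
  Matrix.of fun i j => if i = tr t j then chi F s j else 0

lemma tr_self (i : Fin 4) : tr i i = 0 := by revert i; decide
lemma tr_tr (t i : Fin 4) : tr t (tr t i) = i := by revert t i; decide
lemma tr_zero (t : Fin 4) : tr t 0 = t := by revert t; decide
lemma zero_tr (i : Fin 4) : tr 0 i = i := by revert i; decide
lemma sg_zero (s : Fin 4) : sg s 0 = true := by revert s; decide
lemma sg_ext : ∀ a b : Fin 4, sg 1 a = sg 1 b → sg 2 a = sg 2 b → a = b := by decide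
lemma sg_inj : ∀ s s' : Fin 4, (∀ j, sg s j = sg s' j) → s = s' := by decide

lemma chi_sq (s i : Fin 4) : chi F s i * chi F s i = 1 := by unfold chi; split_ifs <;> ring
lemma chi_inj (h2 : (2 : F) ≠ 0) {s s' i j : Fin 4} (h : chi F s i = chi F s' j) : sg s i = sg s' j := by
  have h1 : (1 : F) ≠ -1 := fun e => h2 (by linear_combination e)
  unfold chi at h
  cases hs : sg s i <;> cases hs' : sg s' j <;> simp_all

lemma W_apply_chi (t s j : Fin 4) : W F t s (tr t j) j = chi F s j := by simp [W]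

lemma W_zero : W F 0 0 = 1 := by
  ext i j; fin_cases i <;> fin_cases j <;> simp [W, tr, chi, sg, Matrix.one_apply]

lemma W_split (t s : Fin 4) : W F t 0 * W F 0 s = W F t s := by
  ext i j
  rw [Matrix.mul_apply, Finset.sum_eq_single j (fun k _ hk => by simp [W, zero_tr, hk]) (by simp)]
  have h0 : ∀ k, chi F 0 k = 1 := fun k => by unfold chi; fin_cases k <;> simp [sg]
  simp [W, zero_tr, h0]

lemma W_three_zero : W F 1 0 * W F 2 0 = W F 3 0 := by
  ext i j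
  fin_cases i <;> fin_cases j <;> simp [W, tr, chi, sg, Matrix.mul_apply, Fin.sum_univ_four]

lemma W_zero_three : W F 0 1 * W F 0 2 = W F 0 3 := by
  ext i j
  fin_cases i <;> fin_cases j <;> simp [W, tr, chi, sg, Matrix.mul_apply, Fin.sum_univ_four]

/-- The commutant of the monomial generators is scalar. -/
theorem W_commutant (h2 : (2 : F) ≠ 0) {X : Matrix (Fin 4) (Fin 4) F} (x1 : W F 0 1 * X = X * W F 0 1)
    (x2 : W F 0 2 * X = X * W F 0 2) (x3 : W F 1 0 * X = X * W F 1 0) (x4 : W F 2 0 * X = X * W F 2 0) :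
    X = X 0 0 • 1 := by
  have chi0 : ∀ j, chi F 0 j = 1 := fun j => by fin_cases j <;> simp [chi, sg]
  have hoff : ∀ i j, i ≠ j → X i j = 0 := by
    intro i j hij
    have hs : ∀ s, W F 0 s * X = X * W F 0 s → chi F s i * X i j = X i j * chi F s j := by
      intro s hs
      have e := congrFun (congrFun hs i) j
      rw [Matrix.mul_apply, Matrix.mul_apply,
        Finset.sum_eq_single i (fun k _ hk => by simp [W, zero_tr, Ne.symm hk]) (by simp),
        Finset.sum_eq_single j (fun k _ hk => by simp [W, zero_tr, hk]) (by simp)] at e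
      simpa [W, zero_tr] using e
    by_contra hne
    refine hij (sg_ext i j (chi_inj h2 ?_) (chi_inj h2 ?_))
    · exact mul_right_cancel₀ hne ((hs 1 x1).trans (mul_comm _ _))
    · exact mul_right_cancel₀ hne ((hs 2 x2).trans (mul_comm _ _))
  have hdiag : ∀ t, W F t 0 * X = X * W F t 0 → ∀ j, X (tr t j) (tr t j) = X j j := by
    intro t ht j
    have e := congrFun (congrFun ht (tr t j)) j
    rw [Matrix.mul_apply, Matrix.mul_apply,
      Finset.sum_eq_single j (fun k _ hk => by rw [hoff k j hk, mul_zero]) (by simp),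
      Finset.sum_eq_single (tr t j) (fun k _ hk => by simp [W, hk]) (by simp)] at e
    simpa [W, chi0] using e.symm
  have h10 := hdiag 1 x3 0
  have h20 := hdiag 2 x4 0
  have h31 := hdiag 2 x4 1
  rw [tr_zero] at h10 h20
  have hXs : X = X 0 0 • 1 := by
    ext i j
    rcases eq_or_ne i j with rfl | hij
    · fin_cases i
      · simp
      · simpa using h10
      · simpa using h20
      · simpa [tr, h10] using h31
    · rw [hoff i j hij]; simp [hij]
  exact hXs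

/-- Hypotheses on the group. -/
structure Grp (R : Subgroup G4) (I : F) : Prop where
  two : (2 : F) ≠ 0
  I_sq : I * I = -1
  scal : ∃ z ∈ R, (z : M4) = I • 1
  sq : ∀ s ∈ R, (s : M4) * s = 1 ∨ (s : M4) * s = -1
  comm : ∀ s ∈ R, ∀ t ∈ R, (s : M4) * t = t * s ∨ (s : M4) * t = -((t : M4) * s)
  irr : Cfsg.Geo.ActsAbsolutelyIrreducibly (Cfsg.Geo.matrixSet R)

namespace Grp

variable {R : Subgroup (GL (Fin 4) F)} {I : F}

lemma I_ne (h : Grp R I) : I ≠ 0 := fun e => by simpa [e] using h.I_sq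

lemma scalar_of (h : Grp R I) (X : M4) (hX : ∀ s ∈ R, X * (s : M4) = (s : M4) * X) : ∃ c : F, X = c • 1 :=
  h.irr.2 X (by rintro _ ⟨s, hs, rfl⟩; exact hX s hs)

/-- scaling to square one -/
lemma norm_one (h : Grp R I) {x : G4} (hx : x ∈ R) :
    ∃ x' ∈ R, (x' : M4) * x' = 1 ∧ ∃ c : F, c ≠ 0 ∧ (x' : M4) = c • (x : M4) := by
  rcases h.sq x hx with e | e
  · exact ⟨x, hx, e, 1, one_ne_zero, (one_smul _ _).symm⟩
  · obtain ⟨z, hz, hzv⟩ := h.scal
    refine ⟨z * x, mul_mem hz hx, ?_, I, h.I_ne, by rw [Units.val_mul, hzv, smul_mul_assoc, one_mul]⟩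
    rw [Units.val_mul, hzv, smul_mul_assoc, one_mul, smul_mul_smul_comm, e, h.I_sq, smul_neg, neg_smul, one_smul,
      neg_neg]

/-- Multiplying by `b` makes `x` commute with `a`. -/
lemma kill (h : Grp R I) {a b x : G4} (ha : a ∈ R) (hb : b ∈ R) (hab : (a : M4) * b = -((b : M4) * a))
    (hbb : (b : M4) * b = 1) (hx : x ∈ R) :
    ∃ (e : Fin 2) (x' : G4), x' ∈ R ∧ (a : M4) * x' = (x' : M4) * a ∧ (x : M4) = (b : M4) ^ (e : ℕ) * x' ∧
      ∀ c : M4, c * (b : M4) = (b : M4) * c → c * (x : M4) = (x : M4) * c → c * (x' : M4) = (x' : M4) * c := by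
  rcases h.comm a ha x hx with e | e
  · exact ⟨0, x, hx, e, by simp, fun c _ h' => h'⟩
  · refine ⟨1, b * x, mul_mem hb hx, ?_, ?_, fun c h1 h' => ?_⟩
    · rw [Units.val_mul, ← mul_assoc, hab, neg_mul, mul_assoc, e, mul_neg, neg_neg, mul_assoc]
    · rw [Fin.val_one, pow_one, Units.val_mul, ← mul_assoc, hbb, one_mul]
    · rw [Units.val_mul, ← mul_assoc, h1, mul_assoc, h', mul_assoc]

/-- A non-scalar element anticommutes with some element. -/
lemma exists_anti (h : Grp R I) {s : G4} (hs : s ∈ R) (hns : ∀ c : F, (s : M4) ≠ c • 1) :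
    ∃ t ∈ R, (s : M4) * t = -((t : M4) * s) := by
  by_contra hno
  push Not at hno
  obtain ⟨c, hc⟩ := h.scalar_of _ fun t ht => (h.comm s hs t ht).resolve_right (hno t ht)
  exact hns c hc

lemma exists_quad (h : Grp R I) : ∃ u₁ v₁ u₂ v₂ : G4, u₁ ∈ R ∧ v₁ ∈ R ∧ u₂ ∈ R ∧ v₂ ∈ R ∧
    (u₁ : M4) * u₁ = 1 ∧ (v₁ : M4) * v₁ = 1 ∧ (u₂ : M4) * u₂ = 1 ∧ (v₂ : M4) * v₂ = 1 ∧
    (u₁ : M4) * v₁ = -((v₁ : M4) * u₁) ∧ (u₂ : M4) * v₂ = -((v₂ : M4) * u₂) ∧
    (u₁ : M4) * u₂ = (u₂ : M4) * u₁ ∧ (u₁ : M4) * v₂ = (v₂ : M4) * u₁ ∧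
    (v₁ : M4) * u₂ = (u₂ : M4) * v₁ ∧ (v₁ : M4) * v₂ = (v₂ : M4) * v₁ := by
  classical
  obtain ⟨x, hx, hxn⟩ : ∃ x ∈ R, ∀ c : F, (x : M4) ≠ c • 1 := by
    by_contra hno
    push Not at hno
    let W' : Submodule F (Fin 4 → F) := F ∙ (Pi.single 0 1 : Fin 4 → F)
    rcases h.irr.1 W' (by
      rintro _ ⟨s, hs, rfl⟩ _ ⟨w, hw, rfl⟩
      obtain ⟨c, hc⟩ := hno s hs
      rw [Matrix.toLin'_apply]
      show (s : M4) *ᵥ w ∈ W'
      rw [hc, Matrix.smul_mulVec, Matrix.one_mulVec]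
      exact W'.smul_mem c hw) with h0 | h0
    · simp [W'] at h0
    · have h1 : (Pi.single 1 1 : Fin 4 → F) ∈ W' := h0 ▸ Submodule.mem_top
      obtain ⟨c, hc⟩ := Submodule.mem_span_singleton.1 h1
      simpa using congrFun hc 1
  obtain ⟨u₁, hu, huu, c, hc, hux⟩ := h.norm_one hx
  have hun : ∀ d : F, (u₁ : M4) ≠ d • 1 := fun d e => hxn (c⁻¹ * d) (by
    rw [← smul_smul, ← e, hux, inv_smul_smul₀ hc])
  obtain ⟨y, hy, huy⟩ := h.exists_anti hu hun
  obtain ⟨v₁, hv, hvv, d, hd, hvy⟩ := h.norm_one hy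
  have huv : (u₁ : M4) * v₁ = -((v₁ : M4) * u₁) := by
    rw [hvy, mul_smul_comm, huy, smul_mul_assoc, smul_neg]
  by_cases hex : ∃ a ∈ R, ∃ b ∈ R, (u₁ : M4) * a = a * u₁ ∧ (v₁ : M4) * a = a * v₁ ∧
      (u₁ : M4) * b = b * u₁ ∧ (v₁ : M4) * b = b * v₁ ∧ (a : M4) * b = -((b : M4) * a)
  · obtain ⟨a, ha, b, hb, hua, hva, hub, hvb, hab⟩ := hex
    obtain ⟨u₂, hu2, hu22, k, hk, hu2a⟩ := h.norm_one ha
    obtain ⟨v₂, hv2, hv22, l, hl, hv2b⟩ := h.norm_one hb
    refine ⟨u₁, v₁, u₂, v₂, hu, hv, hu2, hv2, huu, hvv, hu22, hv22, huv, ?_, ?_, ?_, ?_, ?_⟩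
    · rw [hu2a, hv2b, smul_mul_smul_comm, hab, smul_mul_smul_comm, mul_comm k l, smul_neg]
    · rw [hu2a, mul_smul_comm, hua, smul_mul_assoc]
    · rw [hv2b, mul_smul_comm, hub, smul_mul_assoc]
    · rw [hu2a, mul_smul_comm, hva, smul_mul_assoc]
    · rw [hv2b, mul_smul_comm, hvb, smul_mul_assoc]
  exfalso
  push Not at hex
  have hvu : (v₁ : M4) * u₁ = -((u₁ : M4) * v₁) := by rw [huv, neg_neg]
  have word : ∀ g ∈ R, ∃ (i j : Fin 2) (g' : G4), g' ∈ R ∧ (u₁ : M4) * g' = g' * u₁ ∧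
      (v₁ : M4) * g' = g' * v₁ ∧ (g : M4) = (v₁ : M4) ^ (i : ℕ) * ((u₁ : M4) ^ (j : ℕ) * g') := by
    intro g hg
    obtain ⟨i, g₁, hg₁, e1, e2, -⟩ := h.kill hu hv huv hvv hg
    obtain ⟨j, g₂, hg₂, e3, e4, e5⟩ := h.kill hv hu hvu huu hg₁
    exact ⟨i, j, g₂, hg₂, e5 _ rfl e1, e3, by rw [e2, e4]⟩
  have hshort : ∀ g ∈ R, ∃ (i j : Fin 2) (k : F), (g : M4) = k • ((v₁ : M4) ^ (i : ℕ) * (u₁ : M4) ^ (j : ℕ)) := by
    intro g hg
    obtain ⟨i, j, g', hg', e1, e2, e3⟩ := word g hg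
    obtain ⟨k, hk⟩ := h.scalar_of (g' : M4) fun s hs => by
      obtain ⟨i', j', s', hs', f1, f2, f3⟩ := word s hs
      have c1 : Commute (g' : M4) (u₁ : M4) := e1.symm
      have c2 : Commute (g' : M4) (v₁ : M4) := e2.symm
      have c3 : Commute (g' : M4) (s' : M4) :=
        (h.comm g' hg' s' hs').resolve_right (hex g' hg' s' hs' e1 e2 f1 f2)
      rw [f3]
      exact ((c2.pow_right _).mul_right ((c1.pow_right _).mul_right c3)).eq
    exact ⟨i, j, k, by rw [e3, hk, mul_smul_comm, mul_smul_comm, mul_one]⟩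
  obtain ⟨w, hw0, huw⟩ : ∃ w : Fin 4 → F, w ≠ 0 ∧ (u₁ : M4) *ᵥ w = w := by
    by_contra hno
    push Not at hno
    have : ∀ w : Fin 4 → F, w + (u₁ : M4) *ᵥ w = 0 := fun w => by
      by_contra hne
      apply hno _ hne
      rw [Matrix.mulVec_add, Matrix.mulVec_mulVec, huu, Matrix.one_mulVec, add_comm]
    refine hun (-1) (Matrix.toLin'.injective (LinearMap.ext fun w => ?_))
    rw [Matrix.toLin'_apply, Matrix.toLin'_apply, Matrix.smul_mulVec, Matrix.one_mulVec, neg_one_smul]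
    exact eq_neg_of_add_eq_zero_right (this w)
  let W' : Submodule F (Fin 4 → F) := Submodule.span F (Set.range ![w, (v₁ : M4) *ᵥ w])
  have hwW : ∀ i : Fin 2, (v₁ : M4) ^ (i : ℕ) *ᵥ w ∈ W' := fun i => by
    fin_cases i
    · show (v₁ : M4) ^ 0 *ᵥ w ∈ W'
      rw [pow_zero, Matrix.one_mulVec]
      exact Submodule.subset_span ⟨0, rfl⟩
    · show (v₁ : M4) ^ 1 *ᵥ w ∈ W'
      rw [pow_one]
      exact Submodule.subset_span ⟨1, rfl⟩
  have huj : ∀ j : Fin 2, (u₁ : M4) ^ (j : ℕ) *ᵥ w = w := fun j => by fin_cases j <;> simp [huw]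
  rcases h.irr.1 W' (by
    rintro _ ⟨g, hg, rfl⟩
    rw [Submodule.map_span, Submodule.span_le]
    rintro _ ⟨_, ⟨m, rfl⟩, rfl⟩
    rw [Matrix.toLin'_apply]
    show (g : M4) *ᵥ (![w, (v₁ : M4) *ᵥ w] m) ∈ W'
    have key : ∀ g ∈ R, (g : M4) *ᵥ w ∈ W' := fun g hg => by
      obtain ⟨i, j, k, hk⟩ := hshort g hg
      rw [hk, Matrix.smul_mulVec, ← Matrix.mulVec_mulVec, huj]
      exact W'.smul_mem k (hwW i)
    fin_cases m
    · exact key g hg
    · simpa [Matrix.mulVec_mulVec] using key _ (mul_mem hg hv)) with h0 | h0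
  · exact hw0 ((Submodule.mem_bot F).1 (h0 ▸ (Submodule.subset_span ⟨0, rfl⟩ : w ∈ W')))
  · have h1 : Module.finrank F W' ≤ 2 :=
      le_trans (finrank_range_le_card (R := F) ![w, (v₁ : M4) *ᵥ w]) (by simp)
    rw [h0, finrank_top, Module.finrank_fintype_fun_eq_card, Fintype.card_fin] at h1
    omega

/-- The basis in which `R` is monomial. -/
theorem exists_frame (h : Grp R I) : ∃ P : G4,
    (∀ g ∈ R, ∃ k t s : Fin 4, ((P⁻¹ * g * P : G4) : M4) = I ^ (k : ℕ) • W F t s) ∧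
    (∀ k t s : Fin 4, ∃ g ∈ R, ((P⁻¹ * g * P : G4) : M4) = I ^ (k : ℕ) • W F t s) := by
  classical
  obtain ⟨u₁, v₁, u₂, v₂, hu1, hv1, hu2, hv2, su1, sv1, su2, sv2, auv1, auv2, cu, cuv, cvu, cv⟩ := h.exists_quad
  have avu1 : (v₁ : M4) * u₁ = -((u₁ : M4) * v₁) := by rw [auv1, neg_neg]
  have avu2 : (v₂ : M4) * u₂ = -((u₂ : M4) * v₂) := by rw [auv2, neg_neg]
  have hex : ∃ w, ((1 + (u₁ : M4)) * (1 + (u₂ : M4))) *ᵥ w ≠ 0 := by
    by_contra hno
    push Not at hno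
    have hE : (1 + (u₁ : M4)) * (1 + (u₂ : M4)) = 0 :=
      Matrix.toLin'.injective (LinearMap.ext fun w => by rw [Matrix.toLin'_apply, hno w]; simp)
    have h1 : (v₁ : M4) * ((1 + (u₁ : M4)) * (1 + (u₂ : M4))) * v₁ = 0 := by rw [hE, mul_zero, zero_mul]
    have h2' : (v₁ : M4) * ((1 + (u₁ : M4)) * (1 + (u₂ : M4))) * v₁ = (1 - (u₁ : M4)) * (1 + (u₂ : M4)) := by
      have e1 : (v₁ : M4) * (1 + (u₁ : M4)) = (1 - (u₁ : M4)) * v₁ := by
        rw [mul_add, mul_one, avu1, sub_mul, one_mul, sub_eq_add_neg]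
      have e2 : (1 + (u₂ : M4)) * v₁ = (v₁ : M4) * (1 + (u₂ : M4)) := by
        rw [add_mul, one_mul, mul_add, mul_one, cvu]
      rw [← mul_assoc, e1, mul_assoc, mul_assoc, e2, ← mul_assoc (v₁ : M4), sv1, one_mul]
    rw [h1] at h2'
    have h3 : (2 : F) • (1 + (u₂ : M4)) = 0 := by
      rw [two_smul]
      calc (1 + (u₂ : M4)) + (1 + (u₂ : M4))
          = (1 + (u₁ : M4)) * (1 + (u₂ : M4)) + (1 - (u₁ : M4)) * (1 + (u₂ : M4)) := by noncomm_ring
        _ = 0 := by rw [hE, ← h2', add_zero]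
    have h4 : (u₂ : M4) = -1 := eq_neg_of_add_eq_zero_right ((smul_eq_zero.1 h3).resolve_left h.two)
    rw [h4, neg_one_mul, mul_neg_one, neg_neg, neg_eq_iff_add_eq_zero, ← two_smul F (v₂ : M4)] at auv2
    exact v₂.ne_zero ((smul_eq_zero.1 auv2).resolve_left h.two)
  obtain ⟨w, hw⟩ := hex
  set e := ((1 + (u₁ : M4)) * (1 + (u₂ : M4))) *ᵥ w with he
  have he1 : (u₁ : M4) *ᵥ e = e := by
    rw [he, Matrix.mulVec_mulVec, ← mul_assoc]
    congr 2
    rw [mul_add, mul_one, su1, add_comm]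
  have he2 : (u₂ : M4) *ᵥ e = e := by
    rw [he, Matrix.mulVec_mulVec]
    congr 1
    calc (u₂ : M4) * ((1 + (u₁ : M4)) * (1 + (u₂ : M4))) = (1 + (u₁ : M4)) * ((u₂ : M4) * (1 + (u₂ : M4))) := by
          rw [← mul_assoc, ← mul_assoc,
            show (u₂ : M4) * (1 + (u₁ : M4)) = (1 + (u₁ : M4)) * u₂ by rw [mul_add, mul_one, add_mul, one_mul, cu]]
      _ = _ := by rw [mul_add (u₂ : M4), mul_one, su2, add_comm (u₂ : M4)]
  set b : Fin 4 → Fin 4 → F :=
    ![e, (v₁ : M4) *ᵥ e, (v₂ : M4) *ᵥ e, (v₁ : M4) *ᵥ ((v₂ : M4) *ᵥ e)] with hb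
  have mv : ∀ (A B : M4) (x : Fin 4 → F), A * B = -(B * A) → A *ᵥ (B *ᵥ x) = -(B *ᵥ (A *ᵥ x)) := by
    intro A B x hAB; rw [Matrix.mulVec_mulVec, hAB, Matrix.neg_mulVec, Matrix.mulVec_mulVec]
  have mc : ∀ (A B : M4) (x : Fin 4 → F), A * B = B * A → A *ᵥ (B *ᵥ x) = B *ᵥ (A *ᵥ x) := by
    intro A B x hAB; rw [Matrix.mulVec_mulVec, hAB, Matrix.mulVec_mulVec]
  have mo : ∀ (A : M4) (x : Fin 4 → F), A * A = 1 → A *ᵥ (A *ᵥ x) = x := by
    intro A x hA; rw [Matrix.mulVec_mulVec, hA, Matrix.one_mulVec]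
  have hU1 : ∀ j, (u₁ : M4) *ᵥ b j = chi F 1 j • b j := by
    intro j; fin_cases j <;>
      simp [hb, chi, sg, -Matrix.mulVec_mulVec, he1, mv _ _ _ auv1, mc _ _ _ cuv, Matrix.mulVec_neg]
  have hU2 : ∀ j, (u₂ : M4) *ᵥ b j = chi F 2 j • b j := by
    intro j; fin_cases j <;>
      simp [hb, chi, sg, -Matrix.mulVec_mulVec, he2, mv _ _ _ auv2, mc _ _ _ cvu.symm, Matrix.mulVec_neg]
  have hV1 : ∀ j, (v₁ : M4) *ᵥ b j = b (tr 1 j) := by
    intro j; fin_cases j <;> simp [hb, tr, -Matrix.mulVec_mulVec, mo _ _ sv1]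
  have hV2 : ∀ j, (v₂ : M4) *ᵥ b j = b (tr 2 j) := by
    intro j; fin_cases j <;> simp [hb, tr, -Matrix.mulVec_mulVec, mo _ _ sv2, mc _ _ _ cv.symm]
  have hne : ∀ j, b j ≠ 0 := by
    have h2 : b 2 ≠ 0 := by
      show (v₂ : M4) *ᵥ e ≠ 0
      intro h0
      apply hw
      rw [← mo _ e sv2, h0, Matrix.mulVec_zero]
    intro j
    fin_cases j
    · exact hw
    · show (v₁ : M4) *ᵥ e ≠ 0
      intro h0
      apply hw
      rw [← mo _ e sv1, h0, Matrix.mulVec_zero]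
    · exact h2
    · show (v₁ : M4) *ᵥ ((v₂ : M4) *ᵥ e) ≠ 0
      intro h0
      apply h2
      show (v₂ : M4) *ᵥ e = 0
      rw [← mo _ ((v₂ : M4) *ᵥ e) sv1, h0, Matrix.mulVec_zero]
  let Pm : M4 := Matrix.of fun i j => b j i
  have hinj : ∀ a : Fin 4 → F, Pm *ᵥ a = 0 → a = 0 := by
    intro a ha
    have hsum : ∀ a : Fin 4 → F, Pm *ᵥ a = ∑ j, a j • b j := fun a => by
      ext i
      simp [Matrix.mulVec, dotProduct, Pm, Finset.sum_apply, mul_comm]
    rw [hsum] at ha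
    have h1 : ∀ (u : M4) (s : Fin 4), (∀ j, u *ᵥ b j = chi F s j • b j) → ∀ a : Fin 4 → F,
        (∑ j, a j • b j = 0) → ∑ j, (chi F s j * a j) • b j = 0 := by
      intro u s hu a ha
      have := congrArg (fun x => u *ᵥ x) ha
      simp only [Matrix.mulVec_zero, Matrix.mulVec_sum, Matrix.mulVec_smul, hu, smul_smul] at this
      rw [← this]
      exact Finset.sum_congr rfl fun j _ => by rw [mul_comm]
    have a1 := h1 _ 1 hU1 a ha
    have a2 := h1 _ 2 hU2 a ha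
    have a3 := h1 _ 2 hU2 _ a1
    simp only [Fin.sum_univ_four, chi, sg] at ha a1 a2 a3
    simp at ha a1 a2 a3
    have four : (4 : F) ≠ 0 := by
      rw [show (4 : F) = 2 * 2 by norm_num]; exact mul_ne_zero h.two h.two
    funext j
    refine (smul_eq_zero.1 ?_).resolve_right (hne j)
    refine (smul_eq_zero.1 (?_ : (4 : F) • (a j • b j) = 0)).resolve_left four
    fin_cases j
    · show (4 : F) • (a 0 • b 0) = 0
      linear_combination (norm := module) ha + a1 + a2 + a3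
    · show (4 : F) • (a 1 • b 1) = 0
      linear_combination (norm := module) ha - a1 + a2 - a3
    · show (4 : F) • (a 2 • b 2) = 0
      linear_combination (norm := module) ha + a1 - a2 - a3
    · show (4 : F) • (a 3 • b 3) = 0
      linear_combination (norm := module) ha - a1 - a2 + a3
  have hP : IsUnit Pm := Matrix.mulVec_injective_iff_isUnit.1 fun x y hxy => by
    refine sub_eq_zero.1 (hinj _ ?_)
    rw [Matrix.mulVec_sub, hxy, sub_self]
  let P : G4 := hP.unit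
  refine ⟨P, ?_⟩
  have hkey : ∀ (g : G4) (N : M4), (g : M4) * Pm = Pm * N → ((P⁻¹ * g * P : G4) : M4) = N := by
    intro g N hgN
    rw [Units.val_mul, Units.val_mul, mul_assoc, show (P : M4) = Pm from rfl, hgN, ← mul_assoc,
      show Pm = (P : M4) from rfl, Units.inv_mul, one_mul]
  have hcol : ∀ (g : G4) (t s : Fin 4), (∀ j, (g : M4) *ᵥ b j = chi F s j • b (tr t j)) →
      (g : M4) * Pm = Pm * W F t s := by
    intro g t s hg
    ext i j
    rw [Matrix.mul_apply, Matrix.mul_apply]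
    have h1 := congrFun (hg j) i
    simp only [Matrix.mulVec, dotProduct, Pi.smul_apply, smul_eq_mul] at h1
    trans chi F s j * b (tr t j) i
    · exact h1
    · rw [Finset.sum_eq_single (tr t j) (fun k _ hk => by simp [W, hk]) (by simp), W_apply_chi]
      exact mul_comm _ _
  have chi0 : ∀ j, chi F 0 j = 1 := fun j => by fin_cases j <;> simp [chi, sg]
  have k1 : ((P⁻¹ * u₁ * P : G4) : M4) = W F 0 1 := hkey _ _ (hcol _ _ _ fun j => by rw [zero_tr]; exact hU1 j)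
  have k2 : ((P⁻¹ * u₂ * P : G4) : M4) = W F 0 2 := hkey _ _ (hcol _ _ _ fun j => by rw [zero_tr]; exact hU2 j)
  have k3 : ((P⁻¹ * v₁ * P : G4) : M4) = W F 1 0 := hkey _ _ (hcol _ _ _ fun j => by rw [chi0, one_smul]; exact hV1 j)
  have k4 : ((P⁻¹ * v₂ * P : G4) : M4) = W F 2 0 := hkey _ _ (hcol _ _ _ fun j => by rw [chi0, one_smul]; exact hV2 j)
  have kmul : ∀ g g' : G4, ((P⁻¹ * (g * g') * P : G4) : M4) =
      ((P⁻¹ * g * P : G4) : M4) * ((P⁻¹ * g' * P : G4) : M4) := fun g g' => by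
    rw [← Units.val_mul]; congr 1; group
  have kone : ((P⁻¹ * 1 * P : G4) : M4) = W F 0 0 := by simp [W_zero]
  have hall : ∀ t s : Fin 4, ∃ g ∈ R, ((P⁻¹ * g * P : G4) : M4) = W F t s := by
    have hT : ∀ t : Fin 4, ∃ g ∈ R, ((P⁻¹ * g * P : G4) : M4) = W F t 0 := by
      intro t
      fin_cases t
      · exact ⟨1, one_mem R, kone⟩
      · exact ⟨v₁, hv1, k3⟩
      · exact ⟨v₂, hv2, k4⟩
      · exact ⟨v₁ * v₂, mul_mem hv1 hv2, by rw [kmul, k3, k4]; exact W_three_zero⟩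
    have hS : ∀ s : Fin 4, ∃ g ∈ R, ((P⁻¹ * g * P : G4) : M4) = W F 0 s := by
      intro s
      fin_cases s
      · exact ⟨1, one_mem R, kone⟩
      · exact ⟨u₁, hu1, k1⟩
      · exact ⟨u₂, hu2, k2⟩
      · exact ⟨u₁ * u₂, mul_mem hu1 hu2, by rw [kmul, k1, k2]; exact W_zero_three⟩
    intro t s
    obtain ⟨g, hg, e1⟩ := hT t
    obtain ⟨g', hg', e2⟩ := hS s
    exact ⟨g * g', mul_mem hg hg', by rw [kmul, e1, e2, W_split]⟩
  obtain ⟨z, hzR, hzv⟩ := h.scal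
  have hzk : ∀ k : ℕ, ((P⁻¹ * z ^ k * P : G4) : M4) = I ^ k • 1 := fun k => by
    rw [Units.val_mul, Units.val_mul, Units.val_pow_eq_pow_val, hzv, smul_pow, one_pow, mul_smul_comm, mul_one,
      smul_mul_assoc, Units.inv_mul]
  refine ⟨fun g hg => ?_, fun k t s => ?_⟩
  · obtain ⟨a, g1, hg1, e1, f1, -⟩ := h.kill hu1 hv1 auv1 sv1 hg
    obtain ⟨b', g2, hg2, e2, f2, p2⟩ := h.kill hv1 hu1 avu1 su1 hg1
    have e1' := p2 _ rfl e1
    obtain ⟨c, g3, hg3, e3, f3, p3⟩ := h.kill hu2 hv2 auv2 sv2 hg2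
    obtain ⟨d, g4, hg4, e4, f4, p4⟩ := h.kill hv2 hu2 avu2 su2 hg3
    have c1 : Commute (u₁ : M4) (g4 : M4) := p4 _ cu (p3 _ cuv e1')
    have c2 : Commute (v₁ : M4) (g4 : M4) := p4 _ cvu (p3 _ cv e2)
    have c3 : Commute (u₂ : M4) (g4 : M4) := p4 _ rfl e3
    have c4 : Commute (v₂ : M4) (g4 : M4) := e4
    -- the remaining factor is a scalar
    set X : M4 := ((P⁻¹ * g4 * P : G4) : M4) with hX
    have hXc : ∀ (g : G4) (N : M4), ((P⁻¹ * g * P : G4) : M4) = N → Commute (g : M4) (g4 : M4) → N * X = X * N := by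
      intro g N hN hc
      rw [← hN, hX, ← kmul, ← kmul, (show g * g4 = g4 * g from Units.ext hc.eq)]
    have x1 := hXc _ _ k1 c1
    have x2 := hXc _ _ k2 c3
    have x3 := hXc _ _ k3 c2
    have x4 := hXc _ _ k4 c4
    have hXs : X = X 0 0 • 1 := W_commutant h.two x1 x2 x3 x4
    set k0 := X 0 0 with hk0
    have hk4 : k0 ^ 4 = 1 := by
      have hsq : ((g4 : M4) * g4) * ((g4 : M4) * g4) = 1 := by
        rcases h.sq g4 hg4 with e | e <;> simp [e]
      have h4 : X ^ 4 = 1 := by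
        rw [hX, ← Units.val_pow_eq_pow_val, show (P⁻¹ * g4 * P) ^ 4 = P⁻¹ * (g4 * g4 * (g4 * g4)) * P by
          simp only [pow_succ, pow_zero, one_mul]; group,
          show g4 * g4 * (g4 * g4) = 1 from Units.ext (by simpa using hsq)]
        simp
      rw [hXs, smul_pow, one_pow] at h4
      simpa using congrFun (congrFun h4 0) 0
    obtain ⟨k, hk⟩ : ∃ k : Fin 4, k0 = I ^ (k : ℕ) := by
      have e : (k0 * k0 - 1) * (k0 * k0 + 1) = 0 := by linear_combination hk4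
      rcases mul_eq_zero.1 e with e | e
      · rcases mul_self_eq_one_iff.1 (sub_eq_zero.1 e) with e | e
        · exact ⟨0, by simp [e]⟩
        · exact ⟨2, by rw [e]; show -1 = I ^ 2; rw [pow_two, h.I_sq]⟩
      · have e' : k0 * k0 = I * I := by rw [h.I_sq]; linear_combination e
        rcases mul_self_eq_mul_self_iff.1 e' with e | e
        · exact ⟨1, by simp [e]⟩
        · exact ⟨3, by rw [e]; show -I = I ^ 3; rw [pow_succ, pow_two, h.I_sq, neg_one_mul]⟩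
    have hg' : g = v₁ ^ (a : ℕ) * u₁ ^ (b' : ℕ) * (v₂ ^ (c : ℕ) * u₂ ^ (d : ℕ)) * g4 := Units.ext (by
      simp only [Units.val_mul, Units.val_pow_eq_pow_val]
      rw [f1, f2, f3, f4]
      simp only [mul_assoc])
    have hsw : (u₁ : M4) ^ (b' : ℕ) * (v₂ : M4) ^ (c : ℕ) = (v₂ : M4) ^ (c : ℕ) * (u₁ : M4) ^ (b' : ℕ) :=
      ((show Commute (u₁ : M4) (v₂ : M4) from cuv).pow_pow _ _).eq
    obtain ⟨t, ht⟩ : ∃ t, ((P⁻¹ * (v₁ ^ (a : ℕ) * v₂ ^ (c : ℕ)) * P : G4) : M4) = W F t 0 := by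
      fin_cases a <;> fin_cases c
      · exact ⟨0, by simp [W_zero]⟩
      · exact ⟨2, by simpa using k4⟩
      · exact ⟨1, by simpa using k3⟩
      · exact ⟨3, by rw [kmul]; simpa [k3, k4] using W_three_zero (F := F)⟩
    obtain ⟨s, hs⟩ : ∃ s, ((P⁻¹ * (u₁ ^ (b' : ℕ) * u₂ ^ (d : ℕ)) * P : G4) : M4) = W F 0 s := by
      fin_cases b' <;> fin_cases d
      · exact ⟨0, by simp [W_zero]⟩
      · exact ⟨2, by simpa using k2⟩
      · exact ⟨1, by simpa using k1⟩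
      · exact ⟨3, by rw [kmul]; simpa [k1, k2] using W_zero_three (F := F)⟩
    refine ⟨k, t, s, ?_⟩
    have hg'' : g = v₁ ^ (a : ℕ) * v₂ ^ (c : ℕ) * (u₁ ^ (b' : ℕ) * u₂ ^ (d : ℕ)) * g4 := by
      rw [hg']
      refine Units.ext ?_
      simp only [Units.val_mul, Units.val_pow_eq_pow_val]
      simp only [mul_assoc]
      rw [← mul_assoc ((u₁ : M4) ^ (b' : ℕ)), hsw, mul_assoc]
    rw [hg'', kmul, kmul, ht, hs, ← hX, hXs, W_split, mul_smul_comm, mul_one, hk]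
  · obtain ⟨g, hg, e⟩ := hall t s
    exact ⟨z ^ (k : ℕ) * g, mul_mem (pow_mem hzR _) hg, by rw [kmul, hzk, e, smul_mul_assoc, one_mul]⟩

end Grp

end Cfsg.Agent.Lib.SUFour.PauliFrame
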