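import Cfsg.Agent.Lib.SUFour.Defs
import Cfsg.Agent.Lib.SpFourEven.Simple

/-! A conjugate-linear involution compatible with the Hermitian form gives a subfield group of index two. -/

set_option autoImplicit false
set_option linter.unusedSectionVars false

open scoped Matrix MatrixGroups

namespace Cfsg.Agent.Lib.SUFour

variable {F : Type*} [Field F] [Fintype F] {q : ℕ}

theorem real_structure (hF : Fintype.card F = q ^ 2) {H : Subgroup (GL (Fin 4) F)}
    (hH : Cfsg.Geo.IsMaximalIn (UnitPrimeDim.omegaU 4 F q) H) (ε : F) (J : (Fin 4 → F) → (Fin 4 → F))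
    (hadd : ∀ x y, J (x + y) = J x + J y) (hs : ∀ (c : F) x, J (c • x) = c ^ q • J x) (hJJ : ∀ x, J (J x) = x)
    (hh : ∀ v w, Cfsg.hermForm 4 F q (J v) (J w) = ε * (Cfsg.hermForm 4 F q v w) ^ q)
    (hcomm : ∀ g ∈ H, ∃ μ : F, ∀ v, J (ac g v) = μ • ac g (J v))
    (hcase : (ε = 1 ∧ Odd q) ∨ (ε = -1 ∧ ∀ u, J u = u → Cfsg.hermForm 4 F q u u = 0)) : Cases q H := by
  classical
  let σ : F →+* F := Classical.conjHom hF
  have hσ : ∀ x, σ x = x ^ q := fun x => Classical.conjHom_apply hF x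
  have hσσ : ∀ x, σ (σ x) = x := fun x => Classical.conjHom_conjHom hF x
  have hq2 : 2 ≤ q := Classical.two_le_q hF
  let F₀ : Subfield F := RingHom.eqLocusField σ (RingHom.id F)
  have hmem : ∀ x, x ∈ F₀ ↔ σ x = x := fun x => Iff.rfl
  have hdvd : q - 1 ∣ Nat.card F - 1 := by
    rw [Nat.card_eq_fintype_card, hF]; simpa using Nat.sub_dvd_pow_sub_pow q 1 2
  have hF0 : Nat.card F₀ = q := by
    rw [← SpFourEven.card_fix (C := F) hq2 hdvd]
    exact Nat.card_congr (Equiv.subtypeEquivRight fun x => by rw [hmem, hσ])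
  have hF0top : F₀ ≠ ⊤ := by
    intro h
    have h1 : Nat.card F₀ = Nat.card F := by rw [h]; exact Nat.card_congr (Subfield.topEquiv (K := F)).toEquiv
    rw [hF0, Nat.card_eq_fintype_card, hF] at h1
    nlinarith
  obtain ⟨l, hl⟩ : ∃ l : F, σ l ≠ l := by
    by_contra hcon
    push Not at hcon
    exact hF0top (eq_top_iff.2 fun x _ => (hmem x).2 (hcon x))
  have hs' : ∀ (c : F) x, J (c • x) = σ c • J x := fun c x => by rw [hs, hσ]
  set S : Set (Fin 4 → F) := {v | J v = v} with hS
  have hspan : Submodule.span F S = ⊤ := by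
    rw [eq_top_iff]
    rintro v -
    have h1 : v + J v ∈ S := by show J _ = _; rw [hadd, hJJ, add_comm]
    have h2 : l • v + σ l • J v ∈ S := by
      show J _ = _
      rw [hadd, hs', hs', hJJ, hσσ, add_comm]
    have h3 : (l • v + σ l • J v) - σ l • (v + J v) ∈ Submodule.span F S :=
      sub_mem (Submodule.subset_span h2) (Submodule.smul_mem _ _ (Submodule.subset_span h1))
    rw [smul_add, add_sub_add_right_eq_sub, ← sub_smul] at h3
    have := Submodule.smul_mem _ (l - σ l)⁻¹ h3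
    rwa [smul_smul, inv_mul_cancel₀ (sub_ne_zero.2 (Ne.symm hl)), one_smul] at this
  obtain ⟨b, hbS, hbspan, hbli⟩ := exists_linearIndependent F S
  let bb : Module.Basis b F (Fin 4 → F) := Module.Basis.mk hbli (by rw [Subtype.range_coe, hbspan, hspan])
  haveI : Fintype b := Fintype.ofFinite b
  have hcardb : Fintype.card b = Fintype.card (Fin 4) := by
    rw [← Module.finrank_eq_card_basis bb, Module.finrank_fintype_fun_eq_card]
  let bι := bb.reindex (Fintype.equivOfCardEq hcardb)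
  have hbι : ∀ i, J (bι i) = bι i := fun i => by
    show J (bb.reindex _ i) = bb.reindex _ i
    rw [Module.Basis.reindex_apply, Module.Basis.mk_apply]
    exact hbS (Subtype.coe_prop _)
  let e : (Fin 4 → F) ≃ₗ[F] (Fin 4 → F) := bι.equivFun.symm
  let P : GL (Fin 4) F := Matrix.GeneralLinearGroup.toLin.symm (LinearMap.GeneralLinearGroup.ofLinearEquiv e)
  have hP : ∀ x, ac P x = e x := fun x => by
    show (P : Matrix (Fin 4) (Fin 4) F) *ᵥ x = _
    rw [← Matrix.toLin'_apply]
    exact LinearMap.congr_fun (congrArg Units.val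
      ((Matrix.GeneralLinearGroup.toLin (n := Fin 4) (R := F)).apply_symm_apply
        (LinearMap.GeneralLinearGroup.ofLinearEquiv e))) x
  let Jh : (Fin 4 → F) →+ (Fin 4 → F) := AddMonoidHom.mk' J hadd
  have hPσ : ∀ x, J (ac P x) = ac P (σ ∘ x) := fun x => by
    rw [hP, hP]
    show J (bι.equivFun.symm x) = bι.equivFun.symm (σ ∘ x)
    rw [Module.Basis.equivFun_symm_apply, Module.Basis.equivFun_symm_apply]
    show Jh _ = _
    rw [map_sum]
    refine Finset.sum_congr rfl fun i _ => ?_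
    show J (x i • bι i) = σ (x i) • bι i
    rw [hs', hbι]
  have hfix : ∀ u : Fin 4 → F, (∀ i, u i ∈ F₀) → J (ac P u) = ac P u := fun u hu => by
    rw [hPσ, show σ ∘ u = u from funext fun i => (hmem _).1 (hu i)]
  have hle : H ≤ Cfsg.Geo.subfieldSubgroup F₀ P := by
    intro g hg
    obtain ⟨μ, hμ⟩ := hcomm g hg
    set X : GL (Fin 4) F := P⁻¹ * g * P with hX
    have hPX : ∀ y, ac g (ac P y) = ac P (ac X y) := fun y => by
      rw [← ac_mul, ← ac_mul, hX]; congr 1; group
    have hσX : ∀ i j, σ ((X : Matrix (Fin 4) (Fin 4) F) i j) = μ * (X : Matrix (Fin 4) (Fin 4) F) i j := by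
      intro i j
      have h1 : ac P (σ ∘ ac X (Pi.single j 1)) = ac P (μ • ac X (Pi.single j 1)) := by
        have h2 := hμ (ac P (Pi.single j 1))
        rw [hPX, hPσ, hfix _ (fun k => by
          by_cases hk : k = j
          · subst hk; rw [Pi.single_eq_same]; exact one_mem _
          · rw [Pi.single_eq_of_ne hk]; exact zero_mem _), hPX] at h2
        rw [h2]; exact (Matrix.mulVec_smul _ _ _).symm
      have h3 := congrArg (ac P⁻¹) h1
      rw [ac_inv_ac, ac_inv_ac] at h3
      have h4 := congrFun h3 i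
      simpa [ac, Matrix.mulVec_single_one] using h4
    obtain ⟨a, b', hab⟩ : ∃ a b, (X : Matrix (Fin 4) (Fin 4) F) a b ≠ 0 := by
      by_contra hcon
      push Not at hcon
      exact X.ne_zero (Matrix.ext hcon)
    set t := (X : Matrix (Fin 4) (Fin 4) F) a b' with ht
    have hμ0 : μ ≠ 0 := fun e => hab (σ.injective (by rw [hσX, e, zero_mul, map_zero]))
    let Y : Matrix (Fin 4) (Fin 4) F₀ := fun k l => ⟨t⁻¹ * (X : Matrix (Fin 4) (Fin 4) F) k l, by
      rw [hmem, map_mul, map_inv₀, hσX, hσX, mul_inv, mul_mul_mul_comm, inv_mul_cancel₀ hμ0, one_mul]⟩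
    have hYmap : Y.map F₀.subtype = t⁻¹ • (X : Matrix (Fin 4) (Fin 4) F) := rfl
    have hYdet : IsUnit Y.det := by
      have h1 : IsUnit ((Y.map F₀.subtype).det) := by
        rw [hYmap, Matrix.det_smul]
        exact ((isUnit_iff_ne_zero.2 (inv_ne_zero hab)).pow _).mul ((Matrix.isUnit_iff_isUnit_det _).1 X.isUnit)
      rw [← RingHom.mapMatrix_apply, ← RingHom.map_det] at h1
      exact isUnit_iff_ne_zero.2 fun e => h1.ne_zero (by rw [e, map_zero])
    let tU : GL (Fin 4) F := Units.map (Matrix.scalar (Fin 4) : F →+* _).toMonoidHom (Units.mk0 t hab)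
    have hXeq : X = Matrix.GeneralLinearGroup.map F₀.subtype (Matrix.GeneralLinearGroup.mk'' Y hYdet) * tU := by
      refine Units.ext ?_
      show (X : Matrix (Fin 4) (Fin 4) F) = Y.map F₀.subtype * Matrix.scalar (Fin 4) t
      rw [hYmap, Matrix.scalar_apply, ← Matrix.smul_one_eq_diagonal, Matrix.mul_smul, Matrix.mul_one, smul_smul,
        mul_inv_cancel₀ hab, one_smul]
    refine ⟨X, hXeq ▸ Subgroup.mul_mem_sup ⟨_, rfl⟩ ⟨_, rfl⟩, ?_⟩
    show P * X * P⁻¹ = g
    rw [hX]; group
  have hcard : Fintype.card F = Nat.card F₀ ^ 2 := by rw [hF0, hF]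
  have heq := eq_inf hH hle (UnitPrimeDim.not_le_subfieldSubgroup hF le_rfl F₀ hF0top P)
  rcases hcase with ⟨rfl, hodd⟩ | ⟨rfl, hdiag⟩
  · refine Or.inr (Or.inr (Or.inr (Or.inr (Or.inr (Or.inr (Or.inr (Or.inl ⟨hodd, F₀, P, hcard, ?_, heq⟩)))))))
    intro u v hu hv
    rw [hmem, one_mul, hσ]
    have := hh (ac P u) (ac P v)
    rw [hfix u hu, hfix v hv, one_mul] at this
    exact this.symm
  · refine Or.inr (Or.inr (Or.inr (Or.inr (Or.inr (Or.inr (Or.inl
      ⟨F₀, P, l - σ l, hcard, sub_ne_zero.2 (Ne.symm hl), ?_, ?_, fun u hu => hdiag _ (hfix u hu), heq⟩))))))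
    · rw [← hσ, map_sub, hσσ]; ring
    · intro u v hu hv
      have := hh (ac P u) (ac P v)
      rw [hfix u hu, hfix v hv] at this
      rw [hmem, map_mul, map_sub, hσσ, hσ (Cfsg.hermForm 4 F q _ _)]
      linear_combination (-(l - σ l)) * this

end Cfsg.Agent.Lib.SUFour
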