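import Cfsg.Agent.Lib.SUFour.Clifford

/-!
A normal subgroup that is abelian modulo scalars: a monomial frame with eighth roots of unity, and its consequences.
-/

set_option autoImplicit false
set_option linter.unusedSectionVars false

open scoped Matrix MatrixGroups commutatorElement

namespace Cfsg.Agent.Lib.SUFour.Six

variable {F : Type*} [Field F] [Fintype F] {q : ℕ}

local notation "MM" => Matrix (Fin 4) (Fin 4) F

/-- squares are scalar and any two elements commute up to sign -/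
structure Sign (N : Subgroup (GL (Fin 4) F)) : Prop where
  sq : ∀ x ∈ N, ∃ z : F, z ^ 4 = 1 ∧ (x : MM) * x = z • (1 : MM)
  comm : ∀ a ∈ N, ∀ b ∈ N, ∃ ε : F, (ε = 1 ∨ ε = -1) ∧ (a : MM) * b = ε • ((b : MM) * a)
  absIrred : Cfsg.Geo.ActsAbsolutelyIrreducibly (Cfsg.Geo.matrixSet N)
  det_one : ∀ x ∈ N, (x : MM).det = 1

theorem mem_scalars_of_val {g : GL (Fin 4) F} {c : F} (h : (g : MM) = c • 1) :
    g ∈ Cfsg.Geo.scalars (Fin 4) F :=
  (Cfsg.Geo.mem_scalars_iff g).2 ⟨Units.mk0 c fun e => g.ne_zero (by rw [h, e, zero_smul]), h⟩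

theorem pow_four_of_scalar {x : GL (Fin 4) F} (hd : (x : MM).det = 1) {c : F} (hc : (x : MM) = c • 1) : c ^ 4 = 1 := by
  rw [hc, Matrix.det_smul, Matrix.det_one, mul_one, Fintype.card_fin] at hd
  exact hd

/-- the relations follow from minimality -/
theorem sign_of_min (hF : Fintype.card F = q ^ 2) {H N : Subgroup (GL (Fin 4) F)}
    (hH : Cfsg.Geo.IsMaximalIn (UnitPrimeDim.omegaU 4 F q) H) (hn : NormalIn H N)
    (hNZ : ¬ N ≤ Cfsg.Geo.scalars (Fin 4) F) (habs : Cfsg.Geo.ActsAbsolutelyIrreducibly (Cfsg.Geo.matrixSet N))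
    (hcomm : ⁅N, N⁆ ≤ Cfsg.Geo.scalars (Fin 4) F)
    (hmin : ∀ M, NormalIn H M → M ≤ N → M ≤ Cfsg.Geo.scalars (Fin 4) F ∨ M = N) : Sign N := by
  classical
  have hdet : ∀ x ∈ N, (x : MM).det = 1 := fun x hx => by
    have h := (hH.1.le (hn.le hx)).2
    simpa using congrArg Units.val h
  have hχ : ∀ a ∈ N, ∀ b ∈ N, ∃ ε : F, ε ^ 4 = 1 ∧ (a : MM) * b = ε • ((b : MM) * a) := by
    intro a ha b hb
    obtain ⟨c, hc⟩ := (Cfsg.Geo.mem_scalars_iff _).1 (hcomm (Subgroup.commutator_mem_commutator ha hb))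
    refine ⟨c, pow_four_of_scalar (hdet _ ?_) hc, ?_⟩
    · rw [commutatorElement_def]
      exact mul_mem (mul_mem (mul_mem ha hb) (inv_mem ha)) (inv_mem hb)
    · calc (a : MM) * b = ((⁅a, b⁆ * (b * a) : GL (Fin 4) F) : MM) := by
            rw [← Units.val_mul]; congr 1; simp only [commutatorElement_def]; group
        _ = _ := by rw [Units.val_mul, hc, Matrix.smul_mul, Matrix.one_mul, Units.val_mul]
  have hfour : ∀ x ∈ N, ∃ c : F, ((x : MM) * x) * (x * x) = c • (1 : MM) := by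
    intro x hx
    refine habs.2 _ ?_
    rintro _ ⟨y, hy, rfl⟩
    obtain ⟨ε, hε, h⟩ := hχ x hx y hy
    have step : ∀ (A : MM) (k : F), A * (y : MM) = k • ((y : MM) * A) →
        ((x : MM) * A) * y = (k * ε) • ((y : MM) * ((x : MM) * A)) := fun A k hA => by
      rw [mul_assoc, hA, Matrix.mul_smul, ← mul_assoc, h, Matrix.smul_mul, smul_smul, mul_assoc]
    have h2 := step (x : MM) ε h
    have h3 := step _ _ h2
    have h4 := step _ _ h3
    rw [show ε * ε * ε * ε = 1 by linear_combination hε, one_smul] at h4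
    calc ((x : MM) * x) * (x * x) * y = ((x : MM) * (x * ((x : MM) * x))) * y := by simp only [mul_assoc]
      _ = _ := by rw [h4]; simp only [mul_assoc]
  let K : Subgroup (GL (Fin 4) F) :=
    { carrier := {x | x ∈ N ∧ ∃ z : F, (x : MM) * x = z • (1 : MM)}
      one_mem' := ⟨one_mem N, 1, by simp⟩
      mul_mem' := fun {a b} ha hb => by
        obtain ⟨haN, s, hs⟩ := ha
        obtain ⟨hbN, t, ht⟩ := hb
        obtain ⟨ε, -, h⟩ := hχ b hbN a haN
        refine ⟨mul_mem haN hbN, ε * (s * t), ?_⟩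
        calc ((a * b : GL (Fin 4) F) : MM) * (a * b : GL (Fin 4) F) = (a : MM) * ((b : MM) * a) * b := by
              simp only [Units.val_mul, mul_assoc]
          _ = ε • ((((a : MM) * a)) * ((b : MM) * b)) := by
              rw [h, Matrix.mul_smul, Matrix.smul_mul]; simp only [mul_assoc]
          _ = _ := by rw [hs, ht, Matrix.smul_mul, Matrix.one_mul, smul_smul, smul_smul, mul_assoc]
      inv_mem' := fun {a} ha => by
        obtain ⟨haN, s, hs⟩ := ha
        refine ⟨inv_mem haN, s⁻¹, ?_⟩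
        have hs0 : s ≠ 0 := fun e => (a * a).ne_zero (by rw [Units.val_mul, hs, e, zero_smul])
        have h1 : ((a⁻¹ : GL (Fin 4) F) : MM) * (a⁻¹ : GL (Fin 4) F) * ((a : MM) * a) = 1 := by
          rw [← Units.val_mul, ← Units.val_mul, ← Units.val_mul, show a⁻¹ * a⁻¹ * (a * a) = 1 by group, Units.val_one]
        rw [hs, Matrix.mul_smul, Matrix.mul_one] at h1
        rw [← h1, smul_smul, inv_mul_cancel₀ hs0, one_smul] }
  have hK : NormalIn H K := ⟨fun x hx => hn.le hx.1, fun g hg x hx => by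
    obtain ⟨hxN, z, hz⟩ := hx
    refine ⟨hn.conj g hg x hxN, z, ?_⟩
    rw [← Units.val_mul, show g * x * g⁻¹ * (g * x * g⁻¹) = g * (x * x) * g⁻¹ by group, Units.val_mul,
      Units.val_mul, Units.val_mul, hz, Matrix.mul_smul, Matrix.mul_one, Matrix.smul_mul, Units.mul_inv]⟩
  have hKN : K = N := by
    rcases hmin K hK (fun x hx => hx.1) with h | h
    swap
    · exact h
    exfalso
    refine hNZ fun x hx => ?_
    have h2 : x * x ∈ K := ⟨mul_mem hx hx, by
      obtain ⟨c, hc⟩ := hfour x hx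
      exact ⟨c, by rw [Units.val_mul]; exact hc⟩⟩
    obtain ⟨z, hz⟩ := (Cfsg.Geo.mem_scalars_iff _).1 (h h2)
    exact h (show x ∈ K from ⟨hx, z, by rw [← Units.val_mul]; exact hz⟩)
  have hsq : ∀ x ∈ N, ∃ z : F, z ^ 4 = 1 ∧ (x : MM) * x = z • (1 : MM) := fun x hx => by
    obtain ⟨-, z, hz⟩ := (hKN.symm ▸ hx : x ∈ K)
    exact ⟨z, pow_four_of_scalar (x := x * x) (hdet _ (mul_mem hx hx)) (by rw [Units.val_mul]; exact hz),
      by exact hz⟩
  refine ⟨hsq, fun a ha b hb => ?_, habs, hdet⟩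
  obtain ⟨ε, -, h⟩ := hχ a ha b hb
  obtain ⟨z, hz4, hz⟩ := hsq a ha
  refine ⟨ε, mul_self_eq_one_iff.1 ?_, h⟩
  have h1 : (a : MM) * a * b = (ε * ε) • ((b : MM) * ((a : MM) * a)) := by
    rw [mul_assoc, h, Matrix.mul_smul, ← mul_assoc, h, Matrix.smul_mul, smul_smul, mul_assoc]
  rw [hz, Matrix.smul_mul, Matrix.one_mul, Matrix.mul_smul, Matrix.mul_one, smul_smul] at h1
  have hz0 : z ≠ 0 := fun e => by rw [e, zero_pow four_ne_zero] at hz4; exact zero_ne_one hz4
  have h5 : z = ε * ε * z := smul_left_injective F b.ne_zero h1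
  exact mul_right_cancel₀ hz0 (by rw [one_mul]; exact h5.symm)

theorem two_ne_zero_of (hS : ∃ N : Subgroup (GL (Fin 4) F), Sign N) : (2 : F) ≠ 0 := by
  obtain ⟨N, hS⟩ := hS
  intro h2
  have hneg : (-1 : F) = 1 := by linear_combination -h2
  have hall : ∀ a ∈ N, ∃ c : F, (a : MM) = c • (1 : MM) := fun a ha => hS.absIrred.2 _ (by
    rintro _ ⟨b, hb, rfl⟩
    obtain ⟨ε, hε, h⟩ := hS.comm a ha b hb
    rcases hε with rfl | rfl
    · rwa [one_smul] at h
    · rwa [hneg, one_smul] at h)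
  rcases hS.absIrred.1 (Submodule.span F {Pi.single 0 1}) (by
    rintro _ ⟨a, ha, rfl⟩
    rw [Submodule.map_span, Set.image_singleton, Submodule.span_le, Set.singleton_subset_iff, SetLike.mem_coe,
      Matrix.toLin'_apply]
    obtain ⟨c, hc⟩ := hall a ha
    show (a : MM) *ᵥ _ ∈ _
    rw [hc, Matrix.smul_mulVec, Matrix.one_mulVec]
    exact Submodule.smul_mem _ _ (Submodule.mem_span_singleton_self _)) with e | e
  · exact (show (Pi.single 0 1 : Fin 4 → F) ≠ 0 by simp) (by simpa using e)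
  · have h1 := finrank_span_singleton (K := F) (show (Pi.single 0 1 : Fin 4 → F) ≠ 0 by simp)
    rw [e, finrank_top, Module.finrank_fin_fun] at h1
    omega

/-- a monomial frame in which a given element is diagonal -/
theorem exists_frame (hF : Fintype.card F = q ^ 2) {N : Subgroup (GL (Fin 4) F)} (hS : Sign N)
    {x₀ : GL (Fin 4) F} (hx₀ : x₀ ∈ N) :
    ∃ P : GL (Fin 4) F, (∀ x ∈ N, ∀ j : Fin 4, ∃ (i : Fin 4) (l : F), l ^ 8 = 1 ∧
        (((P⁻¹ : GL (Fin 4) F) : MM) * (x : MM) * (P : MM)) *ᵥ Pi.single j 1 = l • Pi.single i 1) ∧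
      ∀ i j : Fin 4, i ≠ j → (((P⁻¹ : GL (Fin 4) F) : MM) * (x₀ : MM) * (P : MM)) i j = 0 := by
  classical
  have h2 : (2 : F) ≠ 0 := two_ne_zero_of ⟨N, hS⟩
  have hq : Odd q := by
    by_contra he
    obtain ⟨p, hp⟩ := CharP.exists F
    obtain ⟨n, hpp, hn⟩ := FiniteField.card F p
    haveI := hp
    rcases hpp.eq_two_or_odd' with h | h
    · exact h2 (by rw [h] at hp; exact_mod_cast @CharP.cast_eq_zero F _ 2 hp)
    · have : Odd (q ^ 2) := by rw [← hF, hn]; exact h.pow
      exact he ((Nat.odd_pow_iff two_ne_zero).1 this)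
  have hsqrt : ∀ z : F, z ^ 4 = 1 → ∃ s : F, z = s * s := by
    intro z hz
    have hz0 : z ≠ 0 := fun e => by rw [e, zero_pow four_ne_zero] at hz; exact zero_ne_one hz
    have hchar : ringChar F ≠ 2 := fun e => h2 (by
      haveI : CharP F 2 := e ▸ ringChar.charP F
      exact_mod_cast CharP.cast_eq_zero F 2)
    refine (FiniteField.isSquare_iff hchar hz0).2 ?_
    obtain ⟨j, rfl⟩ := hq
    obtain ⟨m, hm⟩ := Nat.even_mul_succ_self j
    have hd : Fintype.card F / 2 = 4 * m := by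
      rw [hF, show (2 * j + 1) ^ 2 = 4 * (j * (j + 1)) + 1 by ring, hm]
      omega
    rw [hd, pow_mul, hz, one_pow]
  -- a maximal commutative subgroup containing `x₀`
  obtain ⟨A, ⟨hAN, hx₀A, hAc⟩, hAmax⟩ := Set.Finite.exists_maximal
    (Set.toFinite {A : Subgroup (GL (Fin 4) F) | A ≤ N ∧ x₀ ∈ A ∧ ∀ a ∈ A, ∀ b ∈ A, a * b = b * a})
    ⟨Subgroup.zpowers x₀, Subgroup.zpowers_le.2 hx₀, Subgroup.mem_zpowers x₀, fun a ha b hb => by
      obtain ⟨i, rfl⟩ := Subgroup.mem_zpowers_iff.1 ha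
      obtain ⟨j, rfl⟩ := Subgroup.mem_zpowers_iff.1 hb
      exact (Commute.zpow_zpow_self x₀ i j).eq⟩
  have hmemA : ∀ x ∈ N, (∀ a ∈ A, x * a = a * x) → x ∈ A := by
    intro x hx hxA
    have hle : Subgroup.closure ((A : Set (GL (Fin 4) F)) ∪ {x}) ≤ N :=
      (Subgroup.closure_le _).2 (Set.union_subset hAN (Set.singleton_subset_iff.2 hx))
    have hsub : A ≤ Subgroup.closure ((A : Set (GL (Fin 4) F)) ∪ {x}) :=
      fun a ha => Subgroup.subset_closure (Or.inl ha)
    have hc : IsMulCommutative (Subgroup.closure ((A : Set (GL (Fin 4) F)) ∪ {x})) :=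
      Subgroup.isMulCommutative_closure fun a ha b hb => by
        rcases ha with ha | rfl <;> rcases hb with hb | rfl
        · exact hAc a ha b hb
        · exact (hxA a ha).symm
        · exact hxA b hb
        · rfl
    exact hAmax ⟨hle, hsub hx₀A, fun a ha b hb => congrArg Subtype.val (hc.is_comm.comm ⟨a, ha⟩ ⟨b, hb⟩)⟩ hsub
      (Subgroup.subset_closure (Or.inr rfl))
  -- a common eigenvector of `A`
  obtain ⟨W, ⟨hW, hW0⟩, hWmin⟩ := Set.Finite.exists_minimal
    (Set.toFinite {W : Submodule F (Fin 4 → F) | Inv A W ∧ W ≠ ⊥}) ⟨⊤, fun _ _ _ _ => trivial, top_ne_bot⟩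
  obtain ⟨v, hvW, hv0⟩ := Submodule.exists_mem_ne_zero_of_ne_bot hW0
  have heig : ∀ a ∈ A, ∃ l : F, l ^ 8 = 1 ∧ ac a v = l • v := by
    intro a ha
    obtain ⟨z, hz4, hz⟩ := hS.sq a (hAN ha)
    obtain ⟨s, rfl⟩ := hsqrt z hz4
    have key : ∀ t : F, ∀ u ∈ W, u ≠ 0 → ac a u = t • u → ac a v = t • v := by
      intro t u hu hu0 hau
      let W' : Submodule F (Fin 4 → F) := W ⊓ Module.End.eigenspace (Matrix.toLin' (a : MM)) t
      have hmem : ∀ w, w ∈ W' ↔ w ∈ W ∧ ac a w = t • w := fun w => by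
        simp [W', Module.End.mem_eigenspace_iff, Matrix.toLin'_apply, ac]
      have hI : Inv A W' := fun b hb w hw => by
        rw [hmem] at hw ⊢
        refine ⟨hW b hb w hw.1, ?_⟩
        rw [← ac_mul, hAc a ha b hb, ac_mul, hw.2]
        exact Matrix.mulVec_smul _ _ _
      have hne : W' ≠ ⊥ := fun e => hu0 ((Submodule.eq_bot_iff _).1 e u ((hmem u).2 ⟨hu, hau⟩))
      exact ((hmem v).1 (hWmin ⟨hI, hne⟩ inf_le_left hvW)).2
    by_cases h : ac a v = s • v
    · exact ⟨s, by linear_combination hz4, h⟩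
    · refine ⟨-s, by linear_combination hz4, key (-s) (ac a v - s • v) (sub_mem (hW a ha v hvW)
        (W.smul_mem s hvW)) (sub_ne_zero.2 h) ?_⟩
      show (a : MM) *ᵥ (ac a v - s • v) = _
      rw [Matrix.mulVec_sub, Matrix.mulVec_smul, show (a : MM) *ᵥ ac a v = (s * s) • v by
        rw [Matrix.mulVec_mulVec, hz, Matrix.smul_mulVec, Matrix.one_mulVec]]
      module
  -- the translates of `v` form the frame
  have hspan : Submodule.span F (Set.range fun x : N => ac (x : GL (Fin 4) F) v) = ⊤ := by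
    refine (irreducible_iff.1 hS.absIrred.1 _ fun m hm w hw => ?_).resolve_left fun e => hv0 ?_
    · have hmap : (Submodule.span F (Set.range fun x : N => ac (x : GL (Fin 4) F) v)).map (Matrix.toLin' (m : MM)) ≤
          Submodule.span F (Set.range fun x : N => ac (x : GL (Fin 4) F) v) := by
        rw [Submodule.map_span, Submodule.span_le]
        rintro _ ⟨_, ⟨x, rfl⟩, rfl⟩
        exact Submodule.subset_span ⟨⟨m * x, mul_mem hm x.2⟩, (ac_mul _ _ _).trans (Matrix.toLin'_apply _ _).symm⟩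
      exact hmap ⟨w, hw, Matrix.toLin'_apply _ _⟩
    · exact (Submodule.eq_bot_iff _).1 e v (Submodule.subset_span ⟨1, by simp [ac]⟩)
  obtain ⟨f, hf, hftop, hfli⟩ := Submodule.exists_fun_fin_finrank_span_eq F
    (Set.range fun x : N => ac (x : GL (Fin 4) F) v)
  have h4 : Module.finrank F (Submodule.span F (Set.range fun x : N => ac (x : GL (Fin 4) F) v)) = 4 := by
    rw [hspan, finrank_top, Module.finrank_fin_fun]
  let w : Fin 4 → Fin 4 → F := f ∘ Fin.cast h4.symm
  have hwli : LinearIndependent F w := hfli.comp _ (Fin.cast_injective _)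
  have hwtop : Submodule.span F (Set.range w) = ⊤ := by
    refine Submodule.eq_top_of_finrank_eq ?_
    rw [finrank_span_eq_card hwli, Fintype.card_fin, Module.finrank_fin_fun]
  have hwx : ∀ j, ∃ x ∈ N, w j = ac x v := fun j => by
    obtain ⟨x, hx⟩ := hf (Fin.cast h4.symm j)
    exact ⟨x, x.2, hx.symm⟩
  choose t htN ht using hwx
  -- the sign character
  have hsign : ∀ x ∈ N, ∀ a ∈ A, ∃ ε : F, (ε = 1 ∨ ε = -1) ∧ (a : MM) * x = ε • ((x : MM) * a) ∧
      ∀ l : F, ac a v = l • v → ac a (ac x v) = (ε * l) • ac x v := by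
    intro x hx a ha
    obtain ⟨ε, hε, h⟩ := hS.comm a (hAN ha) x hx
    refine ⟨ε, hε, h, fun l hl => ?_⟩
    show (a : MM) *ᵥ ((x : MM) *ᵥ v) = _
    rw [Matrix.mulVec_mulVec, h, Matrix.smul_mulVec, ← Matrix.mulVec_mulVec, show (a : MM) *ᵥ v = l • v from hl,
      Matrix.mulVec_smul, smul_smul]
  have hmono : ∀ y ∈ N, ∀ j, ∃ (i : Fin 4) (l : F), l ^ 8 = 1 ∧ ac y (w j) = l • w i := by
    intro y hy j
    set u := y * t j with hu
    have huN : u ∈ N := mul_mem hy (htN j)
    have hyu : ac y (w j) = ac u v := by rw [ht, hu, ac_mul]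
    obtain ⟨c, hc⟩ := (Submodule.mem_span_range_iff_exists_fun F).1
      (hwtop ▸ Submodule.mem_top : ac u v ∈ Submodule.span F (Set.range w))
    obtain ⟨i, hi⟩ : ∃ i, c i ≠ 0 := by
      by_contra hcon
      push Not at hcon
      rw [Finset.sum_eq_zero (fun i _ => by rw [hcon, zero_smul])] at hc
      exact hv0 (by rw [← ac_inv_ac u v, ← hc]; exact Matrix.mulVec_zero _)
    have hA : (t i)⁻¹ * u ∈ A := hmemA _ (mul_mem (inv_mem (htN i)) huN) fun a ha => by
      obtain ⟨l, hl8, hl⟩ := heig a ha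
      obtain ⟨α, hα, hαm, hαv⟩ := hsign u huN a ha
      have hk : ∀ k, ∃ β : F, (a : MM) * t k = β • ((t k : MM) * a) ∧ ac a (w k) = (β * l) • w k := fun k => by
        obtain ⟨β, -, hβm, hβv⟩ := hsign (t k) (htN k) a ha
        exact ⟨β, hβm, by rw [ht]; exact hβv l hl⟩
      choose β hβm hβv using hk
      have h1 : ∑ k, (c k * (α * l - β k * l)) • w k = 0 := by
        have e1 := congrArg (ac a) hc
        rw [hαv l hl, ← hc, Finset.smul_sum] at e1
        rw [← sub_eq_zero.2 e1.symm, show ac a (∑ k, c k • w k) = ∑ k, c k • ac a (w k) by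
          simp [ac, Matrix.mulVec_sum, Matrix.mulVec_smul], ← Finset.sum_sub_distrib]
        refine Finset.sum_congr rfl fun k _ => ?_
        rw [hβv, smul_smul, smul_smul, ← sub_smul]
        congr 1
        ring
      have h3 := Fintype.linearIndependent_iff.1 hwli _ h1 i
      have hl0 : l ≠ 0 := fun e => by rw [e, zero_pow (by norm_num)] at hl8; exact zero_ne_one hl8
      have hαβ : α = β i := mul_right_cancel₀ hl0 (sub_eq_zero.1 ((mul_eq_zero.1 h3).resolve_left hi))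
      have hkey : (t i : MM) * ((a * ((t i)⁻¹ * u) : GL (Fin 4) F) : MM) = (t i : MM) * (((t i)⁻¹ * u * a : GL (Fin 4) F) : MM) := by
        have h6 : α • ((t i : MM) * ((a * ((t i)⁻¹ * u) : GL (Fin 4) F) : MM)) =
            α • ((t i : MM) * (((t i)⁻¹ * u * a : GL (Fin 4) F) : MM)) := by
          simp only [Units.val_mul]
          rw [← mul_assoc (t i : MM) (a : MM), ← Matrix.smul_mul, hαβ, ← hβm i, ← hαβ, mul_assoc (a : MM),
            ← mul_assoc (t i : MM), Units.mul_inv, one_mul, hαm, ← mul_assoc (t i : MM), ← mul_assoc (t i : MM),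
            Units.mul_inv, one_mul]
        exact smul_right_injective MM (by rcases hα with rfl | rfl <;> simp) h6
      exact (Units.ext ((t i).isUnit.mul_left_cancel hkey)).symm
    obtain ⟨l, hl8, hl⟩ := heig _ hA
    refine ⟨i, l, hl8, ?_⟩
    rw [hyu, ht i]
    calc ac u v = ac (t i) (ac ((t i)⁻¹ * u) v) := by rw [← ac_mul, mul_inv_cancel_left]
      _ = _ := by rw [hl]; exact Matrix.mulVec_smul _ _ _
  let Pm : MM := Matrix.of fun i j => w j i
  have hPu : IsUnit Pm := Matrix.linearIndependent_cols_iff_isUnit.1 hwli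
  obtain ⟨P, hP⟩ := hPu
  have hPw : ∀ j, (P : MM) *ᵥ Pi.single j 1 = w j := fun j => by
    rw [hP]; funext i; simp [Pm]
  have hback : ∀ j, ((P⁻¹ : GL (Fin 4) F) : MM) *ᵥ w j = Pi.single j 1 := fun j => by
    rw [← hPw, Matrix.mulVec_mulVec, Units.inv_mul, Matrix.one_mulVec]
  refine ⟨P, fun x hx j => ?_, fun i j hij => ?_⟩
  · obtain ⟨i, l, hl8, hl⟩ := hmono x hx j
    refine ⟨i, l, hl8, ?_⟩
    rw [← Matrix.mulVec_mulVec, ← Matrix.mulVec_mulVec, hPw, show (x : MM) *ᵥ w j = l • w i from hl,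
      Matrix.mulVec_smul, hback]
  · obtain ⟨l, -, hl⟩ := heig x₀ hx₀A
    obtain ⟨ε, -, -, hεv⟩ := hsign (t j) (htN j) x₀ hx₀A
    have h1 : (((P⁻¹ : GL (Fin 4) F) : MM) * (x₀ : MM) * (P : MM)) *ᵥ Pi.single j 1 = (ε * l) • Pi.single j 1 := by
      rw [← Matrix.mulVec_mulVec, ← Matrix.mulVec_mulVec, hPw, ht j,
        show (x₀ : MM) *ᵥ ac (t j) v = (ε * l) • ac (t j) v from hεv l hl, ← ht, Matrix.mulVec_smul, hback]
    have h5 := congrFun h1 i
    rwa [Matrix.mulVec_single_one, Pi.smul_apply, Pi.single_eq_of_ne hij, smul_zero] at h5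

end Cfsg.Agent.Lib.SUFour.Six
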